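import Cfsg.Agent.Lib.Invol.ThreeFree.Sections
import Cfsg.Agent.Lib.Invol.CentInt.CoverSz
import Cfsg.Agent.Lib.Lie.Sz.Multiplier

/-!
# Covers of the Suzuki groups
-/

set_option autoImplicit false
set_option linter.style.haveILetI false

open Subgroup

namespace Cfsg.Agent.Invol.ThreeFree

universe u

variable {L : Type u} [Group L] [Finite L]

theorem card_center_le_of_multiplier (hL : Cfsg.IsQuasisimple L) {S : Type} [Group S] {A : Type}
    [CommGroup A] [Finite A] (e : L ⧸ center L ≃* S) (hM : Cfsg.HasSchurMultiplier S A) :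
    Nat.card (center L) ≤ Nat.card A ∧ ∀ z ∈ center L, (∀ w : A, w * w = 1) → z * z = 1 := by
  haveI : Small.{0} L := inferInstance
  let E : Shrink.{0} L ≃* L := Shrink.mulEquiv
  haveI : Finite (Shrink.{0} L) := Finite.of_equiv L E.symm.toEquiv
  let σ : Shrink.{0} L →* S := (e.toMonoidHom.comp (QuotientGroup.mk' (center L))).comp E.toMonoidHom
  have hσ : ∀ x, x ∈ σ.ker ↔ E x ∈ center L := fun x => by
    rw [MonoidHom.mem_ker]
    show e (QuotientGroup.mk (E x)) = 1 ↔ _
    rw [map_eq_one_iff e e.injective, QuotientGroup.eq_one_iff]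
  have hst : Cfsg.IsStemExtension σ := by
    refine ⟨(e.surjective.comp (QuotientGroup.mk'_surjective _)).comp E.surjective,
      fun x hx => mem_center_iff.2 fun y => E.injective ?_, fun x _ => ?_⟩
    · rw [map_mul, map_mul]
      exact mem_center_iff.1 ((hσ x).1 hx) (E y)
    · haveI := hL.1
      haveI : Group.IsPerfect (Shrink.{0} L) :=
        Group.IsPerfect.ofSurjective (f := E.symm.toMonoidHom) E.symm.surjective
      rw [‹Group.IsPerfect (Shrink.{0} L)›.commutator_eq_top]
      trivial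
  obtain ⟨ρ, hρ⟩ := hM.2 _ σ hst
  let k : ↥(center L) ≃ ↥σ.ker :=
    { toFun := fun z => ⟨E.symm z, (hσ _).2 (by rw [MulEquiv.apply_symm_apply]; exact z.2)⟩
      invFun := fun x => ⟨E x, (hσ _).1 x.2⟩
      left_inv := fun z => Subtype.ext (E.apply_symm_apply _)
      right_inv := fun x => Subtype.ext (E.symm_apply_apply _) }
  refine ⟨(Nat.card_congr k).le.trans (Nat.card_le_card_of_surjective ρ hρ), fun z hz hA => ?_⟩
  obtain ⟨w, hw⟩ := hρ (k ⟨z, hz⟩)
  have h : ρ w * ρ w = 1 := by rw [← map_mul, hA, map_one]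
  rw [hw] at h
  have h' : E.symm z * E.symm z = 1 := congrArg Subtype.val h
  rw [← map_mul] at h'
  exact E.symm.map_eq_one_iff.1 h'

/-- The centre has order at most four, and when it is not trivial some involution lies outside the centre of
a 2-subgroup containing it. -/
theorem cover_sz (hL : Cfsg.IsQuasisimple L) (hsz : Cfsg.Lie.IsoSuzuki (L ⧸ center L)) :
    Nat.card (center L) ≤ 4 ∧ (center L ≠ ⊥ →
      ∃ U : Subgroup L, IsPGroup 2 U ∧ ∃ u ∈ U, ∃ y ∈ U, u * u = 1 ∧ u * y ≠ y * u) := by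
  obtain ⟨F, i1, i2, m, hm, hF, ⟨e⟩⟩ := hsz
  have hS : Suz.SzField F m := ⟨hm, hF⟩
  rcases eq_or_lt_of_le hm with h1 | h2
  · subst h1
    have hF8 : Fintype.card F = 8 := by rw [hF]; norm_num
    obtain ⟨h4, hsq⟩ := card_center_le_of_multiplier hL e (S2112.result (F := F) hF8)
    refine ⟨h4.trans (by simp), fun hne => ?_⟩
    let π : L →* ↥(Cfsg.Sz F 1) :=
      ((e.trans (Suz.szEquiv hS).symm).toMonoidHom).comp (QuotientGroup.mk' (center L))
    have hker : π.ker = center L := by
      ext x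
      simp [π, MonoidHom.mem_ker]
    exact CentInt.exists_outside_sz hS π
      ((e.trans (Suz.szEquiv hS).symm).surjective.comp (QuotientGroup.mk'_surjective _)) hker.le
      hL.1.commutator_eq_top (hker ▸ hne) fun z hz => hsq z (hker ▸ hz) CentInt.klein_sq
  · obtain ⟨h1, -⟩ := card_center_le_of_multiplier hL e (Suz.Mult.trivial_lie hS (show 2 ≤ m by omega))
    have h1' : Nat.card (center L) ≤ 1 := h1.trans (by simp)
    refine ⟨h1'.trans (by norm_num), fun hne => absurd ?_ hne⟩
    exact Subgroup.card_eq_one.1 (le_antisymm h1' Nat.card_pos)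

end Cfsg.Agent.Invol.ThreeFree
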