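import Cfsg.Agent.Lib.Invol.ThreeFree.Family
import Cfsg.Agent.Lib.Invol.SPEmbedded
import Cfsg.Agent.Lib.Local.CoreConsumers.SimpleBorel
import Cfsg.Agent.Lib.Lie.PSUThreeSpectrum
import Cfsg.Agent.Lib.Invol.RegularInversionFamilies
import Cfsg.Agent.Lib.Block.BrauerTuan.Main
import Cfsg.Agent.S2796
import Cfsg.Agent.S2798
import Cfsg.Agent.S0205

/-!
# Simple groups of order prime to three are Suzuki groups
-/

set_option autoImplicit false
set_option linter.style.haveILetI false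

open Subgroup

namespace Cfsg.Agent.Invol.ThreeFree

universe u

theorem not_isSolvable {G : Type*} [Group G] [IsSimpleGroup G] (hna : ¬ IsMulCommutative G) :
    ¬ Group.IsSolvable G := fun h => hna ⟨⟨IsSimpleGroup.comm_iff_isSolvable.2 h⟩⟩

theorem two_dvd_card {G : Type*} [Group G] [Finite G] [IsSimpleGroup G] (hna : ¬ IsMulCommutative G) :
    2 ∣ Nat.card G := by
  by_contra h
  exact not_isSolvable hna (S0205.result (Nat.odd_iff.2 (by omega)))

/-- The centraliser of the 2-core is not inside it in a non-abelian simple group. -/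
theorem not_constrained {G : Type*} [Group G] [Finite G] [IsSimpleGroup G] (hna : ¬ IsMulCommutative G) :
    ¬ centralizer (Cfsg.pCore 2 G : Set G) ≤ Cfsg.pCore 2 G := by
  intro h
  rcases (Grp.pCore_isNormal : (Cfsg.pCore 2 G).Normal).eq_bot_or_eq_top with e | e
  · rw [e, Subgroup.coe_bot, le_bot_iff] at h
    have h1 : centralizer ({(1 : G)} : Set G) = ⊤ :=
      eq_top_iff.2 fun g _ => mem_centralizer_singleton_iff.2 (by rw [mul_one, one_mul])
    exact bot_ne_top (h.symm.trans h1)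
  · haveI : Fact (Nat.Prime 2) := ⟨Nat.prime_two⟩
    have hp : IsPGroup 2 ↥(Cfsg.pCore 2 G) := Grp.pCore_isPGroup
    rw [e] at hp
    haveI := (hp.of_equiv Subgroup.topEquiv).isNilpotent
    exact not_isSolvable hna inferInstance

theorem charP_two {F : Type} [Field F] [Fintype F] (h : Even (Fintype.card F)) : CharP F 2 := by
  obtain ⟨p, hc⟩ := CharP.exists F
  haveI : Fact p.Prime := ⟨CharP.char_is_prime F p⟩
  obtain rfl : p = 2 := Dickson.p_eq_two p h
  exact hc

theorem three_dvd_psl {F : Type} [Field F] [Fintype F] {n : ℕ} (hn : 2 ≤ n) (hF : Fintype.card F = 2 ^ n) :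
    3 ∣ Nat.card (Matrix.ProjectiveSpecialLinearGroup (Fin 2) F) := by
  haveI : CharP F 2 := charP_two (by rw [hF]; exact Nat.even_pow.2 ⟨even_two, by omega⟩)
  rw [Invol.RegInv.card_PSL2, hF]
  rcases Nat.even_or_odd n with h | h
  · exact dvd_mul_of_dvd_right (dvd_mul_of_dvd_left (Block.BTuan.three_dvd_pred h) _) _
  · exact dvd_mul_of_dvd_right (dvd_mul_of_dvd_right (Block.BTuan.three_dvd_succ h) _) _

theorem three_dvd_psu {F : Type} [Field F] [Fintype F] {n : ℕ} (hn : 2 ≤ n)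
    (hF : Fintype.card F = (2 ^ n) ^ 2) : 3 ∣ Nat.card (Cfsg.PSU 3 F (2 ^ n)) := by
  rcases Nat.even_or_odd n with h | h
  · haveI : Fact (Nat.Prime 2) := ⟨Nat.prime_two⟩
    haveI : CharP F 2 := charP_two (by rw [hF, ← pow_mul]; exact Nat.even_pow.2 ⟨even_two, by omega⟩)
    obtain ⟨y, hy⟩ := Lie.PSUThreeSpectrum.exists_q_sq (q := 2 ^ n) hF (p := 2) (a := n) rfl
    have h3 : 3 ∣ 2 ^ n - 1 := Block.BTuan.three_dvd_pred h
    have h1 : 1 ≤ 2 ^ n := Nat.one_le_two_pow
    have hg : Nat.gcd 3 (2 ^ n + 1) = 1 :=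
      (Nat.prime_three.coprime_iff_not_dvd.2 (by omega))
    rw [hg, Nat.div_one] at hy
    refine (dvd_trans ?_ hy).trans (orderOf_dvd_natCard y)
    exact h3.trans (by simpa using Nat.sub_dvd_pow_sub_pow (2 ^ n) 1 2)
  · obtain ⟨y, hy⟩ := Lie.PSUThreeSpectrum.exists_q_add_one (q := 2 ^ n) hF
    exact ((Block.BTuan.three_dvd_succ h).trans hy).trans (orderOf_dvd_natCard y)

/-- Simple non-abelian groups of order prime to three are Suzuki groups. -/
theorem isoSuzuki_of_card : ∀ (n : ℕ) (G : Type u) [Group G] [Finite G], Nat.card G = n → IsSimpleGroup G →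
    ¬ IsMulCommutative G → ¬ 3 ∣ n → Cfsg.Lie.IsoSuzuki G := by
  intro n
  induction n using Nat.strong_induction_on with
  | _ n ih =>
  intro G _ _ hn hs hna h3
  haveI : Fact (Nat.Prime 2) := ⟨Nat.prime_two⟩
  subst hn
  have hrec : ∀ (X : Type u) [Group X] [Finite X], IsSimpleGroup X → ¬ IsMulCommutative X →
      Nat.card X ∣ Nat.card G → Nat.card X < Nat.card G → Cfsg.Lie.IsoSuzuki X := fun X _ _ hX hXna hd hlt =>
    ih _ hlt X rfl hX hXna fun h => h3 (h.trans hd)
  have hsub : SubSz G := fun H N _ hX hXna hlt =>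
    hrec _ hX hXna ((Subgroup.card_quotient_dvd_card N).trans (Subgroup.card_subgroup_dvd_card H)) hlt
  have hfree : ¬ Cfsg.Involves (Equiv.Perm (Fin 4)) G := by
    rintro ⟨K, R, hR, ⟨e⟩⟩
    refine h3 (dvd_trans ?_ ((Subgroup.card_quotient_dvd_card (R.subgroupOf K)).trans (Subgroup.card_subgroup_dvd_card K)))
    rw [Nat.card_congr e.toEquiv, Nat.card_perm, Nat.card_fin]
    decide
  have hsec : ∀ (K R : Subgroup G) [hR : (R.subgroupOf K).Normal],
      centralizer (Cfsg.pCore 2 (↥K ⧸ R.subgroupOf K) : Set (↥K ⧸ R.subgroupOf K)) ≤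
        Cfsg.pCore 2 (↥K ⧸ R.subgroupOf K) →
      Cfsg.IsCompositionKGroupWith Cfsg.IsSuzukiOrPSL2OddPowerThree (↥K ⧸ R.subgroupOf K) := by
    intro K R hR hcon H _ N hN hX hXna
    have hd : Nat.card (↥H ⧸ N) ∣ Nat.card G :=
      ((Subgroup.card_quotient_dvd_card N).trans (Subgroup.card_subgroup_dvd_card H)).trans
        ((Subgroup.card_quotient_dvd_card _).trans (Subgroup.card_subgroup_dvd_card K))
    refine Or.inl (hrec _ hX hXna hd (lt_of_le_of_ne (Nat.le_of_dvd Nat.card_pos hd) fun e => ?_))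
    have h1 : Nat.card (↥H ⧸ N) ≤ Nat.card ↥H := Nat.card_le_card_of_surjective _ (QuotientGroup.mk'_surjective N)
    have h2 : Nat.card ↥H ≤ Nat.card (↥K ⧸ R.subgroupOf K) := Subgroup.card_le_card_group H
    have h3' : Nat.card (↥K ⧸ R.subgroupOf K) ≤ Nat.card G :=
      (Nat.card_le_card_of_surjective _ (QuotientGroup.mk'_surjective _)).trans (Subgroup.card_le_card_group K)
    have hHtop : H = ⊤ := Subgroup.eq_top_of_card_eq H (by omega)
    have hbij : Function.Bijective (QuotientGroup.mk' N) :=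
      (Nat.bijective_iff_surjective_and_card _).2 ⟨QuotientGroup.mk'_surjective N, by omega⟩
    let e' : (↥K ⧸ R.subgroupOf K) ≃* (↥H ⧸ N) :=
      (Subgroup.topEquiv.symm.trans (MulEquiv.subgroupCongr hHtop.symm)).trans (MulEquiv.ofBijective _ hbij)
    haveI : IsSimpleGroup (↥H ⧸ N) := hX
    haveI : Nontrivial (↥K ⧸ R.subgroupOf K) := e'.toEquiv.nontrivial
    haveI : IsSimpleGroup (↥K ⧸ R.subgroupOf K) :=
      IsSimpleGroup.isSimpleGroup_of_surjective e'.symm.toMonoidHom e'.symm.surjective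
    refine not_constrained (fun hc => hXna ⟨⟨fun a b => e'.symm.injective ?_⟩⟩) hcon
    rw [map_mul, map_mul]
    exact hc.is_comm.comm _ _
  let S : Sylow 2 G := default
  obtain ⟨hAS, hA, hsc, -⟩ := S2796.result hfree (fun K R _ hc => hsec K R hc) S _ rfl _ rfl
  obtain ⟨A, hmin⟩ : ∃ A : Subgroup G, Minimal A := by
    refine exists_minimal hA hsc fun e => ?_
    have hS1 : (S : Subgroup G) ≠ ⊥ := S.ne_bot_of_dvd_card (two_dvd_card hna)
    haveI : Nontrivial ↥(S : Subgroup G) := (Subgroup.nontrivial_iff_ne_bot _).2 hS1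
    haveI := S.isPGroup'.center_nontrivial
    obtain ⟨⟨z, hz⟩, hz2⟩ := exists_prime_orderOf_dvd_card' (G := center ↥(S : Subgroup G)) 2 (by
      obtain ⟨k, hk⟩ := IsPGroup.iff_card.1 (S.isPGroup'.to_subgroup (center ↥(S : Subgroup G)))
      rw [hk]
      refine dvd_pow_self 2 fun e0 => ?_
      have := Finite.one_lt_card (α := center ↥(S : Subgroup G))
      rw [hk, e0, pow_zero] at this
      exact lt_irrefl _ this)
    rw [Subgroup.orderOf_mk] at hz2
    have hz2' : ((z : G)) ^ 2 = 1 := by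
      have := pow_orderOf_eq_one z
      rw [hz2] at this
      simpa using congrArg Subtype.val this
    have hzc : ∀ x ∈ (S : Subgroup G), x * (z : G) = z * x := fun x hx =>
      congrArg Subtype.val (mem_center_iff.1 hz ⟨x, hx⟩)
    have hzN : (z : G) ∈ normalizer (Cfsg.thompsonSubgroupOf 2 (S : Subgroup G) : Set G) :=
      Subgroup.centralizer_le_normalizer _ (mem_centralizer_iff.2 fun x hx => hzc x (Subgroup.map_subtype_le _ hx))
    have hmem : (z : G) ∈ (Subgroup.normalClosure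
        (((Cfsg.omegaOne 2 ((S : Subgroup G) ⊓ centralizer ((S : Subgroup G) : Set G))).subgroupOf _ :
          Subgroup ↥(normalizer (Cfsg.thompsonSubgroupOf 2 (S : Subgroup G) : Set G))) : Set _)).map
            (normalizer (Cfsg.thompsonSubgroupOf 2 (S : Subgroup G) : Set G)).subtype :=
      ⟨⟨z, hzN⟩, Subgroup.subset_normalClosure
        (show (z : G) ∈ Cfsg.omegaOne 2 ((S : Subgroup G) ⊓ centralizer ((S : Subgroup G) : Set G)) from
          Subgroup.subset_closure ⟨⟨z.2, mem_centralizer_iff.2 hzc⟩, hz2'⟩), rfl⟩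
    rw [e, mem_bot] at hmem
    have : z = 1 := Subtype.ext hmem
    rw [this, orderOf_one] at hz2
    omega
  have s : Setup A := ⟨hna, h3, hsub, hmin, hmin.eight_le hna h3⟩
  obtain ⟨M, hM1, hM2, hM3⟩ := s.stronglyEmbedded
  have hM : Cfsg.IsStronglyPEmbedded 2 M := (Invol.isStronglyPEmbedded_iff (p := 2)).2
    ⟨even_iff_two_dvd.1 hM2, hM1, fun g hg => Nat.two_dvd_ne_zero.2 (Nat.odd_iff.1 (hM3 g hg))⟩
  obtain ⟨hcases, -, -⟩ := CoreConsumers.simple_borel hna (two_dvd_card hna) (S2798.result M hM)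
  rcases hcases with ⟨F, _, _, k, hk, hF, ⟨e⟩⟩ | h | ⟨F, _, _, k, hk, hF, ⟨e⟩⟩
  · exact absurd (Nat.card_congr e.toEquiv ▸ three_dvd_psl hk hF) h3
  · exact h
  · exact absurd (Nat.card_congr e.toEquiv ▸ three_dvd_psu hk hF) h3

/-- Simple non-abelian groups of order prime to three are Suzuki groups. -/
theorem isoSuzuki {G : Type u} [Group G] [Finite G] [IsSimpleGroup G] (hna : ¬ IsMulCommutative G)
    (h3 : ¬ 3 ∣ Nat.card G) : Cfsg.Lie.IsoSuzuki G :=
  isoSuzuki_of_card _ G rfl inferInstance hna h3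

end Cfsg.Agent.Invol.ThreeFree
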