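import Cfsg.Agent.Lib.Invol.ThreeFree.SzModel
import Cfsg.Prelude.Def_Sz

/-!
# Suzuki groups up to isomorphism: the facts used
-/

set_option autoImplicit false
set_option linter.style.haveILetI false

open Subgroup

namespace Cfsg.Agent.Invol.ThreeFree

open Cfsg.Agent.Suz

universe u

variable {B : Type u} [Group B] [Finite B]

/-- An isomorphism with the model under which a given Sylow 2-subgroup is the radical. -/
theorem exists_frame (h : Cfsg.Lie.IsoSuzuki B) (S : Sylow 2 B) :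
    ∃ (F : Type) (_ : Field F) (_ : Fintype F) (m : ℕ) (hS : SzField F m) (e : ↥(Cfsg.Sz F m) ≃* B),
      ∀ x, e x ∈ (S : Subgroup B) ↔ x ∈ unip hS := by
  obtain ⟨F, i1, i2, m, hm, hF, ⟨f⟩⟩ := h
  have hS : SzField F m := ⟨hm, hF⟩
  haveI : Fact (Nat.Prime 2) := ⟨Nat.prime_two⟩
  let e₀ : ↥(Cfsg.Sz F m) ≃* B := (szEquiv hS).trans f.symm
  obtain ⟨c, hc⟩ := exists_conj_unip hS
    (S.mapSurjective (f := e₀.symm.toMonoidHom)
      (show Function.Surjective e₀.symm.toMonoidHom from e₀.symm.surjective))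
  refine ⟨F, i1, i2, m, hS, (MulAut.conj c).trans e₀, fun x => ?_⟩
  rw [Sylow.coe_mapSurjective] at hc
  constructor
  · intro hx
    have h1 : (MulAut.conj c) x ∈ (S : Subgroup B).map e₀.symm.toMonoidHom :=
      ⟨_, hx, by simp⟩
    rw [hc] at h1
    obtain ⟨y, hy, hxy⟩ := h1
    rwa [← (MulAut.conj c).injective hxy]
  · intro hx
    have h1 : (MulAut.conj c) x ∈ (S : Subgroup B).map e₀.symm.toMonoidHom := by
      rw [hc]; exact ⟨x, hx, rfl⟩
    obtain ⟨y, hy, hxy⟩ := h1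
    show e₀ (MulAut.conj c x) ∈ (S : Subgroup B)
    rw [← hxy]
    show e₀ (e₀.symm y) ∈ (S : Subgroup B)
    rwa [MulEquiv.apply_symm_apply]

variable (h : Cfsg.Lie.IsoSuzuki B) (S : Sylow 2 B)
include h

/-- The involutions of a Sylow subgroup are central in it. -/
theorem sz_omega_central {x y : B} (hx : x ∈ (S : Subgroup B)) (hx2 : x * x = 1) (hy : y ∈ (S : Subgroup B)) :
    y * x = x * y := by
  obtain ⟨F, i1, i2, m, hS, e, he⟩ := exists_frame h S
  obtain ⟨x, rfl⟩ := e.surjective x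
  obtain ⟨y, rfl⟩ := e.surjective y
  obtain ⟨b, rfl⟩ := (mem_omega_iff hS ((he _).1 hx)).1 (e.injective (by rw [map_mul, hx2, map_one]))
  rw [← map_mul, ← map_mul, uS_central hS b ((he _).1 hy)]

/-- The derived group of a Sylow subgroup consists of its elements squaring to one. -/
theorem sz_commutator (x : B) :
    x ∈ ⁅(S : Subgroup B), (S : Subgroup B)⁆ ↔ x ∈ (S : Subgroup B) ∧ x * x = 1 := by
  obtain ⟨F, i1, i2, m, hS, e, he⟩ := exists_frame h S
  obtain ⟨x, rfl⟩ := e.surjective x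
  have hmap : (S : Subgroup B) = (unip hS).map e.toMonoidHom := by
    ext y
    obtain ⟨y, rfl⟩ := e.surjective y
    rw [he]
    exact (Subgroup.mem_map_iff_mem (f := e.toMonoidHom) e.injective).symm
  rw [← map_mul, MulEquiv.map_eq_one_iff, he, ← commutator_unip hS, hmap, ← Subgroup.map_commutator]
  exact Subgroup.mem_map_iff_mem (f := e.toMonoidHom) e.injective

theorem sz_exists_omega : ∃ x ∈ (S : Subgroup B), x * x = 1 ∧ x ≠ 1 := by
  obtain ⟨F, i1, i2, m, hS, e, he⟩ := exists_frame h S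
  refine ⟨e (uS hS 0 1), (he _).2 (uS_mem hS _ _), ?_, fun e' => uS_ne_one hS (a := (0 : F)) (b := 1) (by simp)
    (e.injective (e'.trans (map_one e).symm))⟩
  rw [← map_mul, (mem_omega_iff hS (uS_mem hS _ _)).2 ⟨1, rfl⟩, map_one]

theorem sz_exists_sq_ne : ∃ x ∈ (S : Subgroup B), x * x ≠ 1 := by
  obtain ⟨F, i1, i2, m, hS, e, he⟩ := exists_frame h S
  refine ⟨e (uS hS 1 0), (he _).2 (uS_mem hS _ _), fun e' => ?_⟩
  rw [← map_mul, MulEquiv.map_eq_one_iff] at e'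
  exact one_ne_zero (uS_sq_eq_one hS e')

/-- An involution of a Sylow subgroup has its centraliser inside it. -/
theorem sz_centralizer {x y : B} (hx : x ∈ (S : Subgroup B)) (hx1 : x ≠ 1) (hxy : y * x = x * y) :
    y ∈ (S : Subgroup B) := by
  obtain ⟨F, i1, i2, m, hS, e, he⟩ := exists_frame h S
  obtain ⟨x, rfl⟩ := e.surjective x
  obtain ⟨y, rfl⟩ := e.surjective y
  refine (he _).2 (centralizer_unip_le hS ((he _).1 hx) (fun e' => hx1 (by rw [e', map_one])) ?_)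
  exact mem_centralizer_singleton_iff.2 (e.injective (by rw [map_mul, map_mul, hxy]))

/-- The class in a Sylow subgroup of an element of order four has half as many elements as the involutions
with one. -/
theorem sz_class {x : B} (hx : x ∈ (S : Subgroup B)) (hx2 : x * x ≠ 1) :
    2 * ((fun s => s * x * s⁻¹) '' ((S : Subgroup B) : Set B)).ncard =
      ({w | w ∈ (S : Subgroup B) ∧ w * w = 1} : Set B).ncard := by
  obtain ⟨F, i1, i2, m, hS, e, he⟩ := exists_frame h S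
  obtain ⟨x, rfl⟩ := e.surjective x
  obtain ⟨a, b, rfl⟩ := (mem_unip hS).1 ((he _).1 hx)
  have ha : a ≠ 0 := by
    rintro rfl
    exact hx2 (by rw [← map_mul, (mem_omega_iff hS (uS_mem hS _ _)).2 ⟨b, rfl⟩, map_one])
  have e1 : (fun s => s * e (uS hS a b) * s⁻¹) '' ((S : Subgroup B) : Set B) =
      e '' ((fun s => s * uS hS a b * s⁻¹) '' (unip hS : Set ↥(Cfsg.Sz F m))) := by
    ext w
    constructor
    · rintro ⟨s, hs, rfl⟩
      obtain ⟨s, rfl⟩ := e.surjective s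
      exact ⟨_, ⟨s, (he _).1 hs, rfl⟩, by simp⟩
    · rintro ⟨_, ⟨s, hs, rfl⟩, rfl⟩
      exact ⟨e s, (he _).2 hs, by simp⟩
  have e2 : ({w | w ∈ (S : Subgroup B) ∧ w * w = 1} : Set B) = e '' {w | w ∈ unip hS ∧ w * w = 1} := by
    ext w
    obtain ⟨w, rfl⟩ := e.surjective w
    rw [e.injective.mem_set_image, Set.mem_setOf_eq, Set.mem_setOf_eq, he, ← map_mul, MulEquiv.map_eq_one_iff]
  rw [e1, e2, Set.ncard_image_of_injective _ e.injective, Set.ncard_image_of_injective _ e.injective,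
    class_unip hS ha, ncard_omega hS]

/-- The normaliser of a Sylow subgroup is transitive on its involutions. -/
theorem sz_torus {x y : B} (hx : x ∈ (S : Subgroup B)) (hy : y ∈ (S : Subgroup B)) (hx2 : x * x = 1)
    (hy2 : y * y = 1) (hx1 : x ≠ 1) (hy1 : y ≠ 1) :
    ∃ g ∈ normalizer ((S : Subgroup B) : Set B), g * x * g⁻¹ = y := by
  obtain ⟨F, i1, i2, m, hS, e, he⟩ := exists_frame h S
  obtain ⟨x, rfl⟩ := e.surjective x
  obtain ⟨y, rfl⟩ := e.surjective y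
  rw [← map_mul, MulEquiv.map_eq_one_iff] at hx2 hy2
  obtain ⟨b, rfl⟩ := (mem_omega_iff hS ((he _).1 hx)).1 hx2
  obtain ⟨b', rfl⟩ := (mem_omega_iff hS ((he _).1 hy)).1 hy2
  obtain ⟨z, hz⟩ := torus_omega hS (b := b) (b' := b') (fun e0 => hx1 (by rw [e0, uS_zero, map_one]))
    (fun e0 => hy1 (by rw [e0, uS_zero, map_one]))
  refine ⟨e (hTor hS z), mem_normalizer_iff.2 fun w => ?_, ?_⟩
  · obtain ⟨w, rfl⟩ := e.surjective w
    rw [← map_inv, ← map_mul, ← map_mul, he, he]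
    exact mem_normalizer_iff.1 (torus_mem_normalizer hS z) w
  · rw [← map_inv, ← map_mul, ← map_mul, hz]

/-- The normaliser of a Sylow subgroup is transitive on its elements of order four, modulo involutions. -/
theorem sz_torus_quot {x y : B} (hx : x ∈ (S : Subgroup B)) (hy : y ∈ (S : Subgroup B)) (hx2 : x * x ≠ 1)
    (hy2 : y * y ≠ 1) :
    ∃ g ∈ normalizer ((S : Subgroup B) : Set B), g * x * g⁻¹ * y⁻¹ * (g * x * g⁻¹ * y⁻¹) = 1 := by
  obtain ⟨F, i1, i2, m, hS, e, he⟩ := exists_frame h S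
  obtain ⟨x, rfl⟩ := e.surjective x
  obtain ⟨y, rfl⟩ := e.surjective y
  obtain ⟨a, b, rfl⟩ := (mem_unip hS).1 ((he _).1 hx)
  obtain ⟨a', b', rfl⟩ := (mem_unip hS).1 ((he _).1 hy)
  have ha : a ≠ 0 := by
    rintro rfl
    exact hx2 (by rw [← map_mul, (mem_omega_iff hS (uS_mem hS 0 b)).2 ⟨b, rfl⟩, map_one])
  have ha' : a' ≠ 0 := by
    rintro rfl
    exact hy2 (by rw [← map_mul, (mem_omega_iff hS (uS_mem hS 0 b')).2 ⟨b', rfl⟩, map_one])
  obtain ⟨z, hz⟩ := torus_quot hS (b := b) (b' := b') ha ha'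
  refine ⟨e (hTor hS z), mem_normalizer_iff.2 fun w => ?_, ?_⟩
  · obtain ⟨w, rfl⟩ := e.surjective w
    rw [← map_inv, ← map_mul, ← map_mul, he, he]
    exact mem_normalizer_iff.1 (torus_mem_normalizer hS z) w
  · simp only [← map_inv, ← map_mul]
    rw [hz, map_one]

/-- The squares in a Sylow subgroup square to one. -/
theorem sz_pow_four {x : B} (hx : x ∈ (S : Subgroup B)) : x * x * (x * x) = 1 := by
  obtain ⟨F, i1, i2, m, hS, e, he⟩ := exists_frame h S
  obtain ⟨x, rfl⟩ := e.surjective x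
  have h4 := pow_four_unip hS ((he _).1 hx)
  rw [show x ^ 4 = x * x * (x * x) by simp only [pow_succ, pow_zero, one_mul, mul_assoc]] at h4
  rw [← map_mul, ← map_mul, h4, map_one]

/-- A Sylow subgroup has an element of order four outside a given coset of the involutions. -/
theorem sz_exists_quot {y : B} (hy : y ∈ (S : Subgroup B)) :
    ∃ x ∈ (S : Subgroup B), x * x ≠ 1 ∧ x * y⁻¹ * (x * y⁻¹) ≠ 1 := by
  obtain ⟨F, i1, i2, m, hS, e, he⟩ := exists_frame h S
  obtain ⟨y, rfl⟩ := e.surjective y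
  obtain ⟨a, b, rfl⟩ := (mem_unip hS).1 ((he _).1 hy)
  obtain ⟨c, hc0, hc1⟩ := exists_ne_zero_one hS
  obtain ⟨w, hw0, hwa⟩ : ∃ w : F, w ≠ 0 ∧ w ≠ a := by
    by_cases ha : a = 1
    · exact ⟨c, hc0, fun e' => hc1 (e'.trans ha)⟩
    · exact ⟨1, one_ne_zero, Ne.symm ha⟩
  refine ⟨e (uS hS w 0), (he _).2 (uS_mem hS _ _), fun e' => ?_, fun e' => ?_⟩
  · rw [← map_mul, MulEquiv.map_eq_one_iff] at e'
    exact hw0 (uS_sq_eq_one hS e')
  · rw [← map_inv, ← map_mul, ← map_mul, MulEquiv.map_eq_one_iff, uS_inv, uS_mul] at e'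
    have h0 := uS_sq_eq_one hS e'
    exact hwa (by linear_combination h0 - a * two hS)

/-- A Sylow subgroup has an involution other than a given element. -/
theorem sz_exists_third (c : B) : ∃ w ∈ (S : Subgroup B), w * w = 1 ∧ w ≠ 1 ∧ w ≠ c := by
  obtain ⟨F, i1, i2, m, hS, e, he⟩ := exists_frame h S
  obtain ⟨y, hy0, hy1⟩ := exists_ne_zero_one hS
  have key : ∀ b : F, b ≠ 0 → e (uS hS 0 b) ∈ (S : Subgroup B) ∧ e (uS hS 0 b) * e (uS hS 0 b) = 1 ∧
      e (uS hS 0 b) ≠ 1 := fun b hb => ⟨(he _).2 (uS_mem hS _ _),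
    by rw [← map_mul, (mem_omega_iff hS (uS_mem hS _ _)).2 ⟨b, rfl⟩, map_one],
    fun e' => uS_ne_one hS (a := (0 : F)) (b := b) (fun h0 => hb h0.2) (e.injective (e'.trans (map_one e).symm))⟩
  by_cases hc : e (uS hS 0 y) = c
  · obtain ⟨h1, h2, h3⟩ := key 1 one_ne_zero
    exact ⟨_, h1, h2, h3, fun e' => hy1 ((uS_injective hS (e.injective (hc.trans e'.symm))).2)⟩
  · obtain ⟨h1, h2, h3⟩ := key y hy0
    exact ⟨_, h1, h2, h3, hc⟩

omit S

/-- Automorphisms of 2-power order are inner. -/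
theorem sz_inner (φ : MulAut B) {k : ℕ} (hk : φ ^ (2 ^ k) = 1) : ∃ b : B, φ = MulAut.conj b := by
  obtain ⟨F, i1, i2, m, hS, e, -⟩ := exists_frame h (default : Sylow 2 B)
  set ψ : MulAut ↥(Cfsg.Sz F m) := MulAut.congr e.symm φ with hψ
  have hψk : ψ ^ (2 ^ k) = 1 := by rw [hψ, ← map_pow, hk, map_one]
  have h1 : orderOf ((QuotientGroup.mk ψ : Cfsg.Out ↥(Cfsg.Sz F m))) ∣ 2 ^ k :=
    orderOf_dvd_of_pow_eq_one (by rw [← QuotientGroup.mk_pow, hψk]; rfl)
  have h2 : orderOf ((QuotientGroup.mk ψ : Cfsg.Out ↥(Cfsg.Sz F m))) ∣ 2 * m + 1 := by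
    rw [← card_Out hS]; exact orderOf_dvd_natCard _
  have h3 : (QuotientGroup.mk ψ : Cfsg.Out ↥(Cfsg.Sz F m)) = 1 :=
    orderOf_eq_one_iff.1 (Nat.eq_one_of_dvd_coprimes
      (Nat.Coprime.pow_left k (Nat.coprime_two_left.2 ⟨m, rfl⟩)) h1 h2)
  obtain ⟨b, hb⟩ := (QuotientGroup.eq_one_iff ψ).1 h3
  refine ⟨e b, MulEquiv.ext fun w => ?_⟩
  have h4 := congrArg e (DFunLike.congr_fun hb (e.symm w))
  simp [hψ] at h4
  simp [h4]

/-- An automorphism of odd order centralising a Sylow 2-subgroup is trivial. -/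
theorem sz_aut_fix (S : Sylow 2 B) (φ : MulAut B) (hfix : ∀ u ∈ (S : Subgroup B), φ u = u)
    (hodd : Odd (orderOf φ)) : φ = 1 := by
  obtain ⟨F, i1, i2, m, hS, e, he⟩ := exists_frame h S
  have h1 : MulAut.congr e.symm φ = 1 := aut_fix_unip hS (fun u hu => e.injective (by
    simpa using hfix _ ((he u).2 hu))) (by rwa [MulEquiv.orderOf_eq])
  exact (MulAut.congr e.symm).injective (h1.trans (map_one _).symm)

/-- Every involution inverts an element of prime order at least seven. -/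
theorem sz_inverts {t : B} (ht : t * t = 1) (ht1 : t ≠ 1) :
    ∃ (p : ℕ) (y : B), p.Prime ∧ 7 ≤ p ∧ orderOf y = p ∧ t * y * t⁻¹ = y⁻¹ := by
  haveI : Fact (Nat.Prime 2) := ⟨Nat.prime_two⟩
  obtain ⟨F, i1, i2, m, hS, e, -⟩ := exists_frame h (default : Sylow 2 B)
  obtain ⟨p, y, hp, h7, hy, hw⟩ := wS_inverts hS
  obtain ⟨hw2, hw1⟩ := wS_involution hS
  set w := e (wS hS) with hwdef
  have hw2' : w * w = 1 := by rw [hwdef, ← map_mul, hw2, map_one]
  have hw1' : w ≠ 1 := fun e' => hw1 (e.injective (e'.trans (map_one e).symm))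
  have hp2 : ∀ v : B, v * v = 1 → v ≠ 1 → ∃ P : Sylow 2 B, v ∈ (P : Subgroup B) := by
    intro v hv hv1
    have hP : IsPGroup 2 (zpowers v) := IsPGroup.of_card (n := 1) (by
      rw [Nat.card_zpowers, pow_one]; exact orderOf_eq_prime (by rw [pow_two, hv]) hv1)
    obtain ⟨P, hle⟩ := hP.exists_le_sylow
    exact ⟨P, hle (mem_zpowers v)⟩
  obtain ⟨P, hP⟩ := hp2 t ht ht1
  obtain ⟨Q, hQ⟩ := hp2 w hw2' hw1'
  obtain ⟨g, rfl⟩ := MulAction.exists_smul_eq B Q P
  have hgw : g * w * g⁻¹ ∈ ((g • Q : Sylow 2 B) : Subgroup B) := ⟨w, hQ, by simp⟩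
  obtain ⟨c, -, hc⟩ := sz_torus h (g • Q) hgw hP (by
    rw [show g * w * g⁻¹ * (g * w * g⁻¹) = g * (w * w) * g⁻¹ by group, hw2', mul_one, mul_inv_cancel]) ht
    (fun e' => hw1' (conj_eq_one_iff.1 e')) ht1
  refine ⟨p, c * g * e y * (c * g)⁻¹, hp, h7, ?_, ?_⟩
  · rw [← MulAut.conj_apply, MulEquiv.orderOf_eq, MulEquiv.orderOf_eq, hy]
  · rw [← hc, show c * (g * w * g⁻¹) * c⁻¹ * (c * g * e y * (c * g)⁻¹) * (c * (g * w * g⁻¹) * c⁻¹)⁻¹ =
      c * g * (w * e y * w⁻¹) * (c * g)⁻¹ by group, hwdef, ← map_inv, ← map_mul, ← map_mul, hw, map_inv]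
    group

end Cfsg.Agent.Invol.ThreeFree
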