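import Cfsg.Agent.S2791
import Cfsg.Agent.S0215
import Cfsg.Agent.S1242
import Cfsg.Agent.Lib.Transfer.Residual
import Cfsg.Agent.Lib.Fus.FourConnected
import Cfsg.Agent.Lib.Local.CoreConsumers.Connected

/-!
# A minimal strongly closed elementary abelian 2-subgroup of a simple group
-/

set_option autoImplicit false
set_option linter.style.haveILetI false

open Subgroup
open scoped commutatorElement

namespace Cfsg.Agent.Invol.ThreeFree

universe u

variable {G : Type u} [Group G] [Finite G]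

/-- Being abelian and strongly closed does not depend on the Sylow subgroup containing the group. -/
theorem closed_in_all {A : Subgroup G} {S : Sylow 2 G} (hsc : Cfsg.IsStronglyClosed A (S : Subgroup G))
    (P : Sylow 2 G) (hP : A ≤ (P : Subgroup G)) : Cfsg.IsStronglyClosed A (P : Subgroup G) := by
  haveI : Fact (Nat.Prime 2) := ⟨Nat.prime_two⟩
  obtain ⟨g, rfl⟩ := MulAction.exists_smul_eq G S P
  have hmem : ∀ w, w ∈ ((g • S : Sylow 2 G) : Subgroup G) ↔ g⁻¹ * w * g ∈ (S : Subgroup G) := fun w =>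
    ⟨fun ⟨v, hv, e⟩ => by
      subst e
      show g⁻¹ * (g * v * g⁻¹) * g ∈ _
      rwa [show g⁻¹ * (g * v * g⁻¹) * g = v by group],
      fun h => ⟨_, h, by simp [mul_assoc]⟩⟩
  have hg : ∀ a ∈ A, g⁻¹ * a * g ∈ A := fun a ha => by
    simpa using hsc.2 a ha g⁻¹ (by simpa using (hmem a).1 (hP ha))
  have hg' : ∀ a ∈ A, g * a * g⁻¹ ∈ A := by
    intro a ha
    let φ : A → A := fun a => ⟨_, hg a a.2⟩
    have hφ : Function.Injective φ := fun a b e => Subtype.ext (by simpa [φ] using congrArg Subtype.val e)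
    obtain ⟨b, hb⟩ := Finite.injective_iff_surjective.1 hφ ⟨a, ha⟩
    rw [show g * a * g⁻¹ = (b : G) by rw [← show g⁻¹ * (b : G) * g = a from congrArg Subtype.val hb]; group]
    exact b.2
  refine ⟨hP, fun x hx h hh => ?_⟩
  have h2 := hsc.2 x hx (g⁻¹ * h) (by
    have := (hmem _).1 hh
    rwa [show g⁻¹ * h * x * (g⁻¹ * h)⁻¹ = g⁻¹ * (h * x * h⁻¹) * g by group])
  have h3 := hg' _ h2
  rwa [show g * (g⁻¹ * h * x * (g⁻¹ * h)⁻¹) * g⁻¹ = h * x * h⁻¹ by group] at h3

/-- A minimal strongly closed elementary abelian 2-subgroup. -/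
structure Minimal (A : Subgroup G) : Prop where
  elem : Cfsg.IsElementaryAbelian 2 A
  nt : A ≠ ⊥
  closed : ∀ P : Sylow 2 G, A ≤ (P : Subgroup G) → Cfsg.IsStronglyClosed A (P : Subgroup G)
  min : ∀ B : Subgroup G, B ≤ A → (∀ n ∈ normalizer (A : Set G), ∀ b ∈ B, n * b * n⁻¹ ∈ B) → B = ⊥ ∨ B = A

theorem comm_of_elem {A : Subgroup G} (h : Cfsg.IsElementaryAbelian 2 A) {a b : G} (ha : a ∈ A) (hb : b ∈ A) :
    a * b = b * a :=
  congrArg Subtype.val (h.1.is_comm.comm ⟨a, ha⟩ ⟨b, hb⟩)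

theorem sq_of_elem {A : Subgroup G} (h : Cfsg.IsElementaryAbelian 2 A) {a : G} (ha : a ∈ A) : a * a = 1 := by
  rw [← pow_two]; exact h.2 a ha

theorem exists_sylow_ge {A : Subgroup G} (h : Cfsg.IsElementaryAbelian 2 A) :
    ∃ P : Sylow 2 G, A ≤ (P : Subgroup G) :=
  IsPGroup.exists_le_sylow (fun a : A => ⟨1, Subtype.ext (by simpa using h.2 a a.2)⟩ : IsPGroup 2 A)

/-- Fusion of subsets of `A` is controlled by its normaliser. -/
theorem fusion {A : Subgroup G} {S : Sylow 2 G} (hA : Cfsg.IsElementaryAbelian 2 A)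
    (hsc : Cfsg.IsStronglyClosed A (S : Subgroup G)) {x g : G} (hx : x ∈ A) (hgx : g * x * g⁻¹ ∈ A) :
    ∃ n ∈ normalizer (A : Set G), g * x * g⁻¹ = n * x * n⁻¹ := by
  haveI : Fact (Nat.Prime 2) := ⟨Nat.prime_two⟩
  obtain ⟨T, hAT, hT⟩ := S2791.result S A hA.1 hsc
  obtain ⟨-, h⟩ := hT {x} (Set.singleton_subset_iff.2 (hAT hx))
  obtain ⟨n, hn, hn'⟩ := h g (by
    rintro _ ⟨y, rfl, rfl⟩
    exact hAT hgx)
  exact ⟨n, hn, hn' x rfl⟩

/-- Every strongly closed elementary abelian 2-subgroup contains a minimal one. -/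
theorem exists_minimal {A₀ : Subgroup G} {S : Sylow 2 G} (hA : Cfsg.IsElementaryAbelian 2 A₀)
    (hsc : Cfsg.IsStronglyClosed A₀ (S : Subgroup G)) (hne : A₀ ≠ ⊥) : ∃ A : Subgroup G, Minimal A := by
  let C : Set (Subgroup G) :=
    {B | B ≤ A₀ ∧ B ≠ ⊥ ∧ ∀ n ∈ normalizer (A₀ : Set G), ∀ b ∈ B, n * b * n⁻¹ ∈ B}
  obtain ⟨B, hBmin⟩ := (Set.toFinite C).exists_minimal
    ⟨A₀, le_rfl, hne, fun n hn b hb => (mem_normalizer_iff.1 hn b).1 hb⟩
  obtain ⟨hBA, hB1, hBn⟩ := hBmin.prop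
  have hBel : Cfsg.IsElementaryAbelian 2 B :=
    ⟨⟨⟨fun a b => Subtype.ext (comm_of_elem hA (hBA a.2) (hBA b.2))⟩⟩, fun a ha => hA.2 a (hBA ha)⟩
  have hBsc : Cfsg.IsStronglyClosed B (S : Subgroup G) := by
    refine ⟨hBA.trans hsc.1, fun x hx g hg => ?_⟩
    obtain ⟨n, hn, e⟩ := fusion hA hsc (hBA hx) (hsc.2 x (hBA hx) g hg)
    rw [e]
    exact hBn n hn x hx
  refine ⟨B, hBel, hB1, closed_in_all hBsc, fun D hDB hD => ?_⟩
  refine or_iff_not_imp_left.2 fun hD1 => le_antisymm hDB (hBmin.le_of_le ⟨hDB.trans hBA, hD1, ?_⟩ hDB)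
  intro n hn b hb
  refine hD n (mem_normalizer_iff.2 fun v => ⟨fun hv => hBn n hn v hv, fun hv => ?_⟩) b hb
  simpa [mul_assoc] using hBn n⁻¹ (inv_mem hn) _ hv

variable {A : Subgroup G} (h : Minimal A)
include h

theorem Minimal.conj_mem {P : Sylow 2 G} (hP : A ≤ (P : Subgroup G)) {a g : G} (ha : a ∈ A)
    (hg : g * a * g⁻¹ ∈ (P : Subgroup G)) : g * a * g⁻¹ ∈ A :=
  (h.closed P hP).2 a ha g hg

theorem Minimal.sylow_le_normalizer {P : Sylow 2 G} (hP : A ≤ (P : Subgroup G)) :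
    (P : Subgroup G) ≤ normalizer (A : Set G) := fun s hs => mem_normalizer_iff.2 fun v =>
  ⟨fun hv => h.conj_mem hP hv (mul_mem (mul_mem hs (hP hv)) (inv_mem hs)), fun hv => by
    have h1 := h.conj_mem hP hv (g := s⁻¹) (mul_mem (mul_mem (inv_mem hs) (hP hv)) (inv_mem (inv_mem hs)))
    simpa [mul_assoc] using h1⟩

theorem Minimal.normalizer_ne_top [IsSimpleGroup G] (hna : ¬ IsMulCommutative G) :
    normalizer (A : Set G) ≠ ⊤ := fun e => by
  haveI hn : A.Normal := Subgroup.normalizer_eq_top_iff.1 e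
  rcases hn.eq_bot_or_eq_top with e' | e'
  · exact h.nt e'
  · exact hna ⟨⟨fun a b => comm_of_elem h.elem (e' ▸ mem_top a) (e' ▸ mem_top b)⟩⟩

/-- The order is at least eight. -/
theorem Minimal.eight_le [IsSimpleGroup G] (hna : ¬ IsMulCommutative G) (h3 : ¬ 3 ∣ Nat.card G) :
    8 ≤ Nat.card A := by
  classical
  haveI : Fact (Nat.Prime 2) := ⟨Nat.prime_two⟩
  -- no non-trivial element of `A` is fixed by its normaliser
  have hfix : ∀ z ∈ A, z ≠ 1 → ¬ ∀ n ∈ normalizer (A : Set G), n * z * n⁻¹ = z := by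
    intro z hz hz1 hfx
    obtain ⟨P, hP⟩ := exists_sylow_ge h.elem
    obtain ⟨N, hN, hNo, hcomm⟩ := S0215.result P z (orderOf_eq_prime (h.elem.2 z hz) hz1) (hP hz) fun g hg => by
      obtain ⟨n, hn, e⟩ := fusion h.elem (h.closed P hP) hz (h.conj_mem hP hz hg)
      rw [e, hfx n hn]
    rcases hN.eq_bot_or_eq_top with e | e
    · subst e
      have hzc : z ∈ center G := mem_center_iff.2 fun g => by
        have h1 : z * g * z⁻¹ * g⁻¹ = 1 := mem_bot.1 (hcomm g)
        rw [mul_inv_eq_one, mul_inv_eq_iff_eq_mul] at h1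
        exact h1.symm
      rcases (inferInstance : (center G).Normal).eq_bot_or_eq_top with e' | e'
      · rw [e', mem_bot] at hzc; exact hz1 hzc
      · exact hna ⟨⟨fun a b => mem_center_iff.1 (e' ▸ mem_top b) a⟩⟩
    · rw [e, Subgroup.card_top] at hNo
      have : 2 ∣ Nat.card G := (show orderOf z = 2 from orderOf_eq_prime (h.elem.2 z hz) hz1) ▸ orderOf_dvd_natCard z
      exact absurd this (Nat.two_dvd_ne_zero.2 (Nat.odd_iff.1 hNo))
  obtain ⟨k, hk⟩ := IsPGroup.iff_card.1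
    (fun a : A => ⟨1, Subtype.ext (by simpa using h.elem.2 a a.2)⟩ : IsPGroup 2 A)
  by_contra hlt
  rw [hk] at hlt
  have hk2 : k ≤ 2 := by
    by_contra h'
    exact hlt (le_trans (by norm_num) (Nat.pow_le_pow_right two_pos (show 3 ≤ k by omega)))
  set N := normalizer (A : Set G)
  letI : MulAction N A :=
    { smul := fun n a => ⟨n * a * (n : G)⁻¹, (mem_normalizer_iff.1 n.2 a).1 a.2⟩
      one_smul := fun a => Subtype.ext (show (1 : G) * a * (1 : G)⁻¹ = a by group)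
      mul_smul := fun n n' a => Subtype.ext (show (n : G) * n' * a * ((n : G) * n')⁻¹ =
        n * (n' * a * (n' : G)⁻¹) * (n : G)⁻¹ by group) }
  haveI := Fintype.ofFinite A
  obtain ⟨⟨a, ha⟩, ha1⟩ := A.ne_bot_iff_exists_ne_one.1 h.nt
  have ha1' : a ≠ 1 := fun e => ha1 (Subtype.ext e)
  -- the orbit avoids `1` and has order one, two, or a multiple of three
  set O := MulAction.orbit N (⟨a, ha⟩ : A)
  have hO1 : (1 : A) ∉ O := by
    rintro ⟨n, hn⟩
    have : (n : G) * a * (n : G)⁻¹ = 1 := congrArg Subtype.val hn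
    exact ha1' (conj_eq_one_iff.1 this)
  have hOcard : Nat.card O ∣ Nat.card G :=
    (MulAction.index_stabilizer N (⟨a, ha⟩ : A) ▸ (Subgroup.index_dvd_card _) :
      O.ncard ∣ Nat.card N) |>.trans (Subgroup.card_subgroup_dvd_card N) |> fun h => by
        rwa [Nat.card_coe_set_eq]
  have hOlt : O.ncard + 1 ≤ 2 ^ k := by
    rw [← hk, ← Set.ncard_insert_of_notMem hO1 (Set.toFinite _)]
    exact (Set.ncard_le_ncard (Set.subset_univ _) (Set.toFinite _)).trans (by rw [Set.ncard_univ])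
  have hOpos : 1 ≤ O.ncard := (Set.ncard_pos (Set.toFinite _)).2 ⟨_, MulAction.mem_orbit_self _⟩
  rw [Nat.card_coe_set_eq] at hOcard
  have h12 : O.ncard = 1 ∨ O.ncard = 2 := by
    have : 2 ^ k ≤ 4 := Nat.pow_le_pow_right two_pos hk2
    rcases (show O.ncard = 1 ∨ O.ncard = 2 ∨ O.ncard = 3 by omega) with e | e | e
    · exact Or.inl e
    · exact Or.inr e
    · exact absurd (e ▸ hOcard) h3
  rcases h12 with e | e
  · obtain ⟨b, hb⟩ := Set.ncard_eq_one.1 e
    refine hfix a ha ha1' fun n hn => ?_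
    have h1 : (⟨n, hn⟩ : N) • (⟨a, ha⟩ : A) ∈ O := MulAction.mem_orbit _ _
    have h2 : (⟨a, ha⟩ : A) ∈ O := MulAction.mem_orbit_self _
    rw [hb, Set.mem_singleton_iff] at h1 h2
    exact congrArg Subtype.val (h1.trans h2.symm)
  · obtain ⟨x, y, hxy, hb⟩ := Set.ncard_eq_two.1 e
    have hx : x ∈ O := hb ▸ Set.mem_insert _ _
    have hy : y ∈ O := hb ▸ Set.mem_insert_of_mem _ rfl
    refine hfix ((x : G) * y) (mul_mem x.2 y.2) (fun e1 => hxy (Subtype.ext ?_)) fun n hn => ?_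
    · rw [mul_eq_one_iff_eq_inv] at e1
      rw [e1, inv_eq_of_mul_eq_one_right (sq_of_elem h.elem y.2)]
    · have hmap : ∀ w ∈ O, (⟨n, hn⟩ : N) • w ∈ O := fun w hw => by
        have := MulAction.mem_orbit w (⟨n, hn⟩ : N)
        rwa [MulAction.orbit_eq_iff.2 hw] at this
      have hx' := hmap x hx
      have hy' := hmap y hy
      have hne : (⟨n, hn⟩ : N) • x ≠ (⟨n, hn⟩ : N) • y := fun e2 => hxy (MulAction.injective _ e2)
      rw [hb, Set.mem_insert_iff, Set.mem_singleton_iff] at hx' hy'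
      have e3 : ((⟨n, hn⟩ : N) • x).1 * ((⟨n, hn⟩ : N) • y).1 = (x : G) * y := by
        rcases hx' with e' | e' <;> rcases hy' with e'' | e''
        · exact absurd (e'.trans e''.symm) hne
        · rw [e', e'']
        · rw [e', e'', comm_of_elem h.elem x.2 y.2]
        · exact absurd (e'.trans e''.symm) hne
      refine Eq.trans ?_ e3
      show n * (x * y) * n⁻¹ = n * x * n⁻¹ * (n * y * n⁻¹)
      group

/-- The normaliser has no subgroup of index two. -/
theorem Minimal.no_index_two [IsSimpleGroup G] (hna : ¬ IsMulCommutative G)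
    {K : Subgroup ↥(normalizer (A : Set G))} (hK : K.index = 2) : False := by
  haveI : Fact (Nat.Prime 2) := ⟨Nat.prime_two⟩
  obtain ⟨P, hP⟩ := exists_sylow_ge h.elem
  obtain ⟨T, hAT, hT⟩ := S2791.result P A h.elem.1 (h.closed P hP)
  revert K
  set N := normalizer (A : Set G) with hN
  intro K hK
  have hTN : (T : Subgroup G) ≤ N := h.sylow_le_normalizer hAT
  have hidx : Nat.Coprime 2 N.index := Nat.prime_two.coprime_iff_not_dvd.2 fun hd =>
    T.not_dvd_index (hd.trans (Subgroup.index_dvd_of_le hTN))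
  have hcon : ∀ g ∈ N, (∃ j : ℕ, orderOf g = 2 ^ j) → ∃ c ∈ N, c * g * c⁻¹ ∈ (T : Subgroup G) := by
    rintro g hg ⟨j, hj⟩
    have hp : IsPGroup 2 (zpowers (⟨g, hg⟩ : N)) :=
      IsPGroup.of_card (n := j) (by rw [Nat.card_zpowers, Subgroup.orderOf_mk, hj])
    obtain ⟨Q, hQ⟩ := hp.exists_le_sylow
    obtain ⟨c, hc⟩ := MulAction.exists_smul_eq N Q (T.subtype hTN)
    refine ⟨c, c.2, ?_⟩
    have h1 : c * (⟨g, hg⟩ : N) * c⁻¹ ∈ ((T.subtype hTN : Sylow 2 N) : Subgroup N) := by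
      rw [← hc]; exact ⟨_, hQ (mem_zpowers _), rfl⟩
    exact h1
  have hfus : ∀ g ∈ N, (∃ j : ℕ, orderOf g = 2 ^ j) → ∀ a : G, a * g * a⁻¹ ∈ N →
      ∃ n ∈ N, n * g * n⁻¹ = a * g * a⁻¹ := by
    intro g hg hj a hag
    obtain ⟨c, hc, hcT⟩ := hcon g hg hj
    obtain ⟨d, hd, hdT⟩ := hcon _ hag (by
      obtain ⟨j, hj⟩ := hj
      exact ⟨j, by rw [← MulAut.conj_apply, MulEquiv.orderOf_eq, hj]⟩)
    obtain ⟨-, h2⟩ := hT {c * g * c⁻¹} (Set.singleton_subset_iff.2 hcT)
    obtain ⟨n, hn, hn'⟩ := h2 (d * a * c⁻¹) (by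
      rintro _ ⟨y, rfl, rfl⟩
      show d * a * c⁻¹ * (c * g * c⁻¹) * (d * a * c⁻¹)⁻¹ ∈ (T : Subgroup G)
      rw [show d * a * c⁻¹ * (c * g * c⁻¹) * (d * a * c⁻¹)⁻¹ = d * (a * g * a⁻¹) * d⁻¹ by group]
      exact hdT)
    refine ⟨d⁻¹ * n * c, mul_mem (mul_mem (inv_mem hd) hn) hc, ?_⟩
    rw [show d⁻¹ * n * c * g * (d⁻¹ * n * c)⁻¹ = d⁻¹ * (n * (c * g * c⁻¹) * n⁻¹) * d by group,
      ← hn' _ rfl]
    group
  have hkey := S1242.result (p := 2) N hidx hfus
  have hcomm : commutator G = ⊤ := by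
    refine (inferInstance : (commutator G).Normal).eq_bot_or_eq_top.resolve_left fun e => hna ⟨⟨fun a b => ?_⟩⟩
    rw [← commutatorElement_eq_one_iff_mul_comm, ← mem_bot, ← e]
    exact Subgroup.commutator_mem_commutator (mem_top a) (mem_top b)
  rw [hcomm, sup_top_eq, top_inf_eq] at hkey
  haveI : K.Normal := Subgroup.normal_of_index_eq_two hK
  have hle : Cfsg.pResidual 2 ↥N ⊔ commutator ↥N ≤ K := by
    refine sup_le (Transfer.pResidual_le_of_index (p := 2) (k := 1) (by rw [hK, pow_one])) ?_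
    haveI : IsCyclic (↥N ⧸ K) := isCyclic_of_prime_card (p := 2) (by rw [← Subgroup.index_eq_card, hK])
    rw [_root_.commutator_def, Subgroup.commutator_le]
    intro x _ y _
    rw [← QuotientGroup.eq_one_iff]
    show (QuotientGroup.mk' K) ⁅x, y⁆ = 1
    rw [map_commutatorElement, commutatorElement_eq_one_iff_mul_comm]
    exact mul_comm' _ _
  have htop : Cfsg.pResidual 2 ↥N ⊔ commutator ↥N = ⊤ :=
    Subgroup.map_injective N.subtype_injective (by rw [← hkey, ← MonoidHom.range_eq_map, N.range_subtype])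
  rw [htop, top_le_iff] at hle
  rw [hle, Subgroup.index_top] at hK
  omega

/-- A Sylow subgroup containing `A` is four-connected and has rank at least three. -/
theorem Minimal.connected (h8 : 8 ≤ Nat.card A) {P : Sylow 2 G} (hP : A ≤ (P : Subgroup G)) :
    Cfsg.IsFourConnected ↥(P : Subgroup G) ∧ ¬ Cfsg.PRankLE 2 2 G := by
  haveI : Fact (Nat.Prime 2) := ⟨Nat.prime_two⟩
  refine ⟨?_, fun hr => ?_⟩
  swap
  · have := hr A h.elem.1 h.elem.2
    omega
  set Q := A.subgroupOf (P : Subgroup G)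
  have hQ2 : ∀ q ∈ Q, q * q = 1 := fun q hq => Subtype.ext (sq_of_elem h.elem hq)
  have hQc : ∀ q ∈ Q, ∀ r ∈ Q, q * r = r * q := fun q hq r hr => Subtype.ext (comm_of_elem h.elem hq hr)
  have hQn : ∀ (u : ↥(P : Subgroup G)), ∀ q ∈ Q, u * q * u⁻¹ ∈ Q := fun u q hq =>
    h.conj_mem hP hq (mul_mem (mul_mem u.2 q.2) (inv_mem u.2) : (u : G) * q * (u : G)⁻¹ ∈ _)
  have hne : ∀ {q : ↥(P : Subgroup G)}, q * q = 1 → q ≠ 1 → orderOf q = 2 := fun h2 h1 =>
    orderOf_eq_prime (by rw [pow_two, h2]) h1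
  have hreach : ∀ U : Subgroup ↥(P : Subgroup G), IsKleinFour U →
      ∃ W : Subgroup ↥(P : Subgroup G), IsKleinFour W ∧ W ≤ Q ∧
        Relation.ReflTransGen (fun A B : Subgroup ↥(P : Subgroup G) =>
          IsKleinFour A ∧ IsKleinFour B ∧ ∀ a ∈ A, ∀ b ∈ B, a * b = b * a) U W := by
    intro U hU
    have hU2 : ∀ u ∈ U, u * u = 1 := fun u hu => congrArg Subtype.val (hU.mul_self ⟨u, hu⟩)
    have hUc : ∀ u ∈ U, ∀ v ∈ U, u * v = v * u := fun u hu v hv => by
      have h1 := hU2 _ (mul_mem hu hv)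
      rw [← inv_eq_of_mul_eq_one_right h1, mul_inv_rev, inv_eq_of_mul_eq_one_right (hU2 u hu),
        inv_eq_of_mul_eq_one_right (hU2 v hv)]
    have hQcard : Nat.card Q = Nat.card A := Nat.card_congr (subgroupOfEquivOfLe hP).toEquiv
    letI : MulAction U Q :=
      { smul := fun u q => ⟨(u : ↥(P : Subgroup G)) * q * (u : ↥(P : Subgroup G))⁻¹, hQn _ _ q.2⟩
        one_smul := fun q => Subtype.ext (show (1 : ↥(P : Subgroup G)) * q * 1⁻¹ = q by group)
        mul_smul := fun u v q => Subtype.ext (show ((u : ↥(P : Subgroup G)) * v) * q * ((u : ↥(P : Subgroup G)) * v)⁻¹ =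
          u * (v * q * (v : ↥(P : Subgroup G))⁻¹) * (u : ↥(P : Subgroup G))⁻¹ by group) }
    have hUp : IsPGroup 2 U := fun u => ⟨1, by rw [pow_one, pow_two]; exact hU.mul_self u⟩
    have hdvd : 2 ∣ Nat.card Q := by
      obtain ⟨k, hk⟩ := IsPGroup.iff_card.1 (fun q : Q => ⟨1, Subtype.ext (by simpa [pow_two] using hQ2 q q.2)⟩ :
        IsPGroup 2 Q)
      rw [hk]
      exact dvd_pow_self 2 (fun e => by rw [hk, e, pow_zero] at hQcard; omega)
    obtain ⟨q, hq, hq1⟩ := hUp.exists_fixed_point_of_prime_dvd_card_of_fixed_point Q hdvd (a := (1 : Q))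
      (fun u => Subtype.ext (show (u : ↥(P : Subgroup G)) * 1 * (u : ↥(P : Subgroup G))⁻¹ = 1 by group))
    have hq1' : (q : ↥(P : Subgroup G)) ≠ 1 := fun e => hq1 (Subtype.ext e).symm
    have hqU : ∀ u ∈ U, u * (q : ↥(P : Subgroup G)) = q * u := fun u hu => by
      have := congrArg Subtype.val (hq ⟨u, hu⟩)
      exact mul_inv_eq_iff_eq_mul.1 this
    obtain ⟨w, hw, hw1, hwq⟩ : ∃ w ∈ U, w ≠ 1 ∧ w ≠ (q : ↥(P : Subgroup G)) := by
      by_contra hcon
      push Not at hcon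
      have hsub : (U : Set ↥(P : Subgroup G)) ⊆ {1, (q : ↥(P : Subgroup G))} := fun u hu => by
        by_cases e : u = 1
        · exact Or.inl e
        · exact Or.inr (hcon u hu e)
      have h4 := Set.ncard_le_ncard hsub (Set.toFinite _)
      have h2 : ({1, (q : ↥(P : Subgroup G))} : Set ↥(P : Subgroup G)).ncard ≤ 2 :=
        (Set.ncard_insert_le _ _).trans (by simp)
      rw [← Nat.card_coe_set_eq] at h4
      have : Nat.card U = 4 := hU.card_four
      change Nat.card U ≤ _ at h4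
      omega
    let f : Q →* Q := MonoidHom.mk' (fun r => ⟨w * r * w⁻¹ * r, mul_mem (hQn _ _ r.2) r.2⟩) fun r r' =>
      Subtype.ext (by
        show w * (r * r' : ↥(P : Subgroup G)) * w⁻¹ * (r * r') = w * r * w⁻¹ * r * (w * r' * w⁻¹ * r')
        have := hQc _ (hQn w _ r'.2) _ r.2
        rw [show w * (r * r' : ↥(P : Subgroup G)) * w⁻¹ * (r * r') = (w * r * w⁻¹) * ((w * r' * w⁻¹) * r) * r' by
          group, this]
        group)
    have hfv : ∀ r, ((f r : Q) : ↥(P : Subgroup G)) = w * r * w⁻¹ * r := fun r => rfl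
    have hrk : f.range ≤ f.ker := by
      rintro _ ⟨r, rfl⟩
      rw [MonoidHom.mem_ker]
      refine Subtype.ext ?_
      rw [hfv, hfv, show w * (w * r * w⁻¹ * r) * w⁻¹ = (w * w) * r * (w * w)⁻¹ * (w * r * w⁻¹) by group,
        hU2 w hw, one_mul, inv_one, mul_one]
      rw [show (r : ↥(P : Subgroup G)) * (w * r * w⁻¹) * (w * r * w⁻¹ * r) =
        r * ((w * r * w⁻¹) * (w * r * w⁻¹)) * r by group, hQ2 _ (hQn _ _ r.2), mul_one, hQ2 _ r.2]
      rfl
    have hker : 2 < Nat.card f.ker := by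
      have h1 := Subgroup.card_le_of_le hrk
      have h2 : Nat.card f.ker * Nat.card f.range = Nat.card Q := by
        rw [← Subgroup.index_ker, Subgroup.card_mul_index]
      by_contra hlt
      nlinarith
    obtain ⟨r, hr, hr1, hrq⟩ : ∃ r ∈ f.ker, r ≠ 1 ∧ r ≠ q := by
      by_contra hcon
      push Not at hcon
      have hsub : (f.ker : Set Q) ⊆ {1, q} := fun u hu => by
        by_cases e : u = 1
        · exact Or.inl e
        · exact Or.inr (hcon u hu e)
      have h4 := Set.ncard_le_ncard hsub (Set.toFinite _)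
      have h2 : ({1, q} : Set Q).ncard ≤ 2 := (Set.ncard_insert_le _ _).trans (by simp)
      rw [← Nat.card_coe_set_eq] at h4
      change Nat.card f.ker ≤ _ at h4
      omega
    have hwr : w * (r : ↥(P : Subgroup G)) = r * w := by
      have h1 := congrArg Subtype.val (MonoidHom.mem_ker.1 hr)
      rw [hfv, OneMemClass.coe_one, mul_eq_one_iff_eq_inv, inv_eq_of_mul_eq_one_right (hQ2 _ r.2),
        mul_inv_eq_iff_eq_mul] at h1
      exact h1
    obtain ⟨V, hV, hwV, hqV, hVle⟩ := CoreConsumers.exists_klein_of_commute (hne (hU2 w hw) hw1)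
      (hne (hQ2 _ q.2) hq1') hwq (hqU w hw)
    obtain ⟨W, hW, hqW, hrW, hWle⟩ := CoreConsumers.exists_klein_of_commute (hne (hQ2 _ q.2) hq1')
      (hne (hQ2 _ r.2) fun e => hr1 (Subtype.ext e)) (fun e => hrq (Subtype.ext e).symm) (hQc _ q.2 _ r.2)
    have hWQ : W ≤ Q := hWle.trans (sup_le (zpowers_le.2 q.2) (zpowers_le.2 r.2))
    refine ⟨W, hW, hWQ, Relation.ReflTransGen.head ⟨hU, hV, fun a ha b hb => ?_⟩
      (Relation.ReflTransGen.single ⟨hV, hW, fun a ha b hb => ?_⟩)⟩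
    · have hle : V ≤ centralizer {a} := hVle.trans (sup_le (zpowers_le.2 (mem_centralizer_singleton_iff.2
        (hUc w hw a ha))) (zpowers_le.2 (mem_centralizer_singleton_iff.2 (hqU a ha).symm)))
      exact (mem_centralizer_singleton_iff.1 (hle hb)).symm
    · have hle : V ≤ centralizer {b} := hVle.trans (sup_le (zpowers_le.2 (mem_centralizer_singleton_iff.2 ?_))
        (zpowers_le.2 (mem_centralizer_singleton_iff.2 (hQc _ q.2 _ (hWQ hb)))))
      · exact mem_centralizer_singleton_iff.1 (hle ha)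
      have hle2 : W ≤ centralizer {w} := hWle.trans (sup_le (zpowers_le.2 (mem_centralizer_singleton_iff.2
        (hqU w hw).symm)) (zpowers_le.2 (mem_centralizer_singleton_iff.2 hwr.symm)))
      exact (mem_centralizer_singleton_iff.1 (hle2 hb)).symm
  intro U V hU hV
  obtain ⟨W₁, hW₁, hW₁Q, h₁⟩ := hreach U hU
  obtain ⟨W₂, hW₂, hW₂Q, h₂⟩ := hreach V hV
  exact (h₁.tail ⟨hW₁, hW₂, fun a ha b hb => hQc a (hW₁Q ha) b (hW₂Q hb)⟩).trans (Fus.FourGraph.reach_symm h₂)

end Cfsg.Agent.Invol.ThreeFree
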