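import Cfsg.Agent.Lib.Invol.ThreeFree.Centre

/-!
# The Sylow subgroups of the simple components inside the 2-core of the centraliser

For a component `L` moved by `A` the Sylow subgroup `C_L(A)` lies in `D = O₂(C(A))`, which is its product
with `C_D(L)`.  Comparing class sizes in `D` gives that for two such components `L`, `M` either `A ∩ L = A ∩ M`
or each of these groups centralises the other component.
-/

set_option autoImplicit false
set_option linter.style.haveILetI false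

open Subgroup
open scoped commutatorElement

namespace Cfsg.Agent.Invol.ThreeFree

universe u

variable {G : Type u} [Group G] [Finite G] [IsSimpleGroup G] {A : Subgroup G}

/-- A component of the centraliser of an element of `A` which `A` moves. -/
def Active (A L : Subgroup G) : Prop :=
  (∃ a ∈ A, a ≠ 1 ∧ Cfsg.IsComponentOf L (centralizer ({a} : Set G))) ∧ ¬ A ≤ centralizer (L : Set G)

/-- The 2-core of the centraliser of `A`. -/
def core (A : Subgroup G) : Subgroup G :=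
  (Cfsg.pCore 2 ↥(centralizer (A : Set G))).map (centralizer (A : Set G)).subtype

variable (s : Setup A)
include s

theorem Setup.active_sz {L : Subgroup G} (hL : Active A L) : Cfsg.Lie.IsoSuzuki ↥L := by
  obtain ⟨⟨a, ha, ha1, hc⟩, hact⟩ := hL
  exact isoSuzuki_congr' (s.sz ha1 hc) ((QuotientGroup.quotientBot).symm.trans
    (QuotientGroup.quotientMulEquivOfEq (s.center_eq_bot ha ha1 hc hact).symm))

theorem Setup.active_split {L : Subgroup G} (hL : Active A L) {b : G} (hb : b ∈ A) :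
    ∃ l ∈ A, l ∈ L ∧ l⁻¹ * b ∈ centralizer (L : Set G) := by
  obtain ⟨⟨a, ha, ha1, hc⟩, hact⟩ := hL
  exact s.split ha ha1 hc hact hb

/-- The trivial meet of `L` with its centraliser. -/
theorem Setup.eq_one_of_mem {L : Subgroup G} (hL : Active A L) {x : G} (hx : x ∈ L)
    (hx' : x ∈ centralizer (L : Set G)) : x = 1 := by
  obtain ⟨⟨a, ha, ha1, hc⟩, hact⟩ := hL
  have h : (⟨x, hx⟩ : ↥L) ∈ center ↥L :=
    mem_center_iff.2 fun w => Subtype.ext (mem_centralizer_iff.1 hx' w w.2)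
  rw [s.center_eq_bot ha ha1 hc hact, mem_bot] at h
  exact congrArg Subtype.val h

/-- The Sylow subgroup `C_L(A)`; its involutions are those of `A ∩ L`. -/
theorem Setup.active_sylow {L : Subgroup G} (hL : Active A L) : ∃ S : Sylow 2 ↥L,
    (∀ x : ↥L, x ∈ (S : Subgroup ↥L) ↔ (x : G) ∈ centralizer (A : Set G)) ∧
    ∀ x : ↥L, x ∈ (S : Subgroup ↥L) → (x * x = 1 ↔ (x : G) ∈ A) := by
  haveI : Fact (Nat.Prime 2) := ⟨Nat.prime_two⟩
  have hsz := s.active_sz hL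
  have hone := fun {x : G} => s.eq_one_of_mem hL (x := x)
  obtain ⟨⟨a, ha, ha1, hc⟩, hact⟩ := id hL
  set X := centralizer ({a} : Set G) with hX
  have hloc := s.loc ha ha1
  obtain ⟨P, hP⟩ := exists_sylow_ge hloc.elem
  let eL : ↥(L.subgroupOf X) ≃* ↥L := subgroupOfEquivOfLe hc.1
  let S : Sylow 2 ↥L := (traceSylow P hc.2.1).mapSurjective (f := eL.toMonoidHom)
    (show Function.Surjective eL.toMonoidHom from eL.surjective)
  have hS : ∀ x : ↥L, x ∈ (S : Subgroup ↥L) ↔ (⟨(x : G), hc.1 x.2⟩ : ↥X) ∈ (P : Subgroup ↥X) := by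
    intro x
    rw [Sylow.coe_mapSurjective]
    constructor
    · rintro ⟨y, hy, rfl⟩
      exact hy
    · exact fun hx => ⟨⟨⟨x, hc.1 x.2⟩, x.2⟩, hx, rfl⟩
  have hA2 : ∀ x : ↥L, x ∈ (S : Subgroup ↥L) → (x * x = 1 ↔ (x : G) ∈ A) := by
    intro x hx
    refine ⟨fun hx2 => ?_, fun hxA => Subtype.ext (sq_of_elem s.min.elem hxA)⟩
    have hact' : ¬ A.subgroupOf X ≤ centralizer (L.subgroupOf X : Set ↥X) := fun hle => hact fun c hc' =>
      mem_centralizer_iff.2 fun w hw => congrArg Subtype.val (mem_centralizer_iff.1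
        (hle (show (⟨c, s.le_centralizer ha hc'⟩ : ↥X) ∈ A.subgroupOf X from hc')) ⟨w, hc.1 hw⟩ hw)
    obtain ⟨l, hl, hlz⟩ := hloc.cover hc.2 hact' P hP ⟨⟨x, hc.1 x.2⟩, x.2⟩ ((hS x).1 hx) (by
      rw [show (⟨⟨x, hc.1 x.2⟩, x.2⟩ : ↥(L.subgroupOf X)) * ⟨⟨x, hc.1 x.2⟩, x.2⟩ = 1 from
        Subtype.ext (Subtype.ext (congrArg Subtype.val hx2 :))]
      exact one_mem _)
    have hv : (x : G)⁻¹ * ((l : ↥X) : G) = 1 := by
      refine hone (L.mul_mem (L.inv_mem x.2) l.2) (mem_centralizer_iff.2 fun w hw => ?_)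
      exact congrArg (fun t : ↥(L.subgroupOf X) => ((t : ↥X) : G))
        (mem_center_iff.1 hlz ⟨⟨w, hc.1 hw⟩, hw⟩)
    rw [inv_mul_eq_one] at hv
    rw [hv]; exact hl
  refine ⟨S, fun x => ⟨fun hx => mem_centralizer_iff.2 fun b hb => ?_, fun hx => ?_⟩, hA2⟩
  · obtain ⟨l, hl, hlL, hlc⟩ := s.split ha ha1 hc hact hb
    have hlS : (⟨l, hlL⟩ : ↥L) ∈ (S : Subgroup ↥L) := (hS _).2 (hP hl)
    have h1 : (x : G) * l = l * x := congrArg Subtype.val
      (sz_omega_central hsz S hlS ((hA2 _ hlS).2 hl) hx)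
    have h2 : (x : G) * (l⁻¹ * b) = l⁻¹ * b * x := mem_centralizer_iff.1 hlc x x.2
    calc b * (x : G) = l * (l⁻¹ * b * x) := by group
      _ = l * ((x : G) * (l⁻¹ * b)) := by rw [h2]
      _ = (x : G) * b := by rw [← mul_assoc, ← h1]; group
  · obtain ⟨w, hw, hw2, hw1⟩ := sz_exists_omega hsz S
    exact sz_centralizer hsz S hw hw1 (Subtype.ext (mem_centralizer_iff.1 hx w ((hA2 w hw).1 hw2)).symm)

/-- There is a non-trivial element of `A` in a moved component. -/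
theorem Setup.active_exists {L : Subgroup G} (hL : Active A L) : ∃ l ∈ A, l ∈ L ∧ l ≠ 1 := by
  obtain ⟨S, -, hS2⟩ := s.active_sylow hL
  obtain ⟨w, hw, hw2, hw1⟩ := sz_exists_omega (s.active_sz hL) S
  exact ⟨w, (hS2 w hw).1 hw2, w.2, fun e => hw1 (Subtype.ext e)⟩

/-- The centraliser of `A` normalises a moved component. -/
theorem Setup.centralizer_le_normalizer {L : Subgroup G} (hL : Active A L) :
    centralizer (A : Set G) ≤ normalizer (L : Set G) := by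
  obtain ⟨l, hl, hlL, hl1⟩ := s.active_exists hL
  have hone := fun {x : G} => s.eq_one_of_mem hL (x := x)
  obtain ⟨⟨a, ha, ha1, hc⟩, hact⟩ := id hL
  set X := centralizer ({a} : Set G) with hX
  intro g hg
  have hgX : g ∈ X := mem_centralizer_singleton_iff.2 (mem_centralizer_iff.1 hg a ha).symm
  by_contra hn
  set L' := L.subgroupOf X
  have hne : L' ≠ L'.map (MulAut.conj (⟨g, hgX⟩ : ↥X)).toMonoidHom := fun e => hn (by
    refine mem_normalizer_iff.2 fun w => ⟨fun hw => ?_, fun hw => ?_⟩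
    · have : (⟨g, hgX⟩ : ↥X) * ⟨w, hc.1 hw⟩ * (⟨g, hgX⟩ : ↥X)⁻¹ ∈ L'.map (MulAut.conj (⟨g, hgX⟩ : ↥X)).toMonoidHom :=
        ⟨_, hw, rfl⟩
      rw [← e] at this
      exact this
    · have h' : (⟨g * w * g⁻¹, hc.1 hw⟩ : ↥X) ∈ L' := hw
      rw [e] at h'
      obtain ⟨v, hv, hvw⟩ := h'
      have : g * (v : G) * g⁻¹ = g * w * g⁻¹ := congrArg Subtype.val hvw
      rw [← mul_left_cancel (mul_right_cancel this)]
      exact hv)
  have hlc : (⟨l, hc.1 hlL⟩ : ↥X) ∈ L'.map (MulAut.conj (⟨g, hgX⟩ : ↥X)).toMonoidHom :=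
    ⟨⟨l, hc.1 hlL⟩, hlL, Subtype.ext (by
      show g * l * g⁻¹ = l
      rw [← mem_centralizer_iff.1 hg l hl, mul_inv_cancel_right])⟩
  refine hl1 (hone hlL (mem_centralizer_iff.2 fun w hw => ?_))
  exact (congrArg Subtype.val (mem_centralizer_iff.1
    (Grp.IsComponent.commute hc.2 (Grp.IsComponent.conj hc.2 _) hne
      (show (⟨w, hc.1 hw⟩ : ↥X) ∈ L' from hw)) _ hlc)).symm

omit s in
theorem core_le : core A ≤ centralizer (A : Set G) := Subgroup.map_subtype_le _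

omit s in
theorem core_isPGroup : IsPGroup 2 ↥(core A) :=
  haveI : Fact (Nat.Prime 2) := ⟨Nat.prime_two⟩
  (Grp.pCore_isPGroup (p := 2)).map _

/-- The Sylow subgroup of a moved component lies in the core. -/
theorem Setup.sylow_le_core {L : Subgroup G} (hL : Active A L) {x : G} (hx : x ∈ L)
    (hxA : x ∈ centralizer (A : Set G)) : x ∈ core A := by
  haveI : Fact (Nat.Prime 2) := ⟨Nat.prime_two⟩
  obtain ⟨S, hS, -⟩ := s.active_sylow hL
  refine ⟨⟨x, hxA⟩, Grp.le_pCore (N := L.subgroupOf (centralizer (A : Set G))) ?_ ?_ hx, rfl⟩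
  · exact Subgroup.normal_subgroupOf_of_le_normalizer (s.centralizer_le_normalizer hL)
  · intro w
    obtain ⟨k, hk⟩ := S.isPGroup' ⟨⟨((w : ↥(centralizer (A : Set G))) : G), w.2⟩, (hS _).2 w.1.2⟩
    exact ⟨k, Subtype.ext (Subtype.ext (congrArg (fun t : ↥(S : Subgroup ↥L) => ((t : ↥L) : G)) hk :))⟩

/-- The core is the product of that Sylow subgroup and the centraliser of the component. -/
theorem Setup.core_decomp {L : Subgroup G} (hL : Active A L) {d : G} (hd : d ∈ core A) :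
    ∃ t ∈ L, t ∈ centralizer (A : Set G) ∧ t⁻¹ * d ∈ centralizer (L : Set G) ∧ t⁻¹ * d ∈ core A := by
  haveI : Fact (Nat.Prime 2) := ⟨Nat.prime_two⟩
  have hsz := s.active_sz hL
  obtain ⟨S, hS, hS2⟩ := s.active_sylow hL
  have hdA := core_le hd
  have hdN := s.centralizer_le_normalizer hL hdA
  set φ : MulAut ↥L := L.normalizerMonoidHom ⟨d, hdN⟩ with hφ
  obtain ⟨k, hk⟩ := core_isPGroup ⟨d, hd⟩
  obtain ⟨t, ht⟩ := sz_inner hsz φ (k := k) (by
    rw [hφ, ← map_pow, show (⟨d, hdN⟩ : ↥(normalizer (L : Set G))) ^ 2 ^ k = 1 from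
      Subtype.ext (by simpa using congrArg Subtype.val hk), map_one])
  have hcomm : ∀ w : ↥L, d * (w : G) * d⁻¹ = ((t * w * t⁻¹ : ↥L) : G) := fun w =>
    congrArg Subtype.val (DFunLike.congr_fun ht w)
  obtain ⟨w, hw, hw2, hw1⟩ := sz_exists_omega hsz S
  have hwA := (hS2 w hw).1 hw2
  have htS : t ∈ (S : Subgroup ↥L) := by
    refine sz_centralizer hsz S hw hw1 ?_
    have h1 := hcomm w
    rw [← mem_centralizer_iff.1 hdA w hwA, mul_inv_cancel_right] at h1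
    have h2 : w = t * w * t⁻¹ := Subtype.ext h1
    rw [eq_mul_inv_iff_mul_eq] at h2
    exact h2.symm
  refine ⟨t, t.2, (hS t).1 htS, mem_centralizer_iff.2 fun v hv => ?_,
    mul_mem (inv_mem (s.sylow_le_core hL t.2 ((hS t).1 htS))) hd⟩
  have h1 := hcomm ⟨v, hv⟩
  simp only [Subgroup.coe_mul, Subgroup.coe_inv] at h1
  calc v * ((t : G)⁻¹ * d) = (t : G)⁻¹ * ((t : G) * v * (t : G)⁻¹) * d := by group
    _ = _ := by rw [← h1]; group

theorem Setup.class_two_le {L : Subgroup G} (hL : Active A L) (S : Sylow 2 ↥L) :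
    3 ≤ ({w | w ∈ (S : Subgroup ↥L) ∧ w * w = 1} : Set ↥L).ncard := by
  have hsz := s.active_sz hL
  obtain ⟨w, hw, hw2, hw1⟩ := sz_exists_omega hsz S
  obtain ⟨v, hv, hv2, hv1, hvw⟩ := sz_exists_third hsz S w
  have h3 : ({1, w, v} : Set ↥L).ncard = 3 := by
    rw [Set.ncard_insert_of_notMem (by simp [Ne.symm hw1, Ne.symm hv1]) (Set.toFinite _),
      Set.ncard_pair (Ne.symm hvw)]
  rw [← h3]
  refine Set.ncard_le_ncard ?_ (Set.toFinite _)
  rintro x (rfl | rfl | rfl)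
  · exact ⟨one_mem _, one_mul 1⟩
  · exact ⟨hw, hw2⟩
  · exact ⟨hv, hv2⟩

/-- The trace of `A` on a moved component counted in two ways. -/
theorem Setup.card_trace {L : Subgroup G} (hL : Active A L) (S : Sylow 2 ↥L)
    (hS : ∀ x : ↥L, x ∈ (S : Subgroup ↥L) ↔ (x : G) ∈ centralizer (A : Set G))
    (hS2 : ∀ x : ↥L, x ∈ (S : Subgroup ↥L) → (x * x = 1 ↔ (x : G) ∈ A)) :
    ({w | w ∈ (S : Subgroup ↥L) ∧ w * w = 1} : Set ↥L).ncard = Nat.card ↥(A ⊓ L) := by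
  rw [← Nat.card_coe_set_eq]
  exact Nat.card_congr
    { toFun := fun w => ⟨(w.1 : G), (hS2 w.1 w.2.1).1 w.2.2, w.1.2⟩
      invFun := fun x => ⟨⟨x.1, x.2.2⟩, (hS _).2 (mem_centralizer_iff.2 fun b hb => comm_of_elem s.min.elem hb x.2.1),
        Subtype.ext (sq_of_elem s.min.elem x.2.1)⟩
      left_inv := fun w => rfl
      right_inv := fun x => rfl }

/-- Commutators of the Sylow subgroup make the trace of `A`. -/
theorem Setup.trace_le {L : Subgroup G} (hL : Active A L) {H : Subgroup G}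
    (h : ∀ t₁ ∈ L, t₁ ∈ centralizer (A : Set G) → ∀ t₂ ∈ L, t₂ ∈ centralizer (A : Set G) → ⁅t₁, t₂⁆ ∈ H) :
    A ⊓ L ≤ H := by
  obtain ⟨S, hS, hS2⟩ := s.active_sylow hL
  rintro x ⟨hxA, hxL⟩
  have hxS : (⟨x, hxL⟩ : ↥L) ∈ (S : Subgroup ↥L) :=
    (hS _).2 (mem_centralizer_iff.2 fun b hb => comm_of_elem s.min.elem hb hxA)
  have h1 : (⟨x, hxL⟩ : ↥L) ∈ ⁅(S : Subgroup ↥L), (S : Subgroup ↥L)⁆ :=
    (sz_commutator (s.active_sz hL) S _).2 ⟨hxS, Subtype.ext (sq_of_elem s.min.elem hxA)⟩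
  have hle : ⁅(S : Subgroup ↥L), (S : Subgroup ↥L)⁆ ≤ H.comap L.subtype :=
    Subgroup.commutator_le.2 fun t₁ ht₁ t₂ ht₂ => h t₁ t₁.2 ((hS t₁).1 ht₁) t₂ t₂.2 ((hS t₂).1 ht₂)
  exact hle h1

/-- The comparison of two moved components. -/
theorem Setup.compare {L M : Subgroup G} (hL : Active A L) (hM : Active A M)
    (hle : Nat.card ↥(A ⊓ M) ≤ Nat.card ↥(A ⊓ L)) :
    A ⊓ M = A ⊓ L ∨ A ⊓ M ≤ centralizer (L : Set G) ∧ A ⊓ L ≤ centralizer (M : Set G) := by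
  haveI : Fact (Nat.Prime 2) := ⟨Nat.prime_two⟩
  classical
  have hszL := s.active_sz hL
  have hszM := s.active_sz hM
  obtain ⟨S, hS, hS2⟩ := s.active_sylow hL
  obtain ⟨R, hR, hR2⟩ := s.active_sylow hM
  set D := core A
  set C := centralizer (L : Set G)
  -- conjugation in the core, read in `M`
  have hclassM : ∀ w : ↥M, w ∈ (R : Subgroup ↥M) →
      (fun d => d * (w : G) * d⁻¹) '' (D : Set G) ⊆
        Subtype.val '' ((fun t => t * w * t⁻¹) '' ((R : Subgroup ↥M) : Set ↥M)) := by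
    rintro w hw _ ⟨d, hd, rfl⟩
    obtain ⟨t, htM, htA, htc, -⟩ := s.core_decomp hM hd
    refine ⟨_, ⟨⟨t, htM⟩, (hR _).2 htA, rfl⟩, ?_⟩
    show t * (w : G) * t⁻¹ = d * w * d⁻¹
    have h1 := mem_centralizer_iff.1 htc w w.2
    calc t * (w : G) * t⁻¹ = t * ((w : G) * (t⁻¹ * d)) * d⁻¹ := by group
      _ = _ := by rw [h1]; group
  have hmulinj : ∀ {x x' r r' : G}, x ∈ L → x' ∈ L → r ∈ C → r' ∈ C → x * r = x' * r' → x = x' ∧ r = r' := by
    intro x x' r r' hx hx' hr hr' e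
    have h1 : x'⁻¹ * x = r' * r⁻¹ := by
      calc x'⁻¹ * x = x'⁻¹ * (x * r) * r⁻¹ := by group
        _ = _ := by rw [e]; group
    have h2 : x'⁻¹ * x = 1 := s.eq_one_of_mem hL (mul_mem (inv_mem hx') hx) (h1 ▸ mul_mem hr' (inv_mem hr))
    rw [h2, eq_comm, mul_inv_eq_one] at h1
    exact ⟨(inv_mul_eq_one.1 h2).symm, h1.symm⟩
  -- an element of `M` is pure
  have hpure : ∀ w : ↥M, w ∈ (R : Subgroup ↥M) → ∀ x : ↥L, x ∈ (S : Subgroup ↥L) →
      (x : G)⁻¹ * w ∈ C → x * x ≠ 1 → ∀ r ∈ D ⊓ C, r * ((x : G)⁻¹ * w) = ((x : G)⁻¹ * w) * r := by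
    intro w hw x hx hc hx2 r hr
    by_contra hne
    set c := (x : G)⁻¹ * w with hcdef
    set c' := r * c * r⁻¹ with hc'
    have hcc : c ≠ c' := fun e => hne (by
      rw [hc', eq_mul_inv_iff_mul_eq] at e; exact e.symm)
    set IL := (fun t => t * x * t⁻¹) '' ((S : Subgroup ↥L) : Set ↥L)
    have hsub : (fun p : ↥L × Bool => (p.1 : G) * (if p.2 then c' else c)) '' (IL ×ˢ Set.univ) ⊆
        (fun d => d * (w : G) * d⁻¹) '' (D : Set G) := by
      rintro _ ⟨⟨_, b⟩, ⟨⟨t, ht, rfl⟩, -⟩, rfl⟩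
      refine ⟨(t : G) * (if b then r else 1), mul_mem (s.sylow_le_core hL t.2 ((hS t).1 ht))
        (by split_ifs; exacts [hr.1, one_mem _]), ?_⟩
      have hw' : (w : G) = x * c := by rw [hcdef]; group
      have hr' : (if b then r else 1) ∈ C := by split_ifs; exacts [hr.2, one_mem _]
      have hcx : ∀ v ∈ L, ∀ z ∈ C, v * z = z * v := fun v hv z hz => mem_centralizer_iff.1 hz v hv
      set r₀ := (if b then r else 1) with hr₀
      have hif : (if b then c' else c) = r₀ * c * r₀⁻¹ := by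
        rw [hr₀]; split_ifs
        · rfl
        · group
      show (t : G) * r₀ * (w : G) * ((t : G) * r₀)⁻¹ = ((t : G) * x * (t : G)⁻¹) * (if b then c' else c)
      rw [hif, hw']
      calc (t : G) * r₀ * ((x : G) * c) * ((t : G) * r₀)⁻¹
          = (t : G) * (r₀ * x) * c * r₀⁻¹ * (t : G)⁻¹ := by group
        _ = (t : G) * x * ((r₀ * c * r₀⁻¹) * (t : G)⁻¹) := by rw [← hcx x x.2 r₀ hr']; group
        _ = _ := by rw [← hcx _ (L.inv_mem t.2) _ (mul_mem (mul_mem hr' hc) (inv_mem hr'))]; group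
    have hinj : Set.InjOn (fun p : ↥L × Bool => (p.1 : G) * (if p.2 then c' else c)) (IL ×ˢ Set.univ) := by
      rintro ⟨v, b⟩ - ⟨v', b'⟩ - e
      have hcc' : ∀ b : Bool, (if b then c' else c) ∈ C := fun b => by
        split_ifs
        exacts [mul_mem (mul_mem hr.2 hc) (inv_mem hr.2), hc]
      obtain ⟨e1, e2⟩ := hmulinj v.2 v'.2 (hcc' b) (hcc' b') e
      cases b <;> cases b' <;>
        first | exact Prod.ext (Subtype.ext e1) rfl | exact absurd e2 hcc | exact absurd e2.symm hcc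
    have h1 := (Set.ncard_le_ncard hsub (Set.toFinite _)).trans
      (Set.ncard_le_ncard (hclassM w hw) (Set.toFinite _))
    rw [Set.ncard_image_of_injOn hinj, Set.ncard_prod, Set.ncard_univ, Nat.card_eq_fintype_card, Fintype.card_bool,
      Set.ncard_image_of_injective _ Subtype.val_injective] at h1
    have h2 := sz_class hszL S hx hx2
    have h3 := s.class_two_le hL S
    rw [s.card_trace hL S hS hS2] at h2 h3
    change 2 * IL.ncard = _ at h2
    by_cases hw2 : w * w = 1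
    · have : ((fun t => t * w * t⁻¹) '' ((R : Subgroup ↥M) : Set ↥M)).ncard ≤ 1 := by
        refine (Set.ncard_le_ncard (t := {w}) ?_ (Set.toFinite _)).trans (Set.ncard_singleton w).le
        rintro _ ⟨t, ht, rfl⟩
        exact mul_inv_eq_iff_eq_mul.2 (sz_omega_central hszM R hw hw2 ht)
      omega
    · have h4 := sz_class hszM R hw hw2
      rw [s.card_trace hM R hR hR2] at h4
      omega
  -- the two subgroups
  set H₁ : Subgroup G := (A ⊓ L) ⊔ (D ⊓ C)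
  set H₂ : Subgroup G := (L ⊓ centralizer (A : Set G)) ⊔ (D ⊓ C ⊓ centralizer ((D ⊓ C : Subgroup G) : Set G))
  set TM := M ⊓ centralizer (A : Set G)
  have hTM : (TM : Set G) ⊆ (H₁ : Set G) ∪ H₂ := by
    rintro w ⟨hwM, hwA⟩
    obtain ⟨t, htL, htA, htc, htD⟩ := s.core_decomp hL (s.sylow_le_core hM hwM hwA)
    have e : w = t * (t⁻¹ * w) := by group
    by_cases ht2 : (⟨t, htL⟩ : ↥L) * ⟨t, htL⟩ = 1
    · refine Or.inl ?_
      rw [SetLike.mem_coe, e]
      exact mul_mem (mem_sup_left ⟨(hS2 _ ((hS _).2 htA)).1 ht2, htL⟩) (mem_sup_right ⟨htD, htc⟩)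
    · refine Or.inr ?_
      rw [SetLike.mem_coe, e]
      refine mul_mem (mem_sup_left ⟨htL, htA⟩) (mem_sup_right ⟨⟨htD, htc⟩, mem_centralizer_iff.2 fun r hr => ?_⟩)
      exact hpure ⟨w, hwM⟩ ((hR _).2 hwA) ⟨t, htL⟩ ((hS _).2 htA) htc ht2 r hr
  have hone : TM ≤ H₁ ∨ TM ≤ H₂ := by
    by_contra hcon
    push Not at hcon
    obtain ⟨⟨p, hp, hp'⟩, q, hq, hq'⟩ := And.intro (SetLike.not_le_iff_exists.1 hcon.1)
      (SetLike.not_le_iff_exists.1 hcon.2)
    have hp2 : p ∈ H₂ := (hTM hp).resolve_left hp'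
    have hq1 : q ∈ H₁ := (hTM hq).resolve_right hq'
    rcases hTM (TM.mul_mem hp hq) with h | h
    · exact hp' ((H₁.mul_mem_cancel_right hq1).1 h)
    · exact hq' ((H₂.mul_mem_cancel_left hp2).1 h)
  have hAcom : ∀ {x y : G}, x ∈ A ⊓ L → y ∈ L → y ∈ centralizer (A : Set G) → y * x = x * y :=
    fun hx _ hy => (mem_centralizer_iff.1 hy _ hx.1).symm
  rcases hone with h1 | h2
  · refine Or.inr ?_
    have hn : D ⊓ C ≤ normalizer ((A ⊓ L : Subgroup G) : Set G) := fun r hr =>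
      Subgroup.centralizer_le_normalizer _ (mem_centralizer_iff.2 fun x hx => mem_centralizer_iff.1 hr.2 x hx.2)
    have hH₁ : ∀ w ∈ H₁, ∃ x ∈ A ⊓ L, ∃ r ∈ D ⊓ C, x * r = w := fun w hw => by
      have h' : w ∈ ((A ⊓ L) ⊔ (D ⊓ C) : Subgroup G) := hw
      rw [← SetLike.mem_coe, Subgroup.coe_mul_of_right_le_normalizer_left _ _ hn] at h'
      exact h'
    refine ⟨s.trace_le hM fun t₁ h₁ h₁' t₂ h₂ h₂' => ?_, ?_⟩
    · obtain ⟨x₁, hx₁, r₁, hr₁, rfl⟩ := hH₁ _ (h1 ⟨h₁, h₁'⟩)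
      obtain ⟨x₂, hx₂, r₂, hr₂, rfl⟩ := hH₁ _ (h1 ⟨h₂, h₂'⟩)
      have c1 : ∀ {x r : G}, x ∈ A ⊓ L → r ∈ D ⊓ C → Commute x r := fun hx hr =>
        mem_centralizer_iff.1 hr.2 _ hx.2
      have e : ⁅x₁ * r₁, x₂ * r₂⁆ = ⁅r₁, r₂⁆ := by
        rw [commutatorElement_def, commutatorElement_def]
        have cx : Commute x₁ x₂ := comm_of_elem s.min.elem hx₁.1 hx₂.1
        calc x₁ * r₁ * (x₂ * r₂) * (x₁ * r₁)⁻¹ * (x₂ * r₂)⁻¹
            = x₁ * (r₁ * x₂) * r₂ * r₁⁻¹ * (x₁⁻¹ * r₂⁻¹) * x₂⁻¹ := by group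
          _ = x₁ * x₂ * ((r₁ * r₂ * r₁⁻¹ * r₂⁻¹) * (x₁⁻¹ * x₂⁻¹)) := by
              rw [(c1 hx₂ hr₁).symm.eq, ((c1 hx₁ hr₂).inv_inv).eq]; group
          _ = x₁ * x₂ * ((x₁⁻¹ * x₂⁻¹) * (r₁ * r₂ * r₁⁻¹ * r₂⁻¹)) := by
              rw [(c1 (mul_mem ((A ⊓ L).inv_mem hx₁) ((A ⊓ L).inv_mem hx₂))
                ((D ⊓ C).mul_mem ((D ⊓ C).mul_mem ((D ⊓ C).mul_mem hr₁ hr₂) ((D ⊓ C).inv_mem hr₁))
                  ((D ⊓ C).inv_mem hr₂))).eq]
          _ = _ := by rw [← mul_assoc, cx.eq]; group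
      rw [e, commutatorElement_def]
      exact mul_mem (mul_mem (mul_mem hr₁.2 hr₂.2) (inv_mem hr₁.2)) (inv_mem hr₂.2)
    · refine s.trace_le hL fun t₁ h₁ h₁' t₂ h₂ h₂' => ?_
      -- `C_L(A)` centralises `C_M(A)`
      have hcomm : ∀ t ∈ L, t ∈ centralizer (A : Set G) → ∀ w ∈ TM, t * w = w * t := by
        intro t ht ht' w hw
        obtain ⟨x, hx, r, hr, rfl⟩ := hH₁ _ (h1 hw)
        rw [← mul_assoc, hAcom hx ht ht', mul_assoc, mem_centralizer_iff.1 hr.2 t ht, ← mul_assoc]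
      have key : ∀ t ∈ L, t ∈ centralizer (A : Set G) →
          ∃ x ∈ A ⊓ M, ∃ r ∈ centralizer (M : Set G), x * r = t := by
        intro t ht ht'
        obtain ⟨v, hvM, hvA, hvc, -⟩ := s.core_decomp hM (s.sylow_le_core hL ht ht')
        refine ⟨v, ⟨?_, hvM⟩, v⁻¹ * t, hvc, by group⟩
        refine (hR2 ⟨v, hvM⟩ ((hR _).2 hvA)).1 ?_
        by_contra hv2
        have h2 := sz_class hszM R ((hR ⟨v, hvM⟩).2 hvA) hv2
        have h3 := s.class_two_le hM R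
        have h4 : ((fun g => g * (⟨v, hvM⟩ : ↥M) * g⁻¹) '' ((R : Subgroup ↥M) : Set ↥M)).ncard ≤ 1 := by
          refine (Set.ncard_le_ncard (t := {⟨v, hvM⟩}) ?_ (Set.toFinite _)).trans (Set.ncard_singleton _).le
          rintro _ ⟨g, hg, rfl⟩
          refine Subtype.ext ?_
          show (g : G) * v * (g : G)⁻¹ = v
          have e1 : t * g = g * t := hcomm t ht ht' g ⟨g.2, (hR g).1 hg⟩
          have e2 : (g : G) * (v⁻¹ * t) = v⁻¹ * t * g := mem_centralizer_iff.1 hvc g g.2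
          rw [mul_inv_eq_iff_eq_mul]
          have e3 : t * (g : G) = v * ((g : G) * (v⁻¹ * t)) := by rw [e2]; group
          rw [e1] at e3
          calc (g : G) * v = (g : G) * t * ((v⁻¹ * t)⁻¹) := by group
            _ = v * g * ((v⁻¹ * t) * (v⁻¹ * t)⁻¹) := by rw [e3]; group
            _ = _ := by rw [mul_inv_cancel, mul_one]
        rw [s.card_trace hM R hR hR2] at h2 h3
        omega
      obtain ⟨x₁, hx₁, r₁, hr₁, rfl⟩ := key t₁ h₁ h₁'
      obtain ⟨x₂, hx₂, r₂, hr₂, rfl⟩ := key t₂ h₂ h₂'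
      have c1 : ∀ {x r : G}, x ∈ A ⊓ M → r ∈ centralizer (M : Set G) → Commute x r := fun hx hr =>
        mem_centralizer_iff.1 hr _ hx.2
      have e : ⁅x₁ * r₁, x₂ * r₂⁆ = ⁅r₁, r₂⁆ := by
        rw [commutatorElement_def, commutatorElement_def]
        have cx : Commute x₁ x₂ := comm_of_elem s.min.elem hx₁.1 hx₂.1
        calc x₁ * r₁ * (x₂ * r₂) * (x₁ * r₁)⁻¹ * (x₂ * r₂)⁻¹
            = x₁ * (r₁ * x₂) * r₂ * r₁⁻¹ * (x₁⁻¹ * r₂⁻¹) * x₂⁻¹ := by group
          _ = x₁ * x₂ * ((r₁ * r₂ * r₁⁻¹ * r₂⁻¹) * (x₁⁻¹ * x₂⁻¹)) := by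
              rw [(c1 hx₂ hr₁).symm.eq, ((c1 hx₁ hr₂).inv_inv).eq]; group
          _ = x₁ * x₂ * ((x₁⁻¹ * x₂⁻¹) * (r₁ * r₂ * r₁⁻¹ * r₂⁻¹)) := by
              rw [(c1 (mul_mem ((A ⊓ M).inv_mem hx₁) ((A ⊓ M).inv_mem hx₂))
                (mul_mem (mul_mem (mul_mem hr₁ hr₂) (inv_mem hr₁)) (inv_mem hr₂))).eq]
          _ = _ := by rw [← mul_assoc, cx.eq]; group
      rw [e, commutatorElement_def]
      exact mul_mem (mul_mem (mul_mem hr₁ hr₂) (inv_mem hr₁)) (inv_mem hr₂)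
  · refine Or.inl ?_
    have hn : D ⊓ C ⊓ centralizer ((D ⊓ C : Subgroup G) : Set G) ≤
        normalizer ((L ⊓ centralizer (A : Set G) : Subgroup G) : Set G) := fun r hr =>
      Subgroup.centralizer_le_normalizer _ (mem_centralizer_iff.2 fun x hx => mem_centralizer_iff.1 hr.1.2 x hx.1)
    have hH₂ : ∀ w ∈ H₂, ∃ x ∈ L ⊓ centralizer (A : Set G),
        ∃ r ∈ D ⊓ C ⊓ centralizer ((D ⊓ C : Subgroup G) : Set G), x * r = w := fun w hw => by
      have h' : w ∈ ((L ⊓ centralizer (A : Set G)) ⊔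
        (D ⊓ C ⊓ centralizer ((D ⊓ C : Subgroup G) : Set G)) : Subgroup G) := hw
      rw [← SetLike.mem_coe, Subgroup.coe_mul_of_right_le_normalizer_left _ _ hn] at h'
      exact h'
    have hle' : A ⊓ M ≤ A ⊓ L := by
      refine le_inf inf_le_left (s.trace_le hM fun t₁ h₁ h₁' t₂ h₂ h₂' => ?_)
      obtain ⟨x₁, hx₁, r₁, hr₁, rfl⟩ := hH₂ _ (h2 ⟨h₁, h₁'⟩)
      obtain ⟨x₂, hx₂, r₂, hr₂, rfl⟩ := hH₂ _ (h2 ⟨h₂, h₂'⟩)
      have c1 : ∀ {x r : G}, x ∈ L → r ∈ C → Commute x r := fun hx hr => mem_centralizer_iff.1 hr _ hx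
      have cr : r₁ * r₂ * r₁⁻¹ * r₂⁻¹ = 1 := by
        rw [mul_inv_eq_one, mul_inv_eq_iff_eq_mul]
        exact mem_centralizer_iff.1 hr₂.2 r₁ hr₁.1
      have e : ⁅x₁ * r₁, x₂ * r₂⁆ = ⁅x₁, x₂⁆ := by
        rw [commutatorElement_def, commutatorElement_def]
        calc x₁ * r₁ * (x₂ * r₂) * (x₁ * r₁)⁻¹ * (x₂ * r₂)⁻¹
            = x₁ * (r₁ * x₂) * r₂ * r₁⁻¹ * (x₁⁻¹ * r₂⁻¹) * x₂⁻¹ := by group
          _ = x₁ * x₂ * ((r₁ * r₂ * r₁⁻¹ * r₂⁻¹) * (x₁⁻¹ * x₂⁻¹)) := by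
              rw [(c1 hx₂.1 hr₁.1.2).symm.eq, ((c1 hx₁.1 hr₂.1.2).inv_inv).eq]; group
          _ = _ := by rw [cr]; group
      rw [e, commutatorElement_def]
      exact mul_mem (mul_mem (mul_mem hx₁.1 hx₂.1) (inv_mem hx₁.1)) (inv_mem hx₂.1)
    obtain ⟨w, hw, hw2⟩ := sz_exists_sq_ne hszM R
    obtain ⟨x, hx, r, hr, hxr⟩ := hH₂ (w : G) (h2 ⟨w.2, (hR w).1 hw⟩)
    have hclass : ((fun t => t * w * t⁻¹) '' ((R : Subgroup ↥M) : Set ↥M)).ncard ≤
        ((fun t => t * (⟨x, hx.1⟩ : ↥L) * t⁻¹) '' ((S : Subgroup ↥L) : Set ↥L)).ncard := by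
      rw [← Set.ncard_image_of_injective _ (Subtype.val_injective (p := (· ∈ M)))]
      refine (Set.ncard_le_ncard (t := (fun v : ↥L => (v : G) * r) ''
        ((fun t => t * (⟨x, hx.1⟩ : ↥L) * t⁻¹) '' ((S : Subgroup ↥L) : Set ↥L))) ?_ (Set.toFinite _)).trans
        Set.ncard_image_le
      rintro _ ⟨_, ⟨g, hg, rfl⟩, rfl⟩
      obtain ⟨t, htL, htA, htc, htD⟩ := s.core_decomp hL (s.sylow_le_core hM g.2 ((hR g).1 hg))
      refine ⟨_, ⟨⟨t, htL⟩, (hS _).2 htA, rfl⟩, ?_⟩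
      set d := t⁻¹ * (g : G) with hd
      have hdx : x * d = d * x := mem_centralizer_iff.1 htc x hx.1
      have hdr : d * r = r * d := mem_centralizer_iff.1 hr.2 d ⟨htD, htc⟩
      have hrt : t⁻¹ * r = r * t⁻¹ := mem_centralizer_iff.1 hr.1.2 _ (inv_mem htL)
      show t * x * t⁻¹ * r = (g : G) * (w : G) * (g : G)⁻¹
      rw [show (g : G) = t * d by rw [hd]; group, ← hxr]
      calc t * x * t⁻¹ * r = t * x * (r * t⁻¹) := by rw [← hrt]; group
        _ = t * (x * (d * r)) * d⁻¹ * t⁻¹ := by rw [hdr]; group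
        _ = _ := by rw [← mul_assoc x d r, hdx]; group
    have h3 := sz_class hszM R hw hw2
    have h5 := s.class_two_le hM R
    rw [s.card_trace hM R hR hR2] at h3 h5
    by_cases hx2 : (⟨x, hx.1⟩ : ↥L) * ⟨x, hx.1⟩ = 1
    · exfalso
      have : ((fun t => t * (⟨x, hx.1⟩ : ↥L) * t⁻¹) '' ((S : Subgroup ↥L) : Set ↥L)).ncard ≤ 1 := by
        refine (Set.ncard_le_ncard (t := {⟨x, hx.1⟩}) ?_ (Set.toFinite _)).trans (Set.ncard_singleton _).le
        rintro _ ⟨t, ht, rfl⟩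
        exact mul_inv_eq_iff_eq_mul.2 (sz_omega_central hszL S ((hS _).2 hx.2) hx2 ht)
      omega
    · refine le_antisymm hle' (le_of_eq ?_)
      symm
      refine Subgroup.eq_of_le_of_card_ge hle' ?_
      -- the class of `w` is that of `x`
      have h4 := sz_class hszL S ((hS ⟨x, hx.1⟩).2 hx.2) hx2
      rw [s.card_trace hL S hS hS2] at h4
      have hclass' : ((fun t => t * (⟨x, hx.1⟩ : ↥L) * t⁻¹) '' ((S : Subgroup ↥L) : Set ↥L)).ncard ≤
          ((fun t => t * w * t⁻¹) '' ((R : Subgroup ↥M) : Set ↥M)).ncard := by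
        rw [← Set.ncard_image_of_injective _ (Subtype.val_injective (p := (· ∈ M))),
          ← Set.ncard_image_of_injective _
            (show Function.Injective (fun v : ↥L => (v : G) * r) from fun v v' e =>
              Subtype.ext (mul_right_cancel e))]
        refine Set.ncard_le_ncard ?_ (Set.toFinite _)
        rintro _ ⟨_, ⟨t, ht, rfl⟩, rfl⟩
        refine (hclassM w hw ⟨(t : G), s.sylow_le_core hL t.2 ((hS t).1 ht), ?_⟩)
        show (t : G) * (w : G) * (t : G)⁻¹ = (t : G) * x * (t : G)⁻¹ * r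
        rw [← hxr, show (t : G) * (x * r) * (t : G)⁻¹ = (t : G) * x * (r * (t : G)⁻¹) by group,
          ← mem_centralizer_iff.1 hr.1.2 _ (L.inv_mem t.2)]
        group
      omega

end Cfsg.Agent.Invol.ThreeFree
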