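import Cfsg.Agent.Lib.Invol.ThreeFree.RankTwo
import Cfsg.Agent.Lib.Invol.ThreeFree.SzFrame
import Cfsg.Agent.Lib.Grp.BalanceReduction
import Cfsg.Agent.Lib.Grp.CocyclicGeneration
import Cfsg.Agent.Lib.Invol.GW.Klein.Invert
import Cfsg.Agent.Lib.Grp.Components

/-!
# Small commutator groups in an irreducible group of order prime to three

In such a group, with Suzuki components, there is no four-group moving the module into a subgroup of
order at most four.
-/

set_option autoImplicit false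
set_option linter.style.haveILetI false

open Subgroup

namespace Cfsg.Agent.Invol.ThreeFree

universe u v

/-- Powers of an inverted element are inverted. -/
theorem exists_inverted_prime_power {X : Type u} [Group X] {t x : X} {p : ℕ} (hp : p.Prime)
    (hdvd : p ∣ orderOf x) (hpos : 0 < orderOf x) (hinv : t * x * t⁻¹ = x⁻¹) :
    ∃ y : X, orderOf y = p ∧ t * y * t⁻¹ = y⁻¹ ∧ y ∈ zpowers x := by
  refine ⟨x ^ (orderOf x / p), ?_, ?_, pow_mem (mem_zpowers x) _⟩
  · exact orderOf_pow_orderOf_div hpos.ne' hdvd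
  · rw [← conj_pow, hinv, inv_pow]

variable {X : Type u} {A : Type v} [Group X] [Finite X] [CommGroup A] [Finite A]
  [MulDistribMulAction X A] [FaithfulSMul X A]

theorem exists_moved {y : X} (hy : y ≠ 1) : ∃ a : A, y • a ≠ a := by
  by_contra h
  push Not at h
  exact hy (FaithfulSMul.eq_of_smul_eq_smul fun a : A => by rw [h a, one_smul])

variable (h3 : ¬ 3 ∣ Nat.card X) (hA : ∀ a : A, a * a = 1) (Z : Subgroup A) (hZ : Nat.card Z ≤ 4)
include h3 hA hZ

theorem no_large_inverted {t y : X} {p : ℕ} (hp : p.Prime) (h7 : 7 ≤ p) (hy : orderOf y = p)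
    (ht : t * t = 1) (hty : t * y * t⁻¹ = y⁻¹) (htZ : ∀ a : A, t • a * a ∈ Z) : False := by
  haveI := Fact.mk hp
  have hy1 : y ≠ 1 := fun e => by rw [e, orderOf_one] at hy; omega
  have h5 := (inverted_fix hA (p := p) (by omega) (by omega) hy ht hty Z hZ htZ (exists_moved hy1)).1
  omega

theorem no_pair {s t y : X} {p : ℕ} (hp : p.Prime) (hp2 : p ≠ 2) (hy : orderOf y = p) (hs : s ≠ 1)
    (ht : t * t = 1) (hty : t * y * t⁻¹ = y⁻¹) (htZ : ∀ a : A, t • a * a ∈ Z) (hsy : s * y = y * s)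
    (hsZ : ∀ a : A, s • a * a ∈ Z) : False := by
  haveI := Fact.mk hp
  have hy1 : y ≠ 1 := fun e => by rw [e, orderOf_one] at hy; exact hp.ne_one hy.symm
  have hp3 : p ≠ 3 := by
    rintro rfl
    exact h3 (hy ▸ orderOf_dvd_natCard y)
  exact hs (FaithfulSMul.eq_of_smul_eq_smul fun a : A => by
    rw [eq_of_commute hA (p := p) hp2 hp3 hy ht hty Z hZ htZ (exists_moved hy1) hsy hsZ a, one_smul])

/-- An involution moving everything into `Z` centralises the odd subgroup it normalises, as far as that is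
centralised by another one. -/
theorem centralizes_odd {s t : X} {P : Subgroup X} (hP : Odd (Nat.card P)) (hs : s ≠ 1) (ht : t * t = 1)
    (hst : Commute s t) (hsn : s ∈ normalizer (P : Set X)) (htn : t ∈ normalizer (P : Set X))
    (htZ : ∀ a : A, t • a * a ∈ Z) (hsZ : ∀ a : A, s • a * a ∈ Z) {k : X} (hk : k ∈ P) (hks : Commute s k) :
    Commute k t := by
  obtain ⟨a, haP, e, -, hinv, het, rfl, had⟩ := GW.Klein.exists_inverted_mul hP ht htn hk
  by_cases ha : a = 1
  · subst ha; rw [one_mul]; exact het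
  exfalso
  have has : Commute s a := by
    obtain ⟨i, hi⟩ := mem_zpowers_iff.1 had
    rw [← hi]
    exact ((((hks.mul_right hst).mul_right hks.inv_right).mul_right hst)).zpow_right i
  obtain ⟨p, hp, hdvd⟩ := Nat.exists_prime_and_dvd (fun e => ha (orderOf_eq_one_iff.1 e))
  have hp2 : p ≠ 2 := by
    rintro rfl
    exact absurd (hdvd.trans (P.orderOf_dvd_natCard haP)) (Nat.two_dvd_ne_zero.2 (Nat.odd_iff.1 hP))
  obtain ⟨y, hy, hty, hyz⟩ := exists_inverted_prime_power hp hdvd (orderOf_pos a) hinv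
  obtain ⟨i, rfl⟩ := mem_zpowers_iff.1 hyz
  exact no_pair h3 hA Z hZ hp hp2 hy hs ht hty htZ (has.zpow_right i) hsZ

/-- An involution moving everything into `Z` centralises every component. -/
theorem centralizes_component {t : X} (ht : t * t = 1) (htZ : ∀ a : A, t • a * a ∈ Z) {K : Subgroup X}
    (hK : Cfsg.IsComponent K) (hsz : Cfsg.Lie.IsoSuzuki (↥K ⧸ center ↥K)) : ∀ b ∈ K, t * b = b * t := by
  have hti : t⁻¹ = t := inv_eq_of_mul_eq_one_right ht
  have hinvx : ∀ k : X, t * (k⁻¹ * (t * k * t⁻¹)) * t⁻¹ = (k⁻¹ * (t * k * t⁻¹))⁻¹ := by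
    intro k
    rw [hti, mul_inv_rev, inv_inv, mul_inv_rev, mul_inv_rev, hti]
    calc t * (k⁻¹ * (t * k * t)) * t = t * (k⁻¹ * (t * (k * (t * t)))) := by group
      _ = t * (k⁻¹ * (t * k)) := by rw [ht, mul_one]
      _ = _ := by group
  have finish : ∀ (p : ℕ), p.Prime → 7 ≤ p → ∀ k : X, p ∣ orderOf (k⁻¹ * (t * k * t⁻¹)) → False := by
    intro p hp h7 k hd
    obtain ⟨y, hy, hty, -⟩ := exists_inverted_prime_power hp hd (orderOf_pos _) (hinvx k)
    exact no_large_inverted h3 hA Z hZ hp h7 hy ht hty htZ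
  by_cases htK : t ∈ normalizer (K : Set X)
  · set φ : MulAut ↥K := K.normalizerMonoidHom ⟨t, htK⟩ with hφ
    have hφv : ∀ b : ↥K, ((φ b : ↥K) : X) = t * b * t⁻¹ := fun b => rfl
    have hcen : (center ↥K).map φ.toMonoidHom = center ↥K :=
      (Subgroup.characteristic_iff_map_eq.1 inferInstance) φ
    set ψ : MulAut (↥K ⧸ center ↥K) := QuotientGroup.congr _ _ φ hcen with hψ
    have hψv : ∀ b : ↥K, ψ (b : ↥K ⧸ center ↥K) = ((φ b : ↥K) : ↥K ⧸ center ↥K) := fun b => rfl
    have hψ2 : ψ ^ (2 ^ 1) = 1 := by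
      refine MulEquiv.ext fun q => ?_
      induction q using QuotientGroup.induction_on with
      | H b =>
        rw [pow_one, pow_two, MulAut.mul_apply, hψv, hψv, MulAut.one_apply]
        congr 1
        refine Subtype.ext ?_
        rw [hφv, hφv, show t * (t * (b : X) * t⁻¹) * t⁻¹ = t * t * b * (t * t)⁻¹ by group, ht]
        group
    obtain ⟨c, hc⟩ := sz_inner hsz ψ hψ2
    by_cases hc1 : c = 1
    · refine (Grp.mulAut_ker_iff_centralizes hK htK).2 fun b => ?_
      rw [← QuotientGroup.eq_one_iff, QuotientGroup.mk_mul, QuotientGroup.mk_inv, ← hψv, hc, hc1, map_one,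
        MulAut.one_apply, mul_inv_cancel]
    have hc2 : c * c = 1 := by
      have hc' : MulAut.conj (c * c) = 1 := by
        rw [map_mul, ← hc, ← pow_two]; simpa using hψ2
      haveI : IsSimpleGroup (↥K ⧸ center ↥K) := hK.2.2
      rcases (inferInstance : (center (↥K ⧸ center ↥K)).Normal).eq_bot_or_eq_top with h | h
      · rw [← Subgroup.mem_bot, ← h, mem_center_iff]
        intro g
        have := DFunLike.congr_fun hc' g
        rw [MulAut.conj_apply, MulAut.one_apply, mul_inv_eq_iff_eq_mul] at this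
        exact this.symm
      · exfalso
        refine hc1 ?_
        obtain ⟨p, y, hp, h7, hy, -⟩ : ∃ (p : ℕ) (y : ↥K ⧸ center ↥K), p.Prime ∧ 7 ≤ p ∧ orderOf y = p ∧
            True := by
          obtain ⟨x, hx, hx2, hx1⟩ := sz_exists_omega hsz default
          obtain ⟨p, y, h1, h2, h3, -⟩ := sz_inverts hsz hx2 hx1
          exact ⟨p, y, h1, h2, h3, trivial⟩
        obtain ⟨x, hx, hx2, hx1⟩ := sz_exists_omega hsz default
        have := sz_centralizer hsz default hx hx1 (y := y) (mem_center_iff.1 (h ▸ mem_top x) y)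
        obtain ⟨k, hk⟩ := (Sylow.isPGroup' default) ⟨y, this⟩
        have h2k : p ∣ 2 ^ k := hy ▸ orderOf_dvd_of_pow_eq_one (by simpa using congrArg Subtype.val hk)
        have := (Nat.prime_dvd_prime_iff_eq hp Nat.prime_two).1 (hp.dvd_of_dvd_pow h2k)
        omega
    obtain ⟨p, yb, hp, h7, hy, hinv⟩ := sz_inverts hsz hc2 hc1
    induction yb using QuotientGroup.induction_on with
    | H k =>
      exfalso
      refine finish p hp h7 k ?_
      have himg : ((k⁻¹ * φ k : ↥K) : ↥K ⧸ center ↥K) = ((k : ↥K ⧸ center ↥K)⁻¹) ^ 2 := by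
        rw [QuotientGroup.mk_mul, QuotientGroup.mk_inv, ← hψv, hc, MulAut.conj_apply, hinv, pow_two]
      have h1 : orderOf ((k⁻¹ * φ k : ↥K) : ↥K ⧸ center ↥K) = p := by
        rw [himg, Nat.Coprime.orderOf_pow, orderOf_inv, hy]
        rw [orderOf_inv, hy]
        exact (Nat.coprime_primes hp Nat.prime_two).2 (by omega)
      rw [show (k : X)⁻¹ * (t * k * t⁻¹) = ((k⁻¹ * φ k : ↥K) : X) from rfl, Subgroup.orderOf_coe, ← h1]
      exact orderOf_map_dvd (QuotientGroup.mk' (center ↥K)) _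
  · exfalso
    obtain ⟨x, hx, hx2, hx1⟩ := sz_exists_omega hsz default
    obtain ⟨p, yb, hp, h7, hy, -⟩ := sz_inverts hsz hx2 hx1
    induction yb using QuotientGroup.induction_on with
    | H k =>
      set K' : Subgroup X := K.map (MulAut.conj t).toMonoidHom with hK'
      have hKc : Cfsg.IsComponent K' := Grp.IsComponent.conj hK t
      have hne : K ≠ K' := fun e => htK (by
        refine mem_normalizer_iff.2 fun b => ⟨fun hb => ?_, fun hb => ?_⟩
        · have : t * b * t⁻¹ ∈ K' := ⟨b, hb, rfl⟩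
          rwa [← e] at this
        · have : t * (t * b * t⁻¹) * t⁻¹ ∈ K' := ⟨_, hb, rfl⟩
          rwa [← e, show t * (t * b * t⁻¹) * t⁻¹ = t * t * b * (t * t)⁻¹ by group, ht, one_mul, inv_one,
            mul_one] at this)
      have hcomm := Grp.IsComponent.commute hK hKc hne
      have hk' : t * (k : X) * t⁻¹ ∈ K' := ⟨k, k.2, rfl⟩
      have hc : Commute (k : X) (t * k * t⁻¹) := (mem_centralizer_iff.1 (hcomm k.2) _ hk').symm
      refine finish p hp h7 k ?_
      set n := orderOf ((k : X)⁻¹ * (t * k * t⁻¹))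
      by_contra hpn
      have h1 : ((k : X)⁻¹ * (t * k * t⁻¹)) ^ n = 1 := pow_orderOf_eq_one _
      rw [hc.inv_left.mul_pow, inv_pow, inv_mul_eq_one] at h1
      have hz : k ^ n ∈ center ↥K := by
        refine mem_center_iff.2 fun b => Subtype.ext ?_
        have hkn : ((k : X) ^ n) ∈ K' := h1 ▸ pow_mem hk' n
        show (b : X) * (k : X) ^ n = (k : X) ^ n * b
        exact (mem_centralizer_iff.1 (hcomm b.2) _ hkn).symm
      rw [← QuotientGroup.eq_one_iff, QuotientGroup.mk_pow] at hz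
      exact hpn (hy ▸ orderOf_dvd_of_pow_eq_one hz)

/-- There is no four-group moving everything into `Z`. -/
theorem no_small_image (hK : ∀ K : Subgroup X, Cfsg.IsComponent K → Cfsg.Lie.IsoSuzuki (↥K ⧸ center ↥K))
    (hirr : ∀ H : Subgroup A, (∀ x : X, ∀ a ∈ H, x • a ∈ H) → H = ⊥ ∨ H = ⊤) (T : Subgroup X)
    (hT : ∀ t ∈ T, t * t = 1) (hTZ : ∀ t ∈ T, ∀ a : A, t • a * a ∈ Z) {s₀ t₀ : X} (hs₀ : s₀ ∈ T)
    (ht₀ : t₀ ∈ T) (hs₁ : s₀ ≠ 1) (ht₁ : t₀ ≠ 1) (hne : s₀ ≠ t₀) : False := by
  classical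
  haveI : Fact (Nat.Prime 2) := ⟨Nat.prime_two⟩
  haveI hTc : IsMulCommutative T := ⟨⟨fun a b => Subtype.ext (by
    have h1 := hT _ (mul_mem a.2 b.2)
    show (a : X) * b = b * a
    rw [← inv_eq_of_mul_eq_one_right h1, mul_inv_rev, inv_eq_of_mul_eq_one_right (hT _ a.2),
      inv_eq_of_mul_eq_one_right (hT _ b.2)])⟩⟩
  have hO : Cfsg.pCore 2 X = ⊥ := by
    haveI : (Cfsg.pCore 2 X).Normal := Grp.pCore_isNormal
    set Q := Cfsg.pCore 2 X
    let Fx : Subgroup A :=
      { carrier := {a | ∀ q ∈ Q, q • a = a}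
        one_mem' := fun q _ => smul_one q
        mul_mem' := fun {a b} ha hb q hq => by rw [smul_mul', ha q hq, hb q hq]
        inv_mem' := fun {a} ha q hq => by rw [smul_inv', ha q hq] }
    have hinv : ∀ x : X, ∀ a ∈ Fx, x • a ∈ Fx := fun x a ha q hq => by
      have hq' : x⁻¹ * q * x ∈ Q := by
        simpa using (inferInstance : Q.Normal).conj_mem q hq x⁻¹
      conv_rhs => rw [← ha _ hq', ← mul_smul, ← mul_assoc, ← mul_assoc, mul_inv_cancel, one_mul, mul_smul]
    rcases hirr Fx hinv with h | h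
    · exfalso
      obtain ⟨a, ha⟩ := exists_moved (A := A) ht₁
      have hmod := (Grp.pCore_isPGroup (p := 2) (G := X)).card_modEq_card_fixedPoints A
      have h2 : Nat.card (MulAction.fixedPoints Q A) = 1 := by
        rw [Nat.card_eq_one_iff_unique]
        refine ⟨⟨fun x y => Subtype.ext ?_⟩, ⟨⟨1, fun q => smul_one _⟩⟩⟩
        have : ∀ z : MulAction.fixedPoints Q A, (z : A) = 1 := fun z => by
          rw [← Subgroup.mem_bot, ← h]; exact fun q hq => z.2 ⟨q, hq⟩
        rw [this x, this y]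
      rw [h2] at hmod
      have hAp : IsPGroup 2 A := fun a => ⟨1, by rw [pow_one, pow_two, hA]⟩
      obtain ⟨n, hn⟩ := IsPGroup.iff_card.1 hAp
      rw [hn] at hmod
      rcases Nat.eq_zero_or_pos n with rfl | hn0
      · rw [pow_zero, Nat.card_eq_one_iff_unique] at hn
        exact ha (hn.1.elim _ _)
      · have := hmod.of_dvd (dvd_refl 2)
        rw [Nat.ModEq, Nat.pow_mod] at this
        simp [Nat.zero_pow hn0] at this
    · refine (eq_bot_iff_forall _).2 fun q hq => FaithfulSMul.eq_of_smul_eq_smul fun a : A => ?_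
      rw [one_smul]
      exact (show a ∈ Fx from h ▸ mem_top a) q hq
  -- the Fitting subgroup
  have hodd : ∀ p : ℕ, p.Prime → ∀ t ∈ T, ∀ k ∈ Cfsg.pCore p X, t * k = k * t := by
    intro p hp t ht k hk
    haveI := Fact.mk hp
    by_cases hp2 : p = 2
    · subst hp2
      rw [hO, mem_bot] at hk
      rw [hk, mul_one, one_mul]
    haveI : (Cfsg.pCore p X).Normal := Grp.pCore_isNormal
    set P := Cfsg.pCore p X
    have hPo : Odd (Nat.card P) := by
      obtain ⟨n, hn⟩ := IsPGroup.iff_card.1 (Grp.pCore_isPGroup (p := p) (G := X))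
      rw [hn]
      exact (hp.odd_of_ne_two hp2).pow
    have hn : ∀ x : X, x ∈ normalizer (P : Set X) := fun x => by
      rw [Subgroup.normalizer_eq_top]; exact mem_top x
    have hT2 : (Nat.card T).Coprime (Nat.card P) := by
      obtain ⟨n, hn⟩ := IsPGroup.iff_card.1 (fun t : T => ⟨1, Subtype.ext (by simpa [pow_two] using hT _ t.2)⟩ :
        IsPGroup 2 T)
      rw [hn]
      exact (Nat.coprime_two_left.2 hPo).pow_left n
    have hgen := Grp.Cocyclic.generation (A := T) (G := P) (fun x _ => hn x) hT2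
    have hle : (⨆ B ∈ Grp.Cocyclic.Cocyc T ⊥, P ⊓ centralizer (B : Set X)) ≤ centralizer {t} := by
      refine iSup₂_le fun B hB k ⟨hkP, hkB⟩ => ?_
      obtain ⟨-, hBT, a, ha, hBa⟩ := hB
      obtain ⟨s, hs, hs1⟩ : ∃ s ∈ B, s ≠ 1 := by
        by_contra h
        push Not at h
        have hB0 : B = ⊥ := (eq_bot_iff_forall _).2 h
        rw [hB0, bot_sup_eq] at hBa
        have hmem : ∀ w ∈ T, w = 1 ∨ w = a := by
          intro w hw
          rw [← hBa] at hw
          obtain ⟨i, rfl⟩ := mem_zpowers_iff.1 hw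
          have ha2 : a ^ (2 : ℤ) = 1 := by rw [zpow_two]; exact hT a ha
          rcases Int.even_or_odd i with ⟨j, rfl⟩ | ⟨j, rfl⟩
          · left; rw [← two_mul, zpow_mul, ha2, one_zpow]
          · right; rw [zpow_add_one, zpow_mul, ha2, one_zpow, one_mul]
        exact hne (((hmem _ hs₀).resolve_left hs₁).trans ((hmem _ ht₀).resolve_left ht₁).symm)
      refine mem_centralizer_singleton_iff.2 ?_
      exact (centralizes_odd h3 hA Z hZ hPo hs1 (hT t ht)
        (congrArg Subtype.val (hTc.is_comm.comm ⟨s, hBT hs⟩ ⟨t, ht⟩) : s * t = t * s) (hn s) (hn t)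
        (hTZ t ht) (hTZ s (hBT hs)) hkP (mem_centralizer_iff.1 hkB s hs)).eq
    rw [hgen] at hle
    exact (mem_centralizer_singleton_iff.1 (hle hk)).symm
  -- the conclusion
  have hc : t₀ ∈ centralizer (Cfsg.generalizedFittingSubgroup X : Set X) := by
    have hle : Cfsg.generalizedFittingSubgroup X ≤ centralizer {t₀} := by
      refine sup_le (sSup_le fun L hL => ?_) ?_
      · intro b hb
        rw [mem_centralizer_singleton_iff]
        exact (centralizes_component h3 hA Z hZ (hT _ ht₀) (hTZ _ ht₀) hL (hK L hL) b hb).symm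
      · rw [Grp.fittingSubgroup_eq_iSup_pCore]
        refine iSup_le fun p k hk => ?_
        rw [mem_centralizer_singleton_iff]
        exact (hodd p p.2 t₀ ht₀ k hk).symm
    exact mem_centralizer_iff.2 fun w hw => mem_centralizer_singleton_iff.1 (hle hw)
  have htF := Grp.centralizer_gfitting_le_fitting hc
  haveI hnil : Group.IsNilpotent ↥(Cfsg.fittingSubgroup X) := Grp.fittingSubgroup_isNilpotent
  haveI : (Cfsg.fittingSubgroup X).Normal := Grp.fittingSubgroup_isNormal
  obtain ⟨P, hP⟩ := (IsPGroup.of_card (p := 2) (n := 1) (by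
    rw [Nat.card_zpowers, pow_one]
    exact orderOf_eq_prime (Subtype.ext (by simpa [pow_two] using hT _ ht₀)) fun e =>
      ht₁ (congrArg Subtype.val e)) :
    IsPGroup 2 (zpowers (⟨t₀, htF⟩ : ↥(Cfsg.fittingSubgroup X)))).exists_le_sylow
  haveI : (P : Subgroup ↥(Cfsg.fittingSubgroup X)).Characteristic := P.characteristic_of_normal inferInstance
  have hle : (P : Subgroup ↥(Cfsg.fittingSubgroup X)).map (Cfsg.fittingSubgroup X).subtype ≤ Cfsg.pCore 2 X :=
    Grp.le_pCore inferInstance (P.isPGroup'.map _)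
  rw [hO] at hle
  exact ht₁ (mem_bot.1 (hle ⟨_, hP (mem_zpowers _), rfl⟩))

end Cfsg.Agent.Invol.ThreeFree
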