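import Cfsg.Agent.Lib.Invol.ThreeFree.Comps
import Cfsg.Agent.Lib.Invol.ThreeFree.Cover
import Cfsg.Agent.Lib.Invol.ThreeFree.SmallImage

/-!
# The components moved by the strongly closed subgroup are simple
-/

set_option autoImplicit false
set_option linter.style.haveILetI false

open Subgroup

namespace Cfsg.Agent.Invol.ThreeFree

universe u

variable {G : Type u} [Group G] [Finite G] [IsSimpleGroup G] {A : Subgroup G} (s : Setup A)
include s

/-- A component which is not centralised by the strongly closed subgroup has trivial centre. -/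
theorem Setup.center_eq_bot {a : G} (ha : a ∈ A) (ha1 : a ≠ 1) {L : Subgroup G}
    (hL : Cfsg.IsComponentOf L (centralizer ({a} : Set G))) (hact : ¬ A ≤ centralizer (L : Set G)) :
    center ↥L = ⊥ := by
  classical
  haveI : Fact (Nat.Prime 2) := ⟨Nat.prime_two⟩
  by_contra hne
  obtain ⟨hZ4, hcov⟩ := cover_sz (isQuasisimple_of_componentOf hL) (s.sz ha1 hL)
  obtain ⟨U, hU, u, hu, y₀, hy₀, huu, huy⟩ := hcov hne
  set X := centralizer ({a} : Set G) with hX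
  set L' : Subgroup ↥X := L.subgroupOf X
  have hloc := s.loc ha ha1
  set A' : Subgroup ↥X := A.subgroupOf X
  obtain ⟨P, hP⟩ := exists_sylow_ge hloc.elem
  let eL : ↥L' ≃* ↥L := subgroupOfEquivOfLe hL.1
  have hact' : ¬ A' ≤ centralizer (L' : Set ↥X) := fun hle => hact fun c hc =>
    mem_centralizer_iff.2 fun w hw => congrArg Subtype.val
      (mem_centralizer_iff.1 (hle (show (⟨c, s.le_centralizer ha hc⟩ : ↥X) ∈ A' from hc)) ⟨w, hL.1 hw⟩ hw)
  obtain ⟨S, hS⟩ := hloc.image_sylow (P := P) hL.2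
  have hsz := hloc.sz L' hL.2
  obtain ⟨Q, hQ⟩ := (P.isPGroup'.map X.subtype).exists_le_sylow
  have hAQ : A ≤ (Q : Subgroup G) := fun b hb => hQ ⟨⟨b, s.le_centralizer ha hb⟩, hP hb, rfl⟩
  have hPN : ∀ x : ↥X, x ∈ (P : Subgroup ↥X) → (x : G) ∈ normalizer (A : Set G) := fun x hx =>
    s.min.sylow_le_normalizer hAQ (hQ ⟨x, hx, rfl⟩)
  -- an element of `L` in the Sylow subgroup not centralising the trace of `A`
  obtain ⟨T₀, hT₀⟩ := (hU.map eL.symm.toMonoidHom).exists_le_sylow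
  obtain ⟨g, hg⟩ := MulAction.exists_smul_eq ↥L' T₀ (traceSylow P hL.2.1)
  have hmoveU : ∀ w ∈ U, g * eL.symm w * g⁻¹ ∈ (traceSylow P hL.2.1 : Subgroup ↥L') := fun w hw => by
    rw [← hg]; exact ⟨eL.symm w, hT₀ ⟨w, hw, rfl⟩, rfl⟩
  set u' : ↥L' := g * eL.symm u * g⁻¹ with hu'
  set y : ↥L' := g * eL.symm y₀ * g⁻¹ with hy
  have huy' : u' * y ≠ y * u' := fun e => huy (eL.symm.injective (by
    rw [map_mul, map_mul]
    have h1 : g * (eL.symm u * eL.symm y₀) * g⁻¹ = g * (eL.symm y₀ * eL.symm u) * g⁻¹ := by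
      calc g * (eL.symm u * eL.symm y₀) * g⁻¹ = u' * y := by rw [hu', hy]; group
        _ = y * u' := e
        _ = _ := by rw [hu', hy]; group
    exact mul_left_cancel (mul_right_cancel h1)))
  have hu'2 : u' * u' = 1 := by
    rw [hu', show g * eL.symm u * g⁻¹ * (g * eL.symm u * g⁻¹) = g * (eL.symm u * eL.symm u) * g⁻¹ by group,
      ← map_mul, huu, map_one, mul_one, mul_inv_cancel]
  have hyP : (y : ↥X) ∈ (P : Subgroup ↥X) := hmoveU y₀ hy₀
  obtain ⟨l₀, hl₀A, hl₀⟩ := hloc.cover hL.2 hact' P hP u' (hmoveU u hu) (hu'2 ▸ one_mem _)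
  have hyl₀ : y * l₀ ≠ l₀ * y := fun e => huy' (by
    have hz := mem_center_iff.1 hl₀ y
    have e2 : u' = l₀ * (u'⁻¹ * l₀)⁻¹ := by group
    rw [e2]
    have hzi : y * (u'⁻¹ * l₀)⁻¹ = (u'⁻¹ * l₀)⁻¹ * y := (show Commute y (u'⁻¹ * l₀) from hz).inv_right.eq
    calc l₀ * (u'⁻¹ * l₀)⁻¹ * y = l₀ * (y * (u'⁻¹ * l₀)⁻¹) := by rw [hzi]; group
      _ = y * l₀ * (u'⁻¹ * l₀)⁻¹ := by rw [e]; group
      _ = _ := by group)
  -- squares to one modulo the centre: lies in the product of the trace of `A` and the centre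
  have hcover : ∀ x : ↥L', (x : ↥X) ∈ (P : Subgroup ↥X) → x * x ∈ center ↥L' →
      ∃ l : ↥L', (l : ↥X) ∈ A' ∧ ∃ z ∈ center ↥L', x = l * z := fun x hx hx2 => by
    obtain ⟨l, hl, hlz⟩ := hloc.cover hL.2 hact' P hP x hx hx2
    exact ⟨l, hl, (x⁻¹ * l)⁻¹, inv_mem hlz, by group⟩
  set K0 : Subgroup ↥L' := centralizer {l : ↥L' | (l : ↥X) ∈ A'}
  have hK0 : ∀ x : ↥L', (x : ↥X) ∈ (P : Subgroup ↥X) → x * x ∈ center ↥L' → x ∈ K0 := fun x hx hx2 => by
    obtain ⟨l, hl, z, hz, rfl⟩ := hcover x hx hx2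
    refine mem_centralizer_iff.2 fun l' hl' => ?_
    have h1 : l' * l = l * l' := Subtype.ext (comm_of_elem hloc.elem hl' hl)
    rw [← mul_assoc, h1, mul_assoc, mem_center_iff.1 hz l', ← mul_assoc]
  have hyK0 : y ∉ K0 := fun hk => hyl₀ (mem_centralizer_iff.1 hk l₀ hl₀A).symm
  have hy2 : (y : ↥L' ⧸ center ↥L') * y ≠ 1 := fun e => hyK0 (hK0 y hyP (by
    rwa [← QuotientGroup.eq_one_iff, QuotientGroup.mk_mul]))
  -- nothing outside the preimage of the involutions centralises the trace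
  have hK0only : ∀ x : ↥L', (x : ↥X) ∈ (P : Subgroup ↥X) → x ∈ K0 → (x : ↥L' ⧸ center ↥L') * x = 1 := by
    intro x hxP hx
    by_contra hx2
    obtain ⟨γ, hγ, hq⟩ := sz_torus_quot hsz S ((hS x).2 hxP) ((hS y).2 hyP) hx2 hy2
    obtain ⟨γ, rfl⟩ := QuotientGroup.mk'_surjective (center ↥L') γ
    simp only [QuotientGroup.mk'_apply] at hγ hq
    set d := γ * x * γ⁻¹ * y⁻¹ with hd
    have hγP : ∀ w : ↥L', (w : ↥X) ∈ (P : Subgroup ↥X) → ((γ⁻¹ * w * γ : ↥L') : ↥X) ∈ (P : Subgroup ↥X) ∧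
        ((γ * w * γ⁻¹ : ↥L') : ↥X) ∈ (P : Subgroup ↥X) := fun w hw => by
      refine ⟨(hS _).1 ?_, (hS _).1 ?_⟩
      · rw [QuotientGroup.mk_mul, QuotientGroup.mk_mul, QuotientGroup.mk_inv]
        exact (mem_normalizer_iff''.1 hγ _).1 ((hS w).2 hw)
      · rw [QuotientGroup.mk_mul, QuotientGroup.mk_mul, QuotientGroup.mk_inv]
        exact (mem_normalizer_iff.1 hγ _).1 ((hS w).2 hw)
    have hdP : (d : ↥X) ∈ (P : Subgroup ↥X) := mul_mem (hγP x hxP).2 (inv_mem hyP)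
    have hdK : d ∈ K0 := hK0 d hdP (by
      rw [← QuotientGroup.eq_one_iff, QuotientGroup.mk_mul, hd]
      simpa only [QuotientGroup.mk_mul, QuotientGroup.mk_inv] using hq)
    have hγx : γ * x * γ⁻¹ ∈ K0 := by
      refine mem_centralizer_iff.2 fun l hl => ?_
      have hw : γ⁻¹ * l * γ ∈ K0 ∧ ∃ l' : ↥L', (l' : ↥X) ∈ A' ∧ ∃ z ∈ center ↥L', γ⁻¹ * l * γ = l' * z := by
        have hl2 : l * l = 1 := Subtype.ext (sq_of_elem hloc.elem hl)
        have h2 : γ⁻¹ * l * γ * (γ⁻¹ * l * γ) ∈ center ↥L' := by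
          rw [show γ⁻¹ * l * γ * (γ⁻¹ * l * γ) = γ⁻¹ * (l * l) * γ by group, hl2, mul_one, inv_mul_cancel]
          exact one_mem _
        exact ⟨hK0 _ (hγP l (hP hl)).1 h2, hcover _ (hγP l (hP hl)).1 h2⟩
      obtain ⟨-, l', hl', z, hz, he⟩ := hw
      have hxc : x * (γ⁻¹ * l * γ) = γ⁻¹ * l * γ * x := by
        rw [he, ← mul_assoc, ← mem_centralizer_iff.1 hx l' hl', mul_assoc, mem_center_iff.1 hz x, ← mul_assoc]
      calc l * (γ * x * γ⁻¹) = γ * (γ⁻¹ * l * γ * x) * γ⁻¹ := by group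
        _ = γ * x * γ⁻¹ * l := by rw [← hxc]; group
    refine hyK0 ?_
    rw [show y = d⁻¹ * (γ * x * γ⁻¹) by rw [hd]; group]
    exact mul_mem (inv_mem hdK) hγx
  -- the action
  haveI : IsMulCommutative A := s.min.elem.1
  open scoped IsMulCommutative in
  let N := normalizer (A : Set G)
  let Φ : ↥N →* MulAut ↥A := A.normalizerMonoidHom
  have hΦ : ∀ (n : ↥N) (b : ↥A), ((Φ n b : ↥A) : G) = n * b * (n : G)⁻¹ := fun n b => rfl
  let Zs : Subgroup ↥A := ((center ↥L).map L.subtype).subgroupOf A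
  have hZs : Nat.card Zs ≤ 4 := by
    refine le_trans ?_ hZ4
    refine le_trans ?_ (Nat.card_congr ((center ↥L).equivMapOfInjective L.subtype L.subtype_injective).toEquiv).symm.le
    exact Nat.card_le_card_of_injective (fun z => (⟨((z : ↥A) : G), z.2⟩ : ↥((center ↥L).map L.subtype)))
      fun z w e => Subtype.ext (Subtype.ext (congrArg (fun t : ↥((center ↥L).map L.subtype) => (t : G)) e))
  have hN3 : ¬ 3 ∣ Nat.card ↥Φ.range := fun hd => s.h3
    ((hd.trans (Subgroup.card_range_dvd Φ)).trans (Subgroup.card_subgroup_dvd_card N))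
  have hirr : ∀ H : Subgroup ↥A, (∀ x : ↥Φ.range, ∀ b ∈ H, x • b ∈ H) → H = ⊥ ∨ H = ⊤ := by
    intro H hH
    rcases s.min.min (H.map A.subtype) (Subgroup.map_subtype_le _) (fun n hn b hb => by
      obtain ⟨b, hb, rfl⟩ := hb
      exact ⟨(⟨Φ ⟨n, hn⟩, ⟨n, hn⟩, rfl⟩ : ↥Φ.range) • b, hH _ b hb, rfl⟩) with h | h
    · exact Or.inl ((Subgroup.map_eq_bot_iff_of_injective _ A.subtype_injective).1 h)
    · refine Or.inr (eq_top_iff.2 fun b _ => ?_)
      obtain ⟨c, hc, hcb⟩ : (b : G) ∈ H.map A.subtype := h.ge b.2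
      exact (A.subtype_injective hcb) ▸ hc
  have hcomp : ∀ K : Subgroup ↥Φ.range, Cfsg.IsComponent K → Cfsg.Lie.IsoSuzuki (↥K ⧸ center ↥K) := fun K hK =>
    component_sz s.sub (s.min.normalizer_ne_top s.hna) Φ.rangeRestrict Φ.rangeRestrict_surjective hK.2
  let T₁ : Subgroup ↥N := ((P : Subgroup ↥X).map X.subtype ⊓ L).subgroupOf N
  let T : Subgroup ↥Φ.range := T₁.map Φ.rangeRestrict
  have hTdata : ∀ x : ↥L', (x : ↥X) ∈ (P : Subgroup ↥X) → ∀ b : ↥A,
      ((x : ↥X) : G) * b * ((x : ↥X) : G)⁻¹ * b ∈ (center ↥L).map L.subtype ∧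
      (∀ n : ↥N, (n : G) = ((x : ↥X) : G) * ((x : ↥X) : G) → Φ n b = b) := by
    intro x hxP b
    obtain ⟨l, hl, hlL, hlc⟩ := hloc.split hL.2 hact' (b := ⟨(b : G), s.le_centralizer ha b.2⟩)
      (show ((⟨(b : G), s.le_centralizer ha b.2⟩ : ↥X)) ∈ A' from b.2)
    set c : ↥X := l⁻¹ * ⟨(b : G), s.le_centralizer ha b.2⟩ with hc
    have hcA : c ∈ A' := mul_mem (inv_mem hl) b.2
    have hl2 := sq_of_elem hloc.elem hl
    have hxc : ∀ w : ↥L', Commute (w : ↥X) c := fun w => mem_centralizer_iff.1 hlc _ w.2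
    have hb' : (⟨(b : G), s.le_centralizer ha b.2⟩ : ↥X) = l * c := by rw [hc]; group
    set lL : ↥L' := ⟨l, hlL⟩
    have hlS : (lL : ↥L' ⧸ center ↥L') * lL = 1 := by
      rw [← QuotientGroup.mk_mul, show lL * lL = 1 from Subtype.ext hl2, QuotientGroup.mk_one]
    constructor
    · have hxl : x * lL * x⁻¹ * lL ∈ center ↥L' := by
        rw [← QuotientGroup.eq_one_iff, QuotientGroup.mk_mul, QuotientGroup.mk_mul, QuotientGroup.mk_mul,
          QuotientGroup.mk_inv, sz_omega_central hsz S ((hS lL).2 (hP hl)) hlS ((hS x).2 hxP),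
          mul_inv_cancel_right, hlS]
      refine ⟨eL (x * lL * x⁻¹ * lL), ?_, ?_⟩
      · refine mem_center_iff.2 fun w => ?_
        obtain ⟨w, rfl⟩ := eL.surjective w
        rw [← map_mul, ← map_mul, mem_center_iff.1 hxl w]
      · have e : ((x * lL * x⁻¹ * lL : ↥L') : ↥X) = (x : ↥X) * (l * c) * (x : ↥X)⁻¹ * (l * c) := by
          have hcc : c * c = 1 := sq_of_elem hloc.elem hcA
          show (x : ↥X) * l * (x : ↥X)⁻¹ * l = _
          calc (x : ↥X) * l * (x : ↥X)⁻¹ * l = (x : ↥X) * l * (x : ↥X)⁻¹ * l * (c * c) := by rw [hcc, mul_one]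
            _ = (x : ↥X) * l * (x : ↥X)⁻¹ * (c * l) * c := by
              rw [show c * l = l * c from ((hxc lL).eq).symm]; group
            _ = (x : ↥X) * l * ((x : ↥X)⁻¹ * c) * l * c := by group
            _ = _ := by rw [((hxc x).inv_left).eq]; group
        have e2 := congrArg (fun t : ↥X => (t : G)) e
        simp only [← hb'] at e2
        exact e2
    · intro n hn
      have hsq : ((x * x : ↥L') : ↥L' ⧸ center ↥L') * ((x * x : ↥L') : ↥L' ⧸ center ↥L') = 1 := by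
        rw [QuotientGroup.mk_mul]; exact sz_pow_four hsz S ((hS x).2 hxP)
      have hx4 : x * x ∈ K0 := hK0 _ (mul_mem hxP hxP) (by
        rw [← QuotientGroup.eq_one_iff, QuotientGroup.mk_mul]; exact hsq)
      have h1 : (lL : ↥L') * (x * x) = x * x * lL := mem_centralizer_iff.1 hx4 lL hl
      have h2 : ((x : ↥X) * x) * (l * c) = (l * c) * ((x : ↥X) * x) := by
        have h1' : l * ((x : ↥X) * x) = (x : ↥X) * x * l := congrArg Subtype.val h1
        rw [← mul_assoc, ← h1', mul_assoc, ((hxc x).mul_left (hxc x)).eq, ← mul_assoc]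
      refine Subtype.ext ?_
      rw [hΦ, hn, mul_inv_eq_iff_eq_mul]
      have h3 := congrArg (fun t : ↥X => (t : G)) h2
      simp only [← hb'] at h3
      exact h3
  have hTmem : ∀ t ∈ T, ∃ x : ↥L', (x : ↥X) ∈ (P : Subgroup ↥X) ∧ ∃ n : ↥N, (n : G) = ((x : ↥X) : G) ∧
      (t : MulAut ↥A) = Φ n := by
    rintro _ ⟨n, ⟨⟨w, hw, hwn⟩, hnL⟩, rfl⟩
    exact ⟨⟨w, show (w : G) ∈ L by rw [show (w : G) = (n : G) from hwn]; exact hnL⟩, hw, n, hwn.symm, rfl⟩
  have hTZ : ∀ t ∈ T, ∀ b : ↥A, t • b * b ∈ Zs := by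
    intro t ht b
    obtain ⟨x, hxP, n, hn, htn⟩ := hTmem t ht
    show ((((t : MulAut ↥A) b) * b : ↥A) : G) ∈ (center ↥L).map L.subtype
    rw [htn, Subgroup.coe_mul, hΦ, hn]
    exact (hTdata x hxP b).1
  have hT : ∀ t ∈ T, t * t = 1 := by
    intro t ht
    obtain ⟨x, hxP, n, hn, htn⟩ := hTmem t ht
    refine Subtype.ext (MulEquiv.ext fun b => ?_)
    show ((t : MulAut ↥A) * (t : MulAut ↥A)) b = b
    rw [htn, ← map_mul]
    exact (hTdata x hxP b).2 (n * n) (by rw [Subgroup.coe_mul, hn])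
  -- two elements with distinct images
  have himg : ∀ x : ↥L', ∀ hx : (x : ↥X) ∈ (P : Subgroup ↥X), (x : ↥L' ⧸ center ↥L') * x ≠ 1 →
      Φ ⟨((x : ↥X) : G), hPN x hx⟩ ≠ 1 := by
    intro x hxP hx2 e
    refine hx2 (hK0only x hxP (mem_centralizer_iff.2 fun l hl => ?_))
    have h1 := congrArg Subtype.val (DFunLike.congr_fun e (⟨((l : ↥X) : G), hl⟩ : ↥A))
    rw [MulAut.one_apply, hΦ, mul_inv_eq_iff_eq_mul] at h1
    exact Subtype.ext (Subtype.ext h1.symm)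
  obtain ⟨q, hqS, hq2, hqy⟩ := sz_exists_quot hsz S ((hS y).2 hyP)
  obtain ⟨x, rfl⟩ := QuotientGroup.mk'_surjective (center ↥L') q
  simp only [QuotientGroup.mk'_apply] at hqS hq2 hqy
  have hxP : (x : ↥X) ∈ (P : Subgroup ↥X) := (hS x).1 hqS
  have hin : ∀ w : ↥L', ∀ hw : (w : ↥X) ∈ (P : Subgroup ↥X),
      Φ.rangeRestrict ⟨((w : ↥X) : G), hPN w hw⟩ ∈ T := fun w hw =>
    ⟨_, ⟨⟨w, hw, rfl⟩, (w.2 : ((w : ↥X) : G) ∈ L)⟩, rfl⟩
  open scoped IsMulCommutative in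
  refine no_small_image (A := ↥A) hN3 (fun b => Subtype.ext (sq_of_elem s.min.elem b.2)) Zs hZs hcomp hirr T hT
    hTZ (hin x hxP) (hin y hyP) (fun e => himg x hxP hq2 (congrArg Subtype.val e))
    (fun e => himg y hyP hy2 (congrArg Subtype.val e)) fun e => ?_
  refine himg (x * y⁻¹) (mul_mem hxP (inv_mem hyP)) (by rwa [QuotientGroup.mk_mul, QuotientGroup.mk_inv]) ?_
  have e' : Φ ⟨((x : ↥X) : G), hPN x hxP⟩ = Φ ⟨((y : ↥X) : G), hPN y hyP⟩ := congrArg Subtype.val e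
  calc Φ _ = Φ (⟨((x : ↥X) : G), hPN x hxP⟩ * (⟨((y : ↥X) : G), hPN y hyP⟩ : ↥N)⁻¹) := rfl
    _ = 1 := by rw [map_mul, map_inv, e', mul_inv_cancel]

end Cfsg.Agent.Invol.ThreeFree
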