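import Cfsg.Agent.Lib.Invol.ThreeFree.LocalShape
import Cfsg.Agent.Lib.Grp.LayerBalance

/-!
# The group is the product of its layer and the normaliser of the strongly closed subgroup
-/

set_option autoImplicit false
set_option linter.style.haveILetI false

open Subgroup

namespace Cfsg.Agent.Invol.ThreeFree

universe u

variable {X : Type u} [Group X] [Finite X] {A : Subgroup X} (h : Loc A)
include h

/-- Modulo the layer the strongly closed subgroup centralises the layer. -/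
theorem Loc.mod_layer (s : Finset (Subgroup X)) : (∀ L ∈ s, Cfsg.IsComponent L) → ∀ b ∈ A,
    ∃ l ∈ A, l ∈ Cfsg.layer X ∧ ∀ L ∈ s, l⁻¹ * b ∈ centralizer (L : Set X) := by
  classical
  induction s using Finset.induction with
  | empty => exact fun _ b hb => ⟨1, one_mem _, one_mem _, by simp⟩
  | insert K s hKs ih =>
    intro hall b hb
    obtain ⟨l, hl, hlE, hls⟩ := ih (fun L hL => hall L (Finset.mem_insert_of_mem hL)) b hb
    have hK := hall K (Finset.mem_insert_self K s)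
    by_cases hact : A ≤ centralizer (K : Set X)
    · refine ⟨l, hl, hlE, fun L hL => ?_⟩
      rcases Finset.mem_insert.1 hL with rfl | hL
      · exact hact (mul_mem (inv_mem hl) hb)
      · exact hls L hL
    obtain ⟨k, hk, hkK, hkc⟩ := h.split hK hact (mul_mem (inv_mem hl) hb)
    refine ⟨l * k, mul_mem hl hk, mul_mem hlE (Grp.IsComponent.le_layer hK hkK), fun L hL => ?_⟩
    rw [show (l * k)⁻¹ * b = k⁻¹ * (l⁻¹ * b) by group]
    rcases Finset.mem_insert.1 hL with rfl | hL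
    · exact hkc
    · refine mul_mem (inv_mem ?_) (hls L hL)
      exact Grp.IsComponent.commute hK (hall L (Finset.mem_insert_of_mem hL)) (fun e => hKs (e ▸ hL)) hkK

/-- The subgroup lies in the product of the layer and the 2-core. -/
theorem Loc.le_gfitting : A ≤ Cfsg.layer X ⊔ Cfsg.pCore 2 X := by
  classical
  haveI : Fact (Nat.Prime 2) := ⟨Nat.prime_two⟩
  obtain ⟨P, hP⟩ := exists_sylow_ge h.elem
  obtain ⟨comps, hS, hE⟩ := Grp.components_finset (G := X)
  set E := Cfsg.layer X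
  haveI hEn : E.Normal := ⟨fun x hx g => Grp.layer_map_le (MulAut.conj g) ⟨x, hx, rfl⟩⟩
  haveI hQn : (Cfsg.pCore 2 X).Normal := Grp.pCore_isNormal
  set Q := Cfsg.pCore 2 X
  have hQP : Q ≤ (P : Subgroup X) := Grp.pCore_le_sylow P
  have hF : Cfsg.fittingSubgroup X = Q := Grp.fitting_eq_pCore (p := 2) h.core
  have hA₂ : ∀ g : X, ∀ x ∈ A ⊓ Q, g * x * g⁻¹ ∈ A ⊓ Q := fun g x hx =>
    ⟨h.conj_mem hP hx.1 (hQP (hQn.conj_mem x hx.2 g)), hQn.conj_mem x hx.2 g⟩
  haveI hA₂n : (A ⊓ Q).Normal := ⟨fun x hx g => hA₂ g x hx⟩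
  haveI hCn : (centralizer (E : Set X)).Normal := Grp.centralizer_normal' E
  haveI hCAn : (centralizer ((A ⊓ Q : Subgroup X) : Set X)).Normal := Grp.centralizer_normal' _
  -- the stabiliser of `Q > A ∩ Q > 1` in the centraliser of the layer
  let K : Subgroup X :=
    { carrier := {x | x ∈ centralizer ((A ⊓ Q : Subgroup X) : Set X) ∧ ∀ q ∈ Q, x * q * x⁻¹ * q⁻¹ ∈ A ⊓ Q}
      one_mem' := ⟨one_mem _, fun q _ => by simpa using (A ⊓ Q).one_mem⟩
      mul_mem' := fun {x y} hx hy => ⟨mul_mem hx.1 hy.1, fun q hq => by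
          have h1 := hy.2 q hq
          have h2 := hx.2 q hq
          rw [show x * y * q * (x * y)⁻¹ * q⁻¹ = x * (y * q * y⁻¹ * q⁻¹) * x⁻¹ * (x * q * x⁻¹ * q⁻¹) by group]
          exact mul_mem (hA₂ x _ h1) h2⟩
      inv_mem' := fun {x} hx => ⟨inv_mem hx.1, fun q hq => by
          rw [show x⁻¹ * q * (x⁻¹)⁻¹ * q⁻¹ = x⁻¹ * (x * q * x⁻¹ * q⁻¹)⁻¹ * x⁻¹⁻¹ by group]
          exact hA₂ _ _ (inv_mem (hx.2 q hq))⟩ }
  haveI hKn : K.Normal := by
    refine ⟨fun x hx g => ⟨hCAn.conj_mem x hx.1 g, fun q hq => ?_⟩⟩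
    have h1 := hA₂ g _ (hx.2 _ (hQn.conj_mem q hq g⁻¹))
    rwa [show g * (x * (g⁻¹ * q * g⁻¹⁻¹) * x⁻¹ * (g⁻¹ * q * g⁻¹⁻¹)⁻¹) * g⁻¹ =
      g * x * g⁻¹ * q * (g * x * g⁻¹)⁻¹ * q⁻¹ by group] at h1
  set M : Subgroup X := centralizer (E : Set X) ⊓ K
  haveI hMn : M.Normal := Subgroup.normal_inf_normal _ _
  have hM2 : IsPGroup 2 M := by
    intro x
    obtain ⟨k, n, hn, e⟩ : ∃ k n, ¬ 2 ∣ n ∧ orderOf x = 2 ^ k * n :=
      Nat.exists_eq_pow_mul_and_not_dvd (orderOf_pos x).ne' 2 (by norm_num)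
    refine ⟨k, ?_⟩
    set y := (x : X) ^ (2 ^ k) with hy
    have hyn : y ^ n = 1 := by
      rw [hy, ← pow_mul, ← e]
      exact congrArg Subtype.val (pow_orderOf_eq_one x)
    obtain ⟨hyE, hyA, hyQ⟩ : y ∈ M := pow_mem x.2 _
    have hfix : ∀ q ∈ Q, y * q = q * y := by
      intro q hq
      set d := y * q * y⁻¹ * q⁻¹ with hd
      have hyd : Commute y d := (mem_centralizer_iff.1 hyA d (hyQ q hq)).symm
      have hpow : ∀ j : ℕ, y ^ j * q * (y ^ j)⁻¹ = d ^ j * q := by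
        intro j
        induction j with
        | zero => simp
        | succ j ih =>
          rw [pow_succ', show y * y ^ j * q * (y * y ^ j)⁻¹ = y * (y ^ j * q * (y ^ j)⁻¹) * y⁻¹ by group, ih,
            show y * (d ^ j * q) * y⁻¹ = (y * d ^ j * y⁻¹) * (d * q) by rw [hd]; group,
            (hyd.pow_right j).eq, mul_inv_cancel_right, ← mul_assoc, ← pow_succ]
      have h1 := hpow n
      rw [hyn, one_mul, inv_one, mul_one, right_eq_mul] at h1
      have hd2 : d * d = 1 := sq_of_elem h.elem (hyQ q hq).1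
      obtain ⟨j, rfl⟩ := Nat.odd_iff.2 (Nat.two_dvd_ne_zero.1 hn)
      rw [pow_succ, pow_mul, pow_two, hd2, one_pow, one_mul, hd, mul_inv_eq_one, mul_inv_eq_iff_eq_mul] at h1
      exact h1
    have hyc : y ∈ centralizer (Cfsg.generalizedFittingSubgroup X : Set X) := by
      have hle : Cfsg.generalizedFittingSubgroup X ≤ centralizer {y} := by
        refine sup_le (fun e he => mem_centralizer_singleton_iff.2 (mem_centralizer_iff.1 hyE e he)) ?_
        rw [hF]
        exact fun q hq => mem_centralizer_singleton_iff.2 (hfix q hq).symm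
      exact mem_centralizer_iff.2 fun w hw => mem_centralizer_singleton_iff.1 (hle hw)
    have hyQ' := Grp.centralizer_gfitting_le_fitting hyc
    rw [hF] at hyQ'
    obtain ⟨j, hj⟩ := Grp.pCore_isPGroup (p := 2) ⟨y, hyQ'⟩
    have hy1 : y = 1 := orderOf_eq_one_iff.1 (Nat.eq_one_of_dvd_coprimes
      ((Nat.prime_two.coprime_iff_not_dvd.2 hn).pow_left j) (orderOf_dvd_of_pow_eq_one
        (by simpa using congrArg Subtype.val hj)) (orderOf_dvd_of_pow_eq_one hyn))
    exact Subtype.ext hy1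
  have hMQ : M ≤ Q := Grp.le_pCore hMn hM2
  intro b hb
  obtain ⟨l, hl, hlE, hls⟩ := h.mod_layer comps (fun L hL => (hS L).1 hL) b hb
  have hlb : l⁻¹ * b ∈ A := mul_mem (inv_mem hl) hb
  have hm : l⁻¹ * b ∈ M := by
    refine ⟨mem_centralizer_iff.2 fun w hw => ?_, mem_centralizer_iff.2 fun z hz => comm_of_elem h.elem hz.1 hlb,
      fun q hq => ?_⟩
    · have hle : E ≤ centralizer {l⁻¹ * b} := sSup_le fun L hL x hx =>
        mem_centralizer_singleton_iff.2 (mem_centralizer_iff.1 (hls L ((hS L).2 hL)) x hx)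
      exact mem_centralizer_singleton_iff.1 (hle hw)
    · have hqA : q * (l⁻¹ * b)⁻¹ * q⁻¹ ∈ A := h.conj_mem hP (inv_mem hlb)
        (mul_mem (mul_mem (hQP hq) (inv_mem (hP hlb))) (inv_mem (hQP hq)))
      exact ⟨by
        rw [show l⁻¹ * b * q * (l⁻¹ * b)⁻¹ * q⁻¹ = l⁻¹ * b * (q * (l⁻¹ * b)⁻¹ * q⁻¹) by group]
        exact mul_mem hlb hqA, Q.mul_mem (hQn.conj_mem q hq _) (Q.inv_mem hq)⟩
  rw [show b = l * (l⁻¹ * b) by group]
  exact mul_mem (mem_sup_left hlE) (mem_sup_right (hMQ hm))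

/-- The group is the product of its layer and the normaliser of the subgroup. -/
theorem Loc.factor : Cfsg.layer X ⊔ normalizer (A : Set X) = ⊤ := by
  haveI : Fact (Nat.Prime 2) := ⟨Nat.prime_two⟩
  obtain ⟨P, hP⟩ := exists_sylow_ge h.elem
  haveI : (Cfsg.layer X).Normal := ⟨fun x hx g => Grp.layer_map_le (MulAut.conj g) ⟨x, hx, rfl⟩⟩
  haveI : (Cfsg.pCore 2 X).Normal := Grp.pCore_isNormal
  set F := Cfsg.layer X ⊔ Cfsg.pCore 2 X
  haveI hFn : F.Normal := Subgroup.sup_normal _ _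
  have hAF : A ≤ F := h.le_gfitting
  have hfr := Sylow.normalizer_sup_eq_top (traceSylow P hFn.isSubnormal)
  have hRmap : (traceSylow P hFn.isSubnormal : Subgroup ↥F).map F.subtype = (P : Subgroup X) ⊓ F := by
    ext x
    constructor
    · rintro ⟨w, hw, rfl⟩
      exact ⟨hw, w.2⟩
    · rintro ⟨h1, h2⟩
      exact ⟨⟨x, h2⟩, h1, rfl⟩
  rw [hRmap] at hfr
  refine top_le_iff.1 (hfr.ge.trans (sup_le ?_ (sup_le le_sup_left ?_)))
  · have key : ∀ g ∈ normalizer (((P : Subgroup X) ⊓ F : Subgroup X) : Set X), ∀ a ∈ A, g * a * g⁻¹ ∈ A :=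
      fun g hg a ha => h.conj_mem hP ha ((mem_normalizer_iff.1 hg a).1 ⟨hP ha, hAF ha⟩).1
    intro n hn
    exact mem_sup_right (mem_normalizer_iff.2 fun a => ⟨key n hn a, fun ha => by
      simpa [mul_assoc] using key n⁻¹ (inv_mem hn) _ ha⟩)
  · exact fun q hq => mem_sup_right (h.sylow_le_normalizer hP (Grp.pCore_le_sylow P hq))

end Cfsg.Agent.Invol.ThreeFree
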