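import Cfsg.Agent.Lib.Invol.ThreeFree.CoresTrivial
import Cfsg.Agent.Lib.Invol.ThreeFree.LocalFactor
import Cfsg.Agent.Lib.Grp.LBalance
import Cfsg.Agent.Lib.Grp.ComponentMax
import Cfsg.Prelude.Def_EvenType

/-!
# The components of the centralisers of the elements of the strongly closed subgroup
-/

set_option autoImplicit false
set_option linter.style.haveILetI false

open Subgroup

namespace Cfsg.Agent.Invol.ThreeFree

universe u

variable {G : Type u} [Group G] [Finite G] [IsSimpleGroup G]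

/-- The standing hypotheses on the simple group. -/
structure Setup (A : Subgroup G) : Prop where
  hna : ¬ IsMulCommutative G
  h3 : ¬ 3 ∣ Nat.card G
  sub : SubSz G
  min : Minimal A
  eight : 8 ≤ Nat.card A

theorem isComponentOf_mono {L H K : Subgroup G} (h : Cfsg.IsComponentOf L H) (hLK : L ≤ K) (hKH : K ≤ H) :
    Cfsg.IsComponentOf L K := by
  refine ⟨hLK, ?_⟩
  have h1 := Grp.IsComponent.subgroupOf h.2
    (show L.subgroupOf H ≤ K.subgroupOf H from fun x hx => hLK hx)
  have h2 := Grp.IsComponent.map_iso (subgroupOfEquivOfLe hKH) h1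
  convert h2 using 1
  ext x
  constructor
  · intro hx
    exact ⟨⟨⟨x, hKH x.2⟩, x.2⟩, hx, rfl⟩
  · rintro ⟨y, hy, rfl⟩
    exact hy

theorem isQuasisimple_of_componentOf {L H : Subgroup G} (h : Cfsg.IsComponentOf L H) : Cfsg.IsQuasisimple ↥L :=
  (Grp.isQuasisimple_congr (subgroupOfEquivOfLe h.1)).1 h.2.2

variable {A : Subgroup G} (s : Setup A)
include s

theorem Setup.ne_top {a : G} (ha1 : a ≠ 1) : centralizer ({a} : Set G) ≠ ⊤ :=
  centralizer_ne_top s.hna ha1

theorem Setup.le_centralizer {a : G} (ha : a ∈ A) : A ≤ centralizer ({a} : Set G) := fun b hb =>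
  mem_centralizer_singleton_iff.2 (comm_of_elem s.min.elem hb ha)

theorem Setup.loc {a : G} (ha : a ∈ A) (ha1 : a ≠ 1) :
    Loc (A.subgroupOf (centralizer ({a} : Set G))) := by
  haveI : Fact (Nat.Prime 2) := ⟨Nat.prime_two⟩
  refine ⟨?_, fun K hK => ?_, ⟨⟨⟨fun x y => Subtype.ext (Subtype.ext (comm_of_elem s.min.elem x.2 y.2))⟩⟩,
    fun x hx => Subtype.ext (s.min.elem.2 _ hx)⟩, fun P hP => ⟨hP, fun x hx g hg => ?_⟩⟩
  · refine Subgroup.map_injective (centralizer ({a} : Set G)).subtype_injective ?_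
    rw [Subgroup.map_bot]
    exact cores_trivial s.hna s.sub s.min s.eight (orderOf_eq_prime (s.min.elem.2 a ha) ha1)
  · exact component_sz s.sub (s.ne_top ha1) (MonoidHom.id _) Function.surjective_id hK.2
  · obtain ⟨Q, hQ⟩ := (P.isPGroup'.map (centralizer ({a} : Set G)).subtype).exists_le_sylow
    have hAQ : A ≤ (Q : Subgroup G) := fun b hb => hQ ⟨⟨b, s.le_centralizer ha hb⟩, hP hb, rfl⟩
    exact s.min.conj_mem hAQ hx (hQ ⟨_, hg, rfl⟩)

theorem Setup.comp_le_normalizer {a : G} (ha : a ∈ A) (ha1 : a ≠ 1) {L : Subgroup G}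
    (hL : Cfsg.IsComponentOf L (centralizer ({a} : Set G))) : A ≤ normalizer (L : Set G) := by
  intro b hb
  have h1 := (s.loc ha ha1).le_normalizer hL.2 (x := ⟨b, s.le_centralizer ha hb⟩) hb
  refine mem_normalizer_iff.2 fun w => ⟨fun hw => ?_, fun hw => ?_⟩
  · exact (mem_normalizer_iff.1 h1 ⟨w, hL.1 hw⟩).1 hw
  · have hw' : w ∈ centralizer ({a} : Set G) := by
      have h2 := mul_mem (mul_mem (inv_mem (s.le_centralizer ha hb)) (hL.1 hw)) (s.le_centralizer ha hb)
      rwa [show b⁻¹ * (b * w * b⁻¹) * b = w by group] at h2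
    exact (mem_normalizer_iff.1 h1 ⟨w, hw'⟩).2 hw

theorem Setup.sz {a : G} (ha1 : a ≠ 1) {L : Subgroup G}
    (hL : Cfsg.IsComponentOf L (centralizer ({a} : Set G))) : Cfsg.Lie.IsoSuzuki (↥L ⧸ center ↥L) :=
  componentOf_sz s.sub (s.ne_top ha1) hL.1 (isQuasisimple_of_componentOf hL)

theorem Setup.split {a : G} (ha : a ∈ A) (ha1 : a ≠ 1) {L : Subgroup G}
    (hL : Cfsg.IsComponentOf L (centralizer ({a} : Set G))) (hact : ¬ A ≤ centralizer (L : Set G))
    {b : G} (hb : b ∈ A) : ∃ l ∈ A, l ∈ L ∧ l⁻¹ * b ∈ centralizer (L : Set G) := by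
  have hact' : ¬ A.subgroupOf (centralizer ({a} : Set G)) ≤
      centralizer ((L.subgroupOf (centralizer ({a} : Set G)) : Subgroup _) : Set _) := fun hle => hact fun c hc =>
    mem_centralizer_iff.2 fun w hw => congrArg Subtype.val
      (mem_centralizer_iff.1 (hle (show (⟨c, s.le_centralizer ha hc⟩ : ↥(centralizer ({a} : Set G))) ∈
        A.subgroupOf _ from hc)) ⟨w, hL.1 hw⟩ hw)
  obtain ⟨l, hl, hlL, hlc⟩ := (s.loc ha ha1).split hL.2 hact'
    (b := ⟨b, s.le_centralizer ha hb⟩) hb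
  exact ⟨l, hl, hlL, mem_centralizer_iff.2 fun w hw => congrArg Subtype.val
    (mem_centralizer_iff.1 hlc ⟨w, hL.1 hw⟩ hw)⟩

/-- The centraliser lies in the product of its components and the normaliser. -/
theorem Setup.factor {a : G} (ha : a ∈ A) (ha1 : a ≠ 1) {M : Subgroup G}
    (hM : ∀ L : Subgroup G, Cfsg.IsComponentOf L (centralizer ({a} : Set G)) → L ≤ M)
    (hN : normalizer (A : Set G) ⊓ centralizer ({a} : Set G) ≤ M) : centralizer ({a} : Set G) ≤ M := by
  have hle : Cfsg.layer ↥(centralizer ({a} : Set G)) ⊔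
      normalizer ((A.subgroupOf (centralizer ({a} : Set G)) : Subgroup _) : Set _) ≤
        M.subgroupOf (centralizer ({a} : Set G)) := by
    refine sup_le (sSup_le fun K hK => ?_) fun n hn => hN ⟨mem_normalizer_iff.2 fun b => ⟨fun hb => ?_, fun hb => ?_⟩, n.2⟩
    · intro x hx
      refine hM (K.map (centralizer ({a} : Set G)).subtype) ⟨Subgroup.map_subtype_le _, ?_⟩ ⟨x, hx, rfl⟩
      rw [Subgroup.subgroupOf, Subgroup.comap_map_eq_self_of_injective (Subgroup.subtype_injective _)]
      exact hK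
    · exact (mem_normalizer_iff.1 hn ⟨b, s.le_centralizer ha hb⟩).1 hb
    · have hb' : b ∈ centralizer ({a} : Set G) := by
        have h2 := mul_mem (mul_mem (inv_mem n.2) (s.le_centralizer ha hb)) n.2
        simpa [mul_assoc] using h2
      exact (mem_normalizer_iff.1 hn ⟨b, hb'⟩).2 hb
  rw [(s.loc ha ha1).factor] at hle
  intro x hx
  exact hle (mem_top (⟨x, hx⟩ : ↥(centralizer ({a} : Set G))))

/-- A component of `C(a)` centralised by `b` is a component of `C(b)`. -/
theorem Setup.transfer {a b : G} (ha : a ∈ A) (ha1 : a ≠ 1) (hb : b ∈ A) (hb1 : b ≠ 1) {L : Subgroup G}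
    (hL : Cfsg.IsComponentOf L (centralizer ({a} : Set G))) (hbL : b ∈ centralizer (L : Set G)) :
    Cfsg.IsComponentOf L (centralizer ({b} : Set G)) := by
  classical
  haveI : Fact (Nat.Prime 2) := ⟨Nat.prime_two⟩
  have hLb : L ≤ centralizer ({b} : Set G) := fun x hx =>
    mem_centralizer_singleton_iff.2 (mem_centralizer_iff.1 hbL x hx)
  set X := centralizer ({b} : Set G) with hX
  have hlocb := s.loc hb hb1
  set a' : ↥X := ⟨a, s.le_centralizer hb ha⟩ with ha'
  set D : Subgroup ↥X := centralizer ({a'} : Set ↥X) with hD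
  set L' : Subgroup ↥X := L.subgroupOf X with hL'
  have hL'D : L' ≤ D := fun x hx => mem_centralizer_singleton_iff.2 (Subtype.ext
    (mem_centralizer_singleton_iff.1 (hL.1 hx)))
  -- `L` is a component of the centraliser in `X`
  have hcompD : Cfsg.IsComponent (L'.subgroupOf D) := by
    have h1 := isComponentOf_mono hL (le_inf hL.1 hLb) (inf_le_left : centralizer ({a} : Set G) ⊓ X ≤ _)
    let e : ↥(centralizer ({a} : Set G) ⊓ X : Subgroup G) ≃* ↥D :=
      { toFun := fun x => ⟨⟨x, x.2.2⟩, mem_centralizer_singleton_iff.2 (Subtype.ext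
          (mem_centralizer_singleton_iff.1 x.2.1))⟩
        invFun := fun x => ⟨x.1, ⟨mem_centralizer_singleton_iff.2
          (congrArg Subtype.val (mem_centralizer_singleton_iff.1 x.2)), x.1.2⟩⟩
        left_inv := fun x => rfl
        right_inv := fun x => rfl
        map_mul' := fun x y => rfl }
    have h2 := Grp.IsComponent.map_iso e h1.2
    convert h2 using 1
    ext x
    constructor
    · intro hx; exact ⟨e.symm x, hx, e.apply_symm_apply x⟩
    · rintro ⟨y, hy, rfl⟩; exact hy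
  have hqs : Cfsg.IsQuasisimple ↥L' :=
    (Grp.isQuasisimple_congr (subgroupOfEquivOfLe hLb)).2 (isQuasisimple_of_componentOf hL)
  have hperf : ⁅L', L'⁆ = L' := by
    rw [← Subgroup.map_subtype_commutator, hqs.1.commutator_eq_top, ← MonoidHom.range_eq_map, Subgroup.range_subtype]
  have heven : 2 ∣ Nat.card ↥(L'.subgroupOf D) := by
    obtain ⟨x, -, hx2, hx1⟩ := sz_exists_omega (s.sz ha1 hL) default
    have h1 : 2 ∣ Nat.card (↥L ⧸ center ↥L) :=
      (orderOf_eq_prime (p := 2) (by rw [pow_two, hx2]) hx1) ▸ orderOf_dvd_natCard x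
    rw [Nat.card_congr (subgroupOfEquivOfLe hL'D).toEquiv, Nat.card_congr (subgroupOfEquivOfLe hLb).toEquiv]
    exact h1.trans (Subgroup.card_quotient_dvd_card _)
  -- so it lies in the layer of `X`
  have hlayer : L' ≤ Cfsg.layer ↥X := by
    have hR : IsPGroup 2 (zpowers a') := IsPGroup.of_card (n := 1) (by
      rw [Nat.card_zpowers, pow_one]
      exact orderOf_eq_prime (Subtype.ext (s.min.elem.2 a ha)) fun e => ha1 (congrArg Subtype.val e))
    have hb' := Grp.lBalance hR
    rw [← Grp.centralizer_singleton_eq_zpowers, Grp.pLayer_eq_layer hlocb.core] at hb'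
    refine le_trans (fun x hx => ?_) hb'
    exact ⟨⟨x, hL'D hx⟩, Grp.ComponentMax.component_le_pLayer hcompD heven hx, rfl⟩
  obtain ⟨P, hP⟩ := exists_sylow_ge hlocb.elem
  -- the components moved by `a` are centralised
  have hmoved : ∀ J : Subgroup ↥X, Cfsg.IsComponent J → a' ∉ centralizer (J : Set ↥X) →
      L' ≤ centralizer (J : Set ↥X) := by
    intro J hJ haJ
    obtain ⟨l, hl, hlJ, hlc⟩ := hlocb.split hJ (fun hle => haJ (hle (show a' ∈ A.subgroupOf X from ha)))
      (b := a') ha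
    set C := centralizer (J : Set ↥X)
    set W := J ⊔ C
    have hCW : (C.subgroupOf W).Normal := by
      refine Subgroup.normal_subgroupOf_of_le_normalizer (sup_le ?_ Subgroup.le_normalizer)
      intro j hj
      refine mem_normalizer_iff.2 fun c => ⟨fun hc => ?_, fun hc => ?_⟩
      · rwa [show j * c * j⁻¹ = c by rw [(mem_centralizer_iff.1 hc j hj), mul_inv_cancel_right]]
      · have h1 := mem_centralizer_iff.1 hc j hj
        have h2 : j * c * j⁻¹ = c := by
          have : j * (j * c * j⁻¹) * j⁻¹ = j * c * j⁻¹ := by rw [h1, mul_inv_cancel_right]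
          have h3 := congrArg (fun z => j⁻¹ * z * j) this
          simpa [mul_assoc] using h3
        rwa [h2] at hc
    have hEW : Cfsg.layer ↥X ≤ W := sSup_le fun K hK => by
      by_cases e : K = J
      · exact e ▸ le_sup_left
      · exact (Grp.IsComponent.commute hK hJ e).trans le_sup_right
    let f : ↥W →* ↥W ⧸ C.subgroupOf W := QuotientGroup.mk' _
    obtain ⟨S, hS⟩ := hlocb.image_sylow (P := P) hJ
    have hlP : l ∈ (P : Subgroup ↥X) := hP hl
    have himg : ∀ x ∈ L', ∀ hx : x ∈ W, ∃ k : ℕ, f ⟨x, hx⟩ ^ 2 ^ k = 1 := by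
      intro x hxL hxW
      obtain ⟨j, hj, c, hc, hjc⟩ : ∃ j ∈ J, ∃ c ∈ C, j * c = x := by
        have hcj : C ≤ normalizer (J : Set ↥X) := Subgroup.centralizer_le_normalizer _
        have h1 : x ∈ ((J ⊔ C : Subgroup ↥X) : Set ↥X) := hxW
        rw [Subgroup.coe_mul_of_right_le_normalizer_left J C hcj] at h1
        exact h1
      have hxa : x * a' = a' * x := mem_centralizer_singleton_iff.1 (hL'D hxL)
      set d := l⁻¹ * a' with hd
      have hjl : j * l * j⁻¹ * l⁻¹ ∈ C := by
        have hcl : c * l = l * c := (mem_centralizer_iff.1 hc l hlJ).symm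
        have hjd : j * (c * d * c⁻¹) = c * d * c⁻¹ * j :=
          mem_centralizer_iff.1 (mul_mem (mul_mem hc hlc) (inv_mem hc)) j hj
        have e : l * d = j * l * j⁻¹ * (c * d * c⁻¹) := by
          calc l * d = x * a' * x⁻¹ := by rw [hxa, hd]; group
            _ = j * (c * l) * d * c⁻¹ * j⁻¹ := by rw [← hjc, hd]; group
            _ = j * l * ((c * d * c⁻¹) * j⁻¹) := by rw [hcl]; group
            _ = _ := by
              rw [show c * d * c⁻¹ * j⁻¹ = j⁻¹ * (j * (c * d * c⁻¹)) * j⁻¹ by group, hjd]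
              group
        have h4 : j * l * j⁻¹ * l⁻¹ = l * (d * (c * d * c⁻¹)⁻¹) * l⁻¹ := by
          rw [show j * l * j⁻¹ = l * d * (c * d * c⁻¹)⁻¹ by rw [e]; group]
          group
        rw [h4]
        have h5 : d * (c * d * c⁻¹)⁻¹ ∈ C := mul_mem hlc (inv_mem (mul_mem (mul_mem hc hlc) (inv_mem hc)))
        rw [mem_centralizer_iff.1 h5 l hlJ, mul_inv_cancel_right]
        exact h5
      set Q := ↥J ⧸ center ↥J
      have hz : ∀ y : ↥J, (y : ↥X) ∈ C → (y : Q) = 1 := fun y hy => (QuotientGroup.eq_one_iff y).2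
        (mem_center_iff.2 fun w => Subtype.ext (mem_centralizer_iff.1 hy w w.2))
      have hl1 : ((⟨l, hlJ⟩ : ↥J) : Q) ≠ 1 := fun e => haJ (by
        have hlC : l ∈ C := mem_centralizer_iff.2 fun w hw => congrArg Subtype.val
          (mem_center_iff.1 ((QuotientGroup.eq_one_iff _).1 e) ⟨w, hw⟩)
        rw [show a' = l * d by rw [hd]; group]
        exact mul_mem hlC hlc)
      have hjS : ((⟨j, hj⟩ : ↥J) : Q) ∈ (S : Subgroup Q) := by
        refine sz_centralizer (hlocb.sz J hJ) S ((hS ⟨l, hlJ⟩).2 hlP) hl1 ?_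
        have h6 := hz (⟨j, hj⟩ * ⟨l, hlJ⟩ * (⟨j, hj⟩ : ↥J)⁻¹ * (⟨l, hlJ⟩ : ↥J)⁻¹) hjl
        rw [QuotientGroup.mk_mul, QuotientGroup.mk_mul, QuotientGroup.mk_mul, QuotientGroup.mk_inv,
          QuotientGroup.mk_inv, mul_inv_eq_one, mul_inv_eq_iff_eq_mul] at h6
        exact h6
      obtain ⟨k, hk⟩ := P.isPGroup' ⟨j, (hS ⟨j, hj⟩).1 hjS⟩
      refine ⟨k, ?_⟩
      have hf : f ⟨x, hxW⟩ = f ⟨j, mem_sup_left hj⟩ := by
        refine (QuotientGroup.eq).2 ?_
        show x⁻¹ * j ∈ C
        rw [← hjc, mul_inv_rev, inv_mul_cancel_right]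
        exact inv_mem hc
      rw [hf, ← map_pow, show (⟨j, mem_sup_left hj⟩ : ↥W) ^ 2 ^ k = 1 from Subtype.ext
        (by simpa using congrArg Subtype.val hk), map_one]
    have hLW : L' ≤ W := hlayer.trans hEW
    set M := (L'.subgroupOf W).map f
    have hM2 : IsPGroup 2 M := by
      rintro ⟨_, ⟨⟨x, hxW⟩, hx, rfl⟩⟩
      obtain ⟨k, hk⟩ := himg x hx hxW
      exact ⟨k, Subtype.ext hk⟩
    have hMp : ⁅M, M⁆ = M := by
      rw [← Subgroup.map_commutator]
      congr 1
      refine Subgroup.map_injective W.subtype_injective ?_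
      rw [Subgroup.map_commutator, Subgroup.map_subgroupOf_eq_of_le hLW, hperf]
    have hM1 : M = ⊥ := Grp.eq_bot_of_perfect_of_solvable hMp
      (by haveI := hM2.isNilpotent; infer_instance)
    intro x hx
    have : f ⟨x, hLW hx⟩ = 1 := mem_bot.1 (hM1 ▸ ⟨_, hx, rfl⟩)
    exact (QuotientGroup.eq_one_iff (N := C.subgroupOf W) (⟨x, hLW hx⟩ : ↥W)).1 this
  -- hence it is one of the others
  by_contra hnot
  have hall : ∀ J : Subgroup ↥X, Cfsg.IsComponent J → L' ≤ centralizer (J : Set ↥X) := by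
    intro J hJ
    by_cases haJ : a' ∈ centralizer (J : Set ↥X)
    · have hJD : J ≤ D := fun x hx => mem_centralizer_singleton_iff.2 (mem_centralizer_iff.1 haJ x hx)
      by_cases e : L'.subgroupOf D = J.subgroupOf D
      · exfalso
        refine hnot ⟨hLb, ?_⟩
        show Cfsg.IsComponent L'
        rw [show L' = J from ?_]
        · exact hJ
        · rw [← Subgroup.map_subgroupOf_eq_of_le hL'D, e, Subgroup.map_subgroupOf_eq_of_le hJD]
      · intro x hx
        refine mem_centralizer_iff.2 fun w hw => congrArg Subtype.val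
          (mem_centralizer_iff.1 (Grp.IsComponent.commute hcompD (Grp.IsComponent.subgroupOf hJ hJD) e
            (show (⟨x, hL'D hx⟩ : ↥D) ∈ L'.subgroupOf D from hx)) ⟨w, hJD hw⟩ hw)
    · exact hmoved J hJ haJ
  refine Grp.IsQuasisimple.not_isSolvable hqs (Group.isSolvable_of_comm fun x y => Subtype.ext ?_)
  have hle : Cfsg.layer ↥X ≤ centralizer (L' : Set ↥X) := sSup_le fun J hJ w hw =>
    mem_centralizer_iff.2 fun z hz => (mem_centralizer_iff.1 (hall J hJ hz) w hw).symm
  exact mem_centralizer_iff.1 (hle (hlayer y.2)) x x.2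

end Cfsg.Agent.Invol.ThreeFree
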