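import Cfsg.Agent.Lib.Invol.ThreeFree.Sections
import Cfsg.Agent.Lib.Invol.ThreeFree.Closed
import Cfsg.Agent.Lib.Grp.BalanceReduction
import Cfsg.Agent.S1291
import Cfsg.Agent.S1300

/-!
# The cores of the centralisers of involutions are trivial
-/

set_option autoImplicit false
set_option linter.style.haveILetI false

open Subgroup

namespace Cfsg.Agent.Invol.ThreeFree

universe u

variable {G : Type u} [Group G] [Finite G] [IsSimpleGroup G]

theorem centralizer_ne_top (hna : ¬ IsMulCommutative G) {x : G} (hx : x ≠ 1) :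
    centralizer ({x} : Set G) ≠ ⊤ := fun e => by
  have hc : x ∈ center G := mem_center_iff.2 fun g => mem_centralizer_singleton_iff.1 (e ▸ mem_top g : g ∈ centralizer {x})
  rcases (inferInstance : (center G).Normal).eq_bot_or_eq_top with h | h
  · rw [h, mem_bot] at hc; exact hx hc
  · exact hna ⟨⟨fun a b => mem_center_iff.1 (h ▸ mem_top b) a⟩⟩

theorem oddCore_eq_bot (hna : ¬ IsMulCommutative G) {A : Subgroup G} (h : Minimal A) : Cfsg.pPrimeCore 2 G = ⊥ := by
  refine (Grp.pPrimeCore_isNormal).eq_bot_or_eq_top.resolve_right fun e => ?_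
  have hc : (Nat.card ↥(Cfsg.pPrimeCore 2 G)).Coprime 2 := Grp.pPrimeCore_coprime
  obtain ⟨⟨a, ha⟩, ha1⟩ := A.ne_bot_iff_exists_ne_one.1 h.nt
  rw [e, Subgroup.card_top] at hc
  have h2 : orderOf a = 2 := orderOf_eq_prime (h.elem.2 a ha) fun e => ha1 (Subtype.ext e)
  exact (Nat.prime_two.coprime_iff_not_dvd.1 hc.symm) (h2 ▸ orderOf_dvd_natCard a)

/-- All cores of involution centralisers are trivial. -/
theorem cores_trivial (hna : ¬ IsMulCommutative G) (hsub : SubSz G) {A : Subgroup G} (h : Minimal A)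
    (h8 : 8 ≤ Nat.card A) {t : G} (ht : orderOf t = 2) : Cfsg.centralizerPPrimeCore 2 t = ⊥ := by
  haveI : Fact (Nat.Prime 2) := ⟨Nat.prime_two⟩
  have hbal : Cfsg.IsBalanced G := by
    rw [S1300.result]
    refine Grp.kBalanced_of_components le_rfl fun x hx K hK => sz_locally_balanced ?_
    haveI : (Cfsg.pPrimeCore 2 ↥(centralizer ({x} : Set G))).Normal := Grp.pPrimeCore_isNormal
    exact component_sz hsub (centralizer_ne_top hna (fun e => by rw [e, orderOf_one] at hx; omega))
      (QuotientGroup.mk' (Cfsg.pPrimeCore 2 ↥(centralizer ({x} : Set G)))) (QuotientGroup.mk'_surjective _) hK.2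
  obtain ⟨P, hP⟩ := exists_sylow_ge h.elem
  obtain ⟨hconn, hrank⟩ := h.connected h8 hP
  exact S1291.result hbal (oddCore_eq_bot hna h) hrank (Or.inr ⟨P, hconn⟩) t ht

end Cfsg.Agent.Invol.ThreeFree
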