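import Cfsg.Agent.Lib.Invol.ThreeFree.Active
import Cfsg.Agent.S1174

/-!
# All the components commute; a strongly embedded subgroup
-/

set_option autoImplicit false
set_option linter.style.haveILetI false

open Subgroup

namespace Cfsg.Agent.Invol.ThreeFree

universe u

variable {G : Type u} [Group G] [Finite G] [IsSimpleGroup G] {A : Subgroup G}

/-- A component of the centraliser of a non-trivial element of `A`. -/
def Member (A L : Subgroup G) : Prop :=
  ∃ a ∈ A, a ≠ 1 ∧ Cfsg.IsComponentOf L (centralizer ({a} : Set G))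

theorem mem_map_conj {n : G} {H : Subgroup G} {x : G} :
    x ∈ H.map (MulAut.conj n).toMonoidHom ↔ n⁻¹ * x * n ∈ H := by
  constructor
  · rintro ⟨y, hy, rfl⟩
    show n⁻¹ * (n * y * n⁻¹) * n ∈ H
    rwa [show n⁻¹ * (n * y * n⁻¹) * n = y by group]
  · exact fun h => ⟨_, h, by show n * (n⁻¹ * x * n) * n⁻¹ = x; group⟩

theorem map_conj_one (H : Subgroup G) : H.map (MulAut.conj (1 : G)).toMonoidHom = H := by
  ext x; rw [mem_map_conj]; simp

theorem map_conj_mul (H : Subgroup G) (m n : G) :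
    H.map (MulAut.conj (m * n)).toMonoidHom = (H.map (MulAut.conj n).toMonoidHom).map (MulAut.conj m).toMonoidHom := by
  ext x
  rw [mem_map_conj, mem_map_conj, mem_map_conj, show (m * n)⁻¹ * x * (m * n) = n⁻¹ * (m⁻¹ * x * m) * n by group]

variable (s : Setup A)
include s

omit s in
theorem Member.conj {L : Subgroup G} (h : Member A L) {n : G} (hn : n ∈ normalizer (A : Set G)) :
    Member A (L.map (MulAut.conj n).toMonoidHom) := by
  obtain ⟨a, ha, ha1, hc⟩ := h
  refine ⟨n * a * n⁻¹, (mem_normalizer_iff.1 hn a).1 ha, fun e => ha1 (conj_eq_one_iff.1 e), ?_, ?_⟩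
  · intro x hx
    have h1 := mem_centralizer_singleton_iff.1 (hc.1 (mem_map_conj.1 hx))
    refine mem_centralizer_singleton_iff.2 ?_
    calc x * (n * a * n⁻¹) = n * (n⁻¹ * x * n * a) * n⁻¹ := by group
      _ = _ := by rw [h1]; group
  · let e : ↥(centralizer ({a} : Set G)) ≃* ↥(centralizer ({n * a * n⁻¹} : Set G)) :=
      { toFun := fun x => ⟨n * x * n⁻¹, mem_centralizer_singleton_iff.2 (by
          have h1 := mem_centralizer_singleton_iff.1 x.2
          calc n * (x : G) * n⁻¹ * (n * a * n⁻¹) = n * ((x : G) * a) * n⁻¹ := by group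
            _ = _ := by rw [h1]; group)⟩
        invFun := fun x => ⟨n⁻¹ * x * n, mem_centralizer_singleton_iff.2 (by
          have h1 := mem_centralizer_singleton_iff.1 x.2
          calc n⁻¹ * (x : G) * n * a = n⁻¹ * ((x : G) * (n * a * n⁻¹)) * n := by group
            _ = _ := by rw [h1]; group)⟩
        left_inv := fun x => Subtype.ext (by show n⁻¹ * (n * (x : G) * n⁻¹) * n = x; group)
        right_inv := fun x => Subtype.ext (by show n * (n⁻¹ * (x : G) * n) * n⁻¹ = x; group)
        map_mul' := fun x y => Subtype.ext (by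
          show n * ((x : G) * y) * n⁻¹ = n * x * n⁻¹ * (n * y * n⁻¹); group) }
    have h2 := Grp.IsComponent.map_iso e hc.2
    convert h2 using 1
    ext x
    rw [mem_subgroupOf, mem_map_conj]
    exact ⟨fun hx => ⟨e.symm x, hx, e.apply_symm_apply x⟩, fun ⟨y, hy, e'⟩ => by
      subst e'
      show n⁻¹ * (n * (y : G) * n⁻¹) * n ∈ L
      rwa [show n⁻¹ * (n * (y : G) * n⁻¹) * n = y by group]⟩

omit s in
theorem Active.conj {L : Subgroup G} (h : Active A L) {n : G} (hn : n ∈ normalizer (A : Set G)) :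
    Active A (L.map (MulAut.conj n).toMonoidHom) := by
  refine ⟨Member.conj h.1 hn, fun hle => h.2 fun b hb => mem_centralizer_iff.2 fun w hw => ?_⟩
  have h1 := mem_centralizer_iff.1 (hle ((mem_normalizer_iff.1 hn b).1 hb)) (n * w * n⁻¹) ⟨w, hw, rfl⟩
  calc w * b = n⁻¹ * (n * w * n⁻¹ * (n * b * n⁻¹)) * n := by group
    _ = _ := by rw [h1]; group

omit s in
theorem inf_map_conj {n : G} (hn : n ∈ normalizer (A : Set G)) (L : Subgroup G) :
    A ⊓ L.map (MulAut.conj n).toMonoidHom = (A ⊓ L).map (MulAut.conj n).toMonoidHom := by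
  ext x
  rw [Subgroup.mem_inf, mem_map_conj, mem_map_conj, Subgroup.mem_inf]
  exact and_congr_left fun _ => (mem_normalizer_iff''.1 hn x)

/-- The trace on a moved component is not all of `A` and is not invariant. -/
theorem Setup.trace_not_invariant {L : Subgroup G} (hL : Active A L)
    (hinv : ∀ n ∈ normalizer (A : Set G), (A ⊓ L).map (MulAut.conj n).toMonoidHom = A ⊓ L) : False := by
  rcases s.min.min (A ⊓ L) inf_le_left (fun n hn b hb => (hinv n hn).le ⟨b, hb, rfl⟩) with h | h
  · obtain ⟨l, hl, hlL, hl1⟩ := s.active_exists hL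
    exact hl1 (mem_bot.1 (h ▸ ⟨hl, hlL⟩))
  · obtain ⟨a, ha, ha1, hc⟩ := hL.1
    exact ha1 (s.eq_one_of_mem hL (h.ge ha).2 (mem_centralizer_iff.2 fun w hw =>
      mem_centralizer_singleton_iff.1 (hc.1 hw)))

/-- For two moved components some third one has another trace. -/
theorem Setup.exists_third {L M : Subgroup G} (hL : Active A L) (hM : Active A M) :
    ∃ N : Subgroup G, Active A N ∧ A ⊓ N ≠ A ⊓ L ∧ A ⊓ N ≠ A ⊓ M := by
  by_contra hcon
  push Not at hcon
  have hor : ∀ N, Active A N → A ⊓ N = A ⊓ L ∨ A ⊓ N = A ⊓ M := fun N hN =>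
    or_iff_not_imp_left.2 (hcon N hN)
  set ZL := A ⊓ L with hZL
  set ZM := A ⊓ M with hZM
  have hmap : ∀ n ∈ normalizer (A : Set G),
      (ZL.map (MulAut.conj n).toMonoidHom = ZL ∨ ZL.map (MulAut.conj n).toMonoidHom = ZM) ∧
      (ZM.map (MulAut.conj n).toMonoidHom = ZL ∨ ZM.map (MulAut.conj n).toMonoidHom = ZM) := fun n hn => by
    refine ⟨?_, ?_⟩
    · rw [hZL, ← inf_map_conj hn L]; exact hor _ (hL.conj hn)
    · rw [hZM, ← inf_map_conj hn M]; exact hor _ (hM.conj hn)
  by_cases hinv : ∀ n ∈ normalizer (A : Set G), ZL.map (MulAut.conj n).toMonoidHom = ZL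
  · exact s.trace_not_invariant hL hinv
  push Not at hinv
  obtain ⟨g, hg, hgL⟩ := hinv
  have hgL' : ZL.map (MulAut.conj g).toMonoidHom = ZM := (hmap g hg).1.resolve_left hgL
  have hne : ZL ≠ ZM := fun e => hgL (hgL'.trans e.symm)
  have hinj : ∀ n : G, Function.Injective fun H : Subgroup G => H.map (MulAut.conj n).toMonoidHom := fun n =>
    Subgroup.map_injective (MulAut.conj n).injective
  let K : Subgroup ↥(normalizer (A : Set G)) :=
    { carrier := {n | ZL.map (MulAut.conj (n : G)).toMonoidHom = ZL}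
      one_mem' := map_conj_one ZL
      mul_mem' := fun {m n} hm hn => by
        show ZL.map (MulAut.conj ((m : G) * n)).toMonoidHom = ZL
        rw [map_conj_mul, show ZL.map (MulAut.conj (n : G)).toMonoidHom = ZL from hn]
        exact hm
      inv_mem' := fun {n} hn => by
        have h1 : ZL.map (MulAut.conj ((n : G)⁻¹ * n)).toMonoidHom = ZL := by rw [inv_mul_cancel, map_conj_one]
        rw [map_conj_mul, show ZL.map (MulAut.conj (n : G)).toMonoidHom = ZL from hn] at h1
        exact h1 }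
  refine s.min.no_index_two s.hna (K := K) (Subgroup.index_eq_two_iff.2 ⟨⟨g, hg⟩, fun b => ?_⟩)
  have hbg : ZL.map (MulAut.conj ((b : G) * g)).toMonoidHom = ZM.map (MulAut.conj (b : G)).toMonoidHom := by
    rw [map_conj_mul, hgL']
  show Xor' (ZL.map (MulAut.conj ((b : G) * g)).toMonoidHom = ZL) (ZL.map (MulAut.conj (b : G)).toMonoidHom = ZL)
  rw [hbg]
  rcases (hmap b b.2).1 with hb | hb
  · exact Or.inr ⟨hb, fun e => hne ((hinj b) (hb.trans e.symm))⟩
  · refine Or.inl ⟨?_, fun e => hne (e.symm.trans hb)⟩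
    exact (hmap b b.2).2.resolve_right fun e => hne ((hinj b) (hb.trans e.symm))

/-- Two different members commute. -/
theorem Setup.commute {L M : Subgroup G} (hL : Member A L) (hM : Member A M) (hne : L ≠ M) :
    L ≤ centralizer (M : Set G) := by
  have hcommon : ∀ b ∈ A, b ≠ 1 → b ∈ centralizer (L : Set G) → b ∈ centralizer (M : Set G) →
      L ≤ centralizer (M : Set G) := by
    intro b hb hb1 hbL hbM
    obtain ⟨a, ha, ha1, hc⟩ := hL
    obtain ⟨a', ha', ha1', hc'⟩ := hM
    have h1 := s.transfer ha ha1 hb hb1 hc hbL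
    have h2 := s.transfer ha' ha1' hb hb1 hc' hbM
    intro x hx
    refine mem_centralizer_iff.2 fun w hw => ?_
    have hne' : L.subgroupOf (centralizer ({b} : Set G)) ≠ M.subgroupOf (centralizer ({b} : Set G)) := fun e =>
      hne (by rw [← Subgroup.map_subgroupOf_eq_of_le h1.1, e, Subgroup.map_subgroupOf_eq_of_le h2.1])
    exact congrArg Subtype.val (mem_centralizer_iff.1 (Grp.IsComponent.commute h1.2 h2.2 hne'
      (show (⟨x, h1.1 hx⟩ : ↥(centralizer ({b} : Set G))) ∈ L.subgroupOf _ from hx)) ⟨w, h2.1 hw⟩ hw)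
  have hwit : ∀ {L : Subgroup G}, Member A L → ∃ a ∈ A, a ≠ 1 ∧ a ∈ centralizer (L : Set G) := by
    rintro L ⟨a, ha, ha1, hc⟩
    exact ⟨a, ha, ha1, mem_centralizer_iff.2 fun w hw => mem_centralizer_singleton_iff.1 (hc.1 hw)⟩
  by_cases hLA : A ≤ centralizer (L : Set G)
  · obtain ⟨b, hb, hb1, hbM⟩ := hwit hM
    exact hcommon b hb hb1 (hLA hb) hbM
  by_cases hMA : A ≤ centralizer (M : Set G)
  · obtain ⟨b, hb, hb1, hbL⟩ := hwit hL
    exact hcommon b hb hb1 hbL (hMA hb)
  have hLa : Active A L := ⟨hL, hLA⟩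
  have hMa : Active A M := ⟨hM, hMA⟩
  obtain ⟨N, hN, hNL, hNM⟩ := s.exists_third hLa hMa
  have key : ∀ {P : Subgroup G}, Active A P → A ⊓ N ≠ A ⊓ P → A ⊓ N ≤ centralizer (P : Set G) := by
    intro P hP hne'
    rcases le_total (Nat.card ↥(A ⊓ N)) (Nat.card ↥(A ⊓ P)) with hle | hle
    · exact ((s.compare hP hN hle).resolve_left hne').1
    · exact ((s.compare hN hP hle).resolve_left (Ne.symm hne')).2
  obtain ⟨l, hl, hlN, hl1⟩ := s.active_exists hN
  exact hcommon l hl hl1 (key hLa hNL ⟨hl, hlN⟩) (key hMa hNM ⟨hl, hlN⟩)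

/-- There is a strongly embedded subgroup. -/
theorem Setup.stronglyEmbedded : ∃ H : Subgroup G, Cfsg.IsStronglyEmbedded H := by
  haveI : Fact (Nat.Prime 2) := ⟨Nat.prime_two⟩
  obtain ⟨P, hP⟩ := exists_sylow_ge s.min.elem
  refine S1174.result P A s.min.nt (s.min.closed P hP) ?_
  suffices h : ∃ M : Subgroup G, M ≠ ⊤ ∧ ∀ a ∈ A, a ≠ 1 → centralizer ({a} : Set G) ≤ M by
    obtain ⟨M, hM, hle⟩ := h
    refine fun e => hM (top_le_iff.1 (e.ge.trans (iSup_le fun t => ?_)))
    exact hle t t.2.1 fun e' => by have h2 := t.2.2; rw [e', orderOf_one] at h2; omega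
  by_cases hne : ∃ L, Member A L
  · obtain ⟨L, hL⟩ := hne
    set E : Subgroup G := sSup {M | Member A M}
    have hinv : ∀ n : G, (∀ M, Member A M → M.map (MulAut.conj n).toMonoidHom ≤ E) →
        (∀ M, Member A M → M.map (MulAut.conj n⁻¹).toMonoidHom ≤ E) → n ∈ normalizer (E : Set G) := by
      intro n h1 h2
      have h : ∀ m : G, (∀ M, Member A M → M.map (MulAut.conj m).toMonoidHom ≤ E) →
          ∀ x ∈ E, m * x * m⁻¹ ∈ E := fun m hm x hx => by
        have hle : E ≤ E.comap (MulAut.conj m).toMonoidHom :=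
          sSup_le fun M hM => Subgroup.map_le_iff_le_comap.1 (hm M hM)
        exact hle hx
      refine mem_normalizer_iff.2 fun x => ⟨h n h1 x, fun hx => ?_⟩
      simpa [mul_assoc] using h n⁻¹ h2 _ hx
    have hmemN : ∀ M, Member A M → M ≤ normalizer (E : Set G) := fun M hM x hx =>
      (le_trans (le_sSup (show M ∈ {M | Member A M} from hM)) Subgroup.le_normalizer) hx
    refine ⟨normalizer (E : Set G), fun e => ?_, fun a ha ha1 => s.factor ha ha1
      (fun M hM => hmemN M ⟨a, ha, ha1, hM⟩) (fun n hn => hinv n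
        (fun M hM => le_sSup (Member.conj hM hn.1)) (fun M hM => le_sSup (Member.conj hM (inv_mem hn.1))))⟩
    haveI hEn : E.Normal := Subgroup.normalizer_eq_top_iff.1 e
    obtain ⟨a, ha, ha1, hc⟩ := id hL
    have hLne : L ≠ ⊥ := fun e' => by
      have hq := isQuasisimple_of_componentOf hc
      haveI := Grp.IsQuasisimple.nontrivial hq
      obtain ⟨x, hx⟩ := exists_ne (1 : ↥L)
      exact hx (Subtype.ext (mem_bot.1 (e'.le x.2)))
    have hLnt : L ≠ ⊤ := fun e' => s.ne_top ha1 (top_le_iff.1 (e' ▸ hc.1))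
    rcases hEn.eq_bot_or_eq_top with hE | hE
    · exact hLne (le_bot_iff.1 (hE ▸ le_sSup (show L ∈ {M | Member A M} from hL)))
    · have hle : E ≤ normalizer (L : Set G) := sSup_le fun M hM => by
        by_cases e' : M = L
        · exact e' ▸ Subgroup.le_normalizer
        · exact (s.commute hM hL e').trans (Subgroup.centralizer_le_normalizer _)
      rw [hE, top_le_iff, Subgroup.normalizer_eq_top_iff] at hle
      rcases hle.eq_bot_or_eq_top with h | h
      · exact hLne h
      · exact hLnt h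
  · refine ⟨normalizer (A : Set G), s.min.normalizer_ne_top s.hna, fun a ha ha1 => s.factor ha ha1
      (fun L hL => absurd ⟨L, a, ha, ha1, hL⟩ hne) inf_le_left⟩

end Cfsg.Agent.Invol.ThreeFree
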