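import Cfsg.Agent.Lib.Invol.ThreeFree.Sections
import Cfsg.Agent.Lib.Invol.ThreeFree.Closed
import Cfsg.Agent.Lib.Grp.BalanceReduction
import Cfsg.Agent.Lib.Grp.Subnormal

/-!
# A strongly closed abelian 2-subgroup in a group with Suzuki components and trivial core

Every component is fixed and the subgroup splits over each component it does not centralise.
-/

set_option autoImplicit false
set_option linter.style.haveILetI false

open Subgroup

namespace Cfsg.Agent.Invol.ThreeFree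

universe u

variable {X : Type u} [Group X] [Finite X]

/-- The standing hypotheses on a local subgroup. -/
structure Loc (A : Subgroup X) : Prop where
  core : Cfsg.pPrimeCore 2 X = ⊥
  sz : ∀ K : Subgroup X, Cfsg.IsComponent K → Cfsg.Lie.IsoSuzuki (↥K ⧸ center ↥K)
  elem : Cfsg.IsElementaryAbelian 2 A
  closed : ∀ P : Sylow 2 X, A ≤ (P : Subgroup X) → Cfsg.IsStronglyClosed A (P : Subgroup X)

/-- The trace of a Sylow subgroup on a subnormal subgroup, as a Sylow subgroup. -/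
noncomputable def traceSylow (P : Sylow 2 X) {L : Subgroup X} (hL : L.IsSubnormal) : Sylow 2 ↥L :=
  haveI : Fact (Nat.Prime 2) := ⟨Nat.prime_two⟩
  (show IsPGroup 2 ↥((P : Subgroup X).subgroupOf L) from P.isPGroup'.comap_subtype).toSylow
    (Grp.not_dvd_relIndex_sylow P hL)

theorem mem_traceSylow (P : Sylow 2 X) {L : Subgroup X} (hL : L.IsSubnormal) {x : ↥L} :
    x ∈ (traceSylow P hL : Subgroup ↥L) ↔ (x : X) ∈ (P : Subgroup X) := Iff.rfl

variable {A : Subgroup X} (h : Loc A)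
include h

theorem Loc.conj_mem {P : Sylow 2 X} (hP : A ≤ (P : Subgroup X)) {a g : X} (ha : a ∈ A)
    (hg : g * a * g⁻¹ ∈ (P : Subgroup X)) : g * a * g⁻¹ ∈ A :=
  (h.closed P hP).2 a ha g hg

theorem Loc.center_le {P : Sylow 2 X} {L : Subgroup X} (hL : Cfsg.IsComponent L) {z : ↥L}
    (hz : z ∈ center ↥L) : (z : X) ∈ (P : Subgroup X) := by
  haveI : Fact (Nat.Prime 2) := ⟨Nat.prime_two⟩
  have h1 : (z : X) ∈ Cfsg.fittingSubgroup X := Grp.component_centralizer_inf_le_fitting hL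
    ⟨z.2, mem_centralizer_iff.2 fun l hl => congrArg Subtype.val (mem_center_iff.1 hz ⟨l, hl⟩)⟩
  rw [Grp.fitting_eq_pCore (p := 2) h.core] at h1
  exact Grp.pCore_le_sylow P h1

/-- The image of a Sylow trace in the simple quotient. -/
theorem Loc.image_sylow {P : Sylow 2 X} {L : Subgroup X} (hL : Cfsg.IsComponent L) :
    ∃ S : Sylow 2 (↥L ⧸ center ↥L), ∀ x : ↥L, (x : ↥L ⧸ center ↥L) ∈ (S : Subgroup (↥L ⧸ center ↥L)) ↔
      (x : X) ∈ (P : Subgroup X) := by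
  haveI : Fact (Nat.Prime 2) := ⟨Nat.prime_two⟩
  refine ⟨(traceSylow P hL.1).mapSurjective (f := QuotientGroup.mk' (center ↥L))
    (QuotientGroup.mk'_surjective _), fun x => ?_⟩
  rw [Sylow.coe_mapSurjective]
  constructor
  · rintro ⟨y, hy, hyx⟩
    obtain ⟨z, hz, rfl⟩ : ∃ z ∈ center ↥L, x = y * z :=
      ⟨y⁻¹ * x, (QuotientGroup.eq (s := center ↥L)).1 hyx, (mul_inv_cancel_left y x).symm⟩
    exact mul_mem ((mem_traceSylow P hL.1).1 hy) (h.center_le hL hz)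
  · exact fun hx => ⟨x, (mem_traceSylow P hL.1).2 hx, rfl⟩

theorem Loc.sylow_le_normalizer {P : Sylow 2 X} (hP : A ≤ (P : Subgroup X)) :
    (P : Subgroup X) ≤ normalizer (A : Set X) := fun s hs => mem_normalizer_iff.2 fun a =>
  ⟨fun ha => h.conj_mem hP ha (mul_mem (mul_mem hs (hP ha)) (inv_mem hs)), fun ha => by
    have h1 := h.conj_mem hP ha (g := s⁻¹) (mul_mem (mul_mem (inv_mem hs) (hP ha)) (inv_mem (inv_mem hs)))
    simpa [mul_assoc] using h1⟩

/-- The strongly closed subgroup fixes every component. -/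
theorem Loc.le_normalizer {L : Subgroup X} (hL : Cfsg.IsComponent L) : A ≤ normalizer (L : Set X) := by
  haveI : Fact (Nat.Prime 2) := ⟨Nat.prime_two⟩
  intro b hb
  obtain ⟨P, hP⟩ := exists_sylow_ge h.elem
  obtain ⟨S, hS⟩ := h.image_sylow (P := P) hL
  obtain ⟨s, hs, hs2⟩ := sz_exists_sq_ne (h.sz L hL) S
  obtain ⟨t, rfl⟩ := QuotientGroup.mk'_surjective (center ↥L) s
  have htP : (t : X) ∈ (P : Subgroup X) := (hS t).1 hs
  by_contra hbn
  have hb2 := sq_of_elem h.elem hb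
  set L' : Subgroup X := L.map (MulAut.conj b).toMonoidHom with hL'
  have hL'c : Cfsg.IsComponent L' := Grp.IsComponent.conj hL b
  have hne : L ≠ L' := fun e => hbn (mem_normalizer_iff.2 fun w => by
    constructor
    · intro hw
      have : b * w * b⁻¹ ∈ L' := ⟨w, hw, rfl⟩
      rwa [← e] at this
    · intro hw
      have : b * (b * w * b⁻¹) * b⁻¹ ∈ L' := ⟨_, hw, rfl⟩
      rwa [← e, show b * (b * w * b⁻¹) * b⁻¹ = b * b * w * (b * b)⁻¹ by group, hb2, one_mul, inv_one,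
        mul_one] at this)
  have hcomm := Grp.IsComponent.commute hL hL'c hne
  have hmem : b * (t : X) * b⁻¹ ∈ L' := ⟨t, t.2, rfl⟩
  have hc : Commute (t : X) (b * t * b⁻¹) := (mem_centralizer_iff.1 (hcomm t.2) _ hmem).symm
  have h1 : (t : X) * b⁻¹ * (t : X)⁻¹ ∈ A :=
    h.conj_mem hP (inv_mem hb) (mul_mem (mul_mem htP (inv_mem (hP hb))) (inv_mem htP))
  have h2 := sq_of_elem h.elem (mul_mem hb h1)
  have h3 : (b * t * b⁻¹) ^ 2 = (t : X) ^ 2 := by
    have e : b * ((t : X) * b⁻¹ * (t : X)⁻¹) = b * t * b⁻¹ * (t : X)⁻¹ := by group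
    rw [e, ← pow_two, (hc.symm.inv_right).mul_pow, inv_pow, mul_inv_eq_one] at h2
    exact h2
  have h4 : (t : X) ^ 2 ∈ L' := h3 ▸ pow_mem hmem 2
  refine hs2 ?_
  show ((t * t : ↥L) : ↥L ⧸ center ↥L) = 1
  rw [QuotientGroup.eq_one_iff, mem_center_iff]
  intro l
  refine Subtype.ext ?_
  show (l : X) * (t * t) = t * t * l
  rw [← pow_two]
  exact (mem_centralizer_iff.1 (hcomm l.2) _ h4).symm

/-- Every element induces on the simple quotient an inner involution or the identity from the Sylow subgroup. -/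
theorem Loc.inner_elt {L : Subgroup X} (hL : Cfsg.IsComponent L) (P : Sylow 2 X) (hP : A ≤ (P : Subgroup X))
    {b : X} (hb : b ∈ A) : ∃ c : ↥L, (c : X) ∈ (P : Subgroup X) ∧ c * c ∈ center ↥L ∧
      ∀ w : ↥L, ∀ hw : b * (w : X) * b⁻¹ ∈ L,
        ((⟨b * w * b⁻¹, hw⟩ : ↥L) : ↥L ⧸ center ↥L) = ((c * w * c⁻¹ : ↥L) : ↥L ⧸ center ↥L) := by
  haveI : Fact (Nat.Prime 2) := ⟨Nat.prime_two⟩
  have hsz := h.sz L hL
  have hAN := h.le_normalizer hL
  obtain ⟨S, hS⟩ := h.image_sylow (P := P) hL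
  set φ : MulAut ↥L := L.normalizerMonoidHom ⟨b, hAN hb⟩
  set ψ : MulAut (↥L ⧸ center ↥L) := QuotientGroup.congr _ _ φ (map_center_eq φ)
  have hψv : ∀ w : ↥L, ψ (w : ↥L ⧸ center ↥L) = ((φ w : ↥L) : ↥L ⧸ center ↥L) := fun w => rfl
  have hψ2 : ψ ^ (2 ^ 1) = 1 := by
    refine MulEquiv.ext fun q => ?_
    induction q using QuotientGroup.induction_on with
    | H w =>
      rw [pow_one, pow_two, MulAut.mul_apply, hψv, hψv, MulAut.one_apply]
      congr 1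
      refine Subtype.ext ?_
      show b * (b * w * b⁻¹) * b⁻¹ = (w : X)
      rw [show b * (b * (w : X) * b⁻¹) * b⁻¹ = b * b * w * (b * b)⁻¹ by group, sq_of_elem h.elem hb]
      group
  obtain ⟨c, hc⟩ := sz_inner hsz ψ hψ2
  obtain ⟨c', rfl⟩ := QuotientGroup.mk'_surjective (center ↥L) c
  have hψw : ∀ w : ↥L, ((φ w : ↥L) : ↥L ⧸ center ↥L) = ((c' * w * c'⁻¹ : ↥L) : ↥L ⧸ center ↥L) := fun w => by
    rw [← hψv, hc]; rfl
  have hZ : center (↥L ⧸ center ↥L) = ⊥ := by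
    haveI : IsSimpleGroup (↥L ⧸ center ↥L) := hL.2.2
    exact (inferInstance : (center (↥L ⧸ center ↥L)).Normal).eq_bot_or_eq_top.resolve_right fun e =>
      quotient_center_not_comm hL.2 ⟨⟨fun a b => mem_center_iff.1 (e ▸ mem_top b) a⟩⟩
  have hc2 : (c' : ↥L ⧸ center ↥L) * c' = 1 := by
    rw [← mem_bot, ← hZ, mem_center_iff]
    intro g
    have h1 : MulAut.conj ((c' : ↥L ⧸ center ↥L) * c') g = g := by
      rw [map_mul]
      have : MulAut.conj (c' : ↥L ⧸ center ↥L) = ψ := hc.symm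
      rw [this, ← pow_two]
      rw [pow_one] at hψ2
      rw [hψ2, MulAut.one_apply]
    rw [MulAut.conj_apply, mul_inv_eq_iff_eq_mul] at h1
    exact h1.symm
  have h1 : ∀ q ∈ (S : Subgroup (↥L ⧸ center ↥L)), (c' : ↥L ⧸ center ↥L) * q * (c' : ↥L ⧸ center ↥L)⁻¹ ∈
      (S : Subgroup (↥L ⧸ center ↥L)) := by
    intro q hq
    obtain ⟨w, rfl⟩ := QuotientGroup.mk'_surjective (center ↥L) q
    have h2 : ((φ w : ↥L) : X) ∈ (P : Subgroup X) := mul_mem (mul_mem (hP hb) ((hS w).1 hq)) (inv_mem (hP hb))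
    have h3 := (hS (φ w)).2 h2
    rw [hψw] at h3
    exact h3
  have hnorm : (c' : ↥L ⧸ center ↥L) ∈ normalizer ((S : Subgroup (↥L ⧸ center ↥L)) : Set (↥L ⧸ center ↥L)) := by
    refine mem_normalizer_iff.2 fun q => ⟨h1 q, fun hq => ?_⟩
    have h3 := h1 _ hq
    rwa [show (c' : ↥L ⧸ center ↥L) * ((c' : ↥L ⧸ center ↥L) * q * (c' : ↥L ⧸ center ↥L)⁻¹) *
      (c' : ↥L ⧸ center ↥L)⁻¹ = (c' : ↥L ⧸ center ↥L) * c' * q * ((c' : ↥L ⧸ center ↥L) * c')⁻¹ by group,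
      hc2, one_mul, inv_one, mul_one] at h3
  have hcS : (c' : ↥L ⧸ center ↥L) ∈ (S : Subgroup (↥L ⧸ center ↥L)) := by
    have hp : IsPGroup 2 (zpowers (c' : ↥L ⧸ center ↥L)) := fun ⟨x, hx⟩ => ⟨1, by
      obtain ⟨i, rfl⟩ := mem_zpowers_iff.1 hx
      refine Subtype.ext ?_
      show ((c' : ↥L ⧸ center ↥L) ^ i) ^ (2 ^ 1) = 1
      rw [pow_one, pow_two, ← (Commute.refl (c' : ↥L ⧸ center ↥L)).mul_zpow, hc2, one_zpow]⟩
    exact ((hp.inf_normalizer_sylow S).le ⟨mem_zpowers _, hnorm⟩).2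
  exact ⟨c', (hS c').1 hcS, by rwa [← QuotientGroup.eq_one_iff, QuotientGroup.mk_mul], fun w hw => hψw w⟩

/-- Over a component which it does not centralise the subgroup covers the involutions of the simple quotient
lying over the Sylow subgroup. -/
theorem Loc.cover {L : Subgroup X} (hL : Cfsg.IsComponent L) (hact : ¬ A ≤ centralizer (L : Set X))
    (P : Sylow 2 X) (hP : A ≤ (P : Subgroup X)) (x : ↥L) (hxP : (x : X) ∈ (P : Subgroup X))
    (hx2 : x * x ∈ center ↥L) : ∃ l : ↥L, (l : X) ∈ A ∧ x⁻¹ * l ∈ center ↥L := by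
  have hsz := h.sz L hL
  have hAN := h.le_normalizer hL
  obtain ⟨a, ha, hact'⟩ : ∃ a ∈ A, a ∉ centralizer (L : Set X) := by
    by_contra hcon
    push Not at hcon
    exact hact hcon
  obtain ⟨S, hS⟩ := h.image_sylow (P := P) hL
  obtain ⟨c, hcP, hc2, hcw⟩ := h.inner_elt hL P hP ha
  have hc1 : (c : ↥L ⧸ center ↥L) ≠ 1 := fun e => by
    refine hact' (mem_centralizer_iff.2 fun w hw => ?_)
    refine ((Grp.mulAut_ker_iff_centralizes hL (hAN ha)).2 (fun w => ?_) w hw).symm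
    have h1 := hcw w ((mem_normalizer_iff.1 (hAN ha) _).1 w.2)
    rw [QuotientGroup.mk_mul, QuotientGroup.mk_mul, QuotientGroup.mk_inv, e, one_mul, inv_one, mul_one] at h1
    rw [← QuotientGroup.eq_one_iff, QuotientGroup.mk_mul, QuotientGroup.mk_inv, mul_inv_eq_one]
    exact h1
  have hc2' : (c : ↥L ⧸ center ↥L) * c = 1 := by rw [← QuotientGroup.mk_mul, QuotientGroup.eq_one_iff]; exact hc2
  have hcS : (c : ↥L ⧸ center ↥L) ∈ (S : Subgroup (↥L ⧸ center ↥L)) := (hS c).2 hcP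
  -- the product of `c` and any of its conjugates is covered
  have hone : ∀ v ∈ (S : Subgroup (↥L ⧸ center ↥L)), v * v = 1 → v ≠ 1 →
      ∃ l : ↥L, (l : X) ∈ A ∧ (l : ↥L ⧸ center ↥L) = v * c := by
    intro v hv hv2 hv1
    obtain ⟨y, hy, hyc⟩ := sz_torus hsz S hcS hv hc2' hv2 hc1 hv1
    obtain ⟨g, rfl⟩ := QuotientGroup.mk'_surjective (center ↥L) y
    have hag : a * ((g⁻¹ : ↥L) : X) * a⁻¹ ∈ L := (mem_normalizer_iff.1 (hAN ha) _).1 (g⁻¹).2
    set l : ↥L := g * ⟨a * ((g⁻¹ : ↥L) : X) * a⁻¹, hag⟩ with hl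
    have hlQ : (l : ↥L ⧸ center ↥L) = v * c := by
      rw [hl, QuotientGroup.mk_mul, hcw g⁻¹ hag, QuotientGroup.mk_mul, QuotientGroup.mk_mul,
        QuotientGroup.mk_inv, QuotientGroup.mk_inv, ← hyc, inv_eq_of_mul_eq_one_right hc2']
      simp only [QuotientGroup.mk'_apply]
      group
    refine ⟨l, ?_, hlQ⟩
    have hlP : (l : X) ∈ (P : Subgroup X) := (hS l).1 (hlQ ▸ mul_mem hv hcS)
    have hlval : (l : X) = (g : X) * a * (g : X)⁻¹ * a⁻¹ := by
      show (g : X) * (a * (g : X)⁻¹ * a⁻¹) = _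
      group
    have h2 : (g : X) * a * (g : X)⁻¹ ∈ (P : Subgroup X) := by
      have := mul_mem hlP (hP ha)
      rwa [hlval, inv_mul_cancel_right] at this
    rw [hlval]
    exact mul_mem (h.conj_mem hP ha h2) (inv_mem ha)
  have hxS : (x : ↥L ⧸ center ↥L) ∈ (S : Subgroup (↥L ⧸ center ↥L)) := (hS x).2 hxP
  have hx2' : (x : ↥L ⧸ center ↥L) * x = 1 := by rw [← QuotientGroup.mk_mul, QuotientGroup.eq_one_iff]; exact hx2
  have fin : ∀ l : ↥L, (l : ↥L ⧸ center ↥L) = x → x⁻¹ * l ∈ center ↥L := fun l hl => (QuotientGroup.eq).1 hl.symm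
  by_cases hx1 : (x : ↥L ⧸ center ↥L) = 1
  · exact ⟨1, A.one_mem, fin 1 hx1.symm⟩
  by_cases hxc : (x : ↥L ⧸ center ↥L) = c
  · obtain ⟨w, hwS, hw2, hw1, hwc⟩ := sz_exists_third hsz S (c : ↥L ⧸ center ↥L)
    have hcc : w * (c : ↥L ⧸ center ↥L) = c * w := sz_omega_central hsz S hcS hc2' hwS
    obtain ⟨l₁, hl₁, e₁⟩ := hone w hwS hw2 hw1
    obtain ⟨l₂, hl₂, e₂⟩ := hone (w * c) (mul_mem hwS hcS) (by
      rw [mul_assoc, ← mul_assoc (c : ↥L ⧸ center ↥L), ← hcc, mul_assoc w (c : ↥L ⧸ center ↥L) (c : ↥L ⧸ center ↥L),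
        hc2', mul_one, hw2])
      (fun e => hwc (by rw [mul_eq_one_iff_eq_inv, inv_eq_of_mul_eq_one_right hc2'] at e; exact e))
    refine ⟨l₁ * l₂, A.mul_mem hl₁ hl₂, fin _ ?_⟩
    rw [QuotientGroup.mk_mul, e₁, e₂, hxc, mul_assoc w (c : ↥L ⧸ center ↥L) (c : ↥L ⧸ center ↥L), hc2',
      mul_one, hcc, mul_assoc, hw2, mul_one]
  · obtain ⟨l, hl, e⟩ := hone ((x : ↥L ⧸ center ↥L) * c) (mul_mem hxS hcS) (by
      rw [mul_assoc, ← mul_assoc (c : ↥L ⧸ center ↥L), ← (sz_omega_central hsz S hcS hc2' hxS),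
        mul_assoc (x : ↥L ⧸ center ↥L) (c : ↥L ⧸ center ↥L) (c : ↥L ⧸ center ↥L), hc2', mul_one, hx2'])
      (fun e => hxc (by rw [mul_eq_one_iff_eq_inv, inv_eq_of_mul_eq_one_right hc2'] at e; exact e))
    exact ⟨l, hl, fin _ (by rw [e, mul_assoc, hc2', mul_one])⟩

/-- Over a component which it does not centralise the subgroup splits. -/
theorem Loc.split {L : Subgroup X} (hL : Cfsg.IsComponent L) (hact : ¬ A ≤ centralizer (L : Set X))
    {b : X} (hb : b ∈ A) : ∃ l ∈ A, l ∈ L ∧ l⁻¹ * b ∈ centralizer (L : Set X) := by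
  obtain ⟨P, hP⟩ := exists_sylow_ge h.elem
  obtain ⟨c, hcP, hc2, hcw⟩ := h.inner_elt hL P hP hb
  obtain ⟨l, hl, hlc⟩ := h.cover hL hact P hP c hcP hc2
  refine ⟨l, hl, l.2, mem_centralizer_iff.2 fun w hw => ?_⟩
  have hAN := h.le_normalizer hL
  have hn : (l : X)⁻¹ * b ∈ normalizer (L : Set X) :=
    mul_mem (Subgroup.le_normalizer (L.inv_mem l.2)) (hAN hb)
  refine ((Grp.mulAut_ker_iff_centralizes hL hn).2 (fun w => ?_) w hw).symm
  have hw' : b * (w : X) * b⁻¹ ∈ L := (mem_normalizer_iff.1 (hAN hb) _).1 w.2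
  have hlc' : (l : ↥L ⧸ center ↥L) = c := ((QuotientGroup.eq).2 hlc).symm
  have e : (L.normalizerMonoidHom ⟨(l : X)⁻¹ * b, hn⟩) w = l⁻¹ * ⟨b * w * b⁻¹, hw'⟩ * l := Subtype.ext (by
    show (l : X)⁻¹ * b * w * ((l : X)⁻¹ * b)⁻¹ = (l : X)⁻¹ * (b * w * b⁻¹) * l
    group)
  rw [← QuotientGroup.eq_one_iff, QuotientGroup.mk_mul, QuotientGroup.mk_inv, e, QuotientGroup.mk_mul,
    QuotientGroup.mk_mul, QuotientGroup.mk_inv, hcw w hw', hlc', QuotientGroup.mk_mul, QuotientGroup.mk_mul,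
    QuotientGroup.mk_inv]
  group

end Cfsg.Agent.Invol.ThreeFree
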