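import Mathlib

/-!
# Actions on an elementary abelian 2-group with small commutators

An element `t` moving everything inside a subgroup of order at most four inverts no element of prime
order other than three and five, and with an element `s` of the same kind centralising the inverted
element there is none at all, apart from three.
-/

set_option autoImplicit false
set_option linter.style.haveILetI false

open Subgroup

namespace Cfsg.Agent.Invol.ThreeFree

universe u v

variable {X : Type u} {A : Type v} [Group X] [CommGroup A] [MulDistribMulAction X A]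

/-- The map `a ↦ (t • a) * a`. -/
def moveHom (hA : ∀ a : A, a * a = 1) (t : X) : A →* A :=
  MonoidHom.mk' (fun a => t • a * a) fun a b => by
    rw [smul_mul', mul_mul_mul_comm]

/-- The fixed subgroup of an element. -/
def fixSub (y : X) : Subgroup A where
  carrier := {a | y • a = a}
  one_mem' := smul_one y
  mul_mem' := fun {a b} ha hb => by
    show y • (a * b) = a * b
    rw [smul_mul', show y • a = a from ha, show y • b = b from hb]
  inv_mem' := fun {a} ha => by
    show y • a⁻¹ = a⁻¹
    rw [smul_inv', show y • a = a from ha]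

variable (hA : ∀ a : A, a * a = 1)

include hA in
theorem inv_eq_self_of_sq (a : A) : a⁻¹ = a := inv_eq_of_mul_eq_one_right (hA a)

theorem moveHom_apply (t : X) (a : A) : moveHom hA t a = t • a * a := rfl

theorem moveHom_eq_one {t : X} {a : A} : moveHom hA t a = 1 ↔ t • a = a := by
  rw [moveHom_apply, mul_eq_one_iff_eq_inv, inv_eq_self_of_sq hA]

theorem mem_fixSub {y : X} {a : A} : a ∈ fixSub y ↔ y • a = a := Iff.rfl

/-- Fixed modulo the fixed points means fixed. -/
theorem fixed_of_fixed_mod {y : X} {n : ℕ} (hn : Odd n) (hy : y ^ n = 1) {a : A}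
    (h : moveHom hA (y * y) a ∈ fixSub (A := A) y) : y • a = a := by
  have hd : (y * y) • moveHom hA (y * y) a = moveHom hA (y * y) a := by
    rw [mul_smul, mem_fixSub.1 h, mem_fixSub.1 h]
  set d := moveHom hA (y * y) a with hdd
  have hya : (y * y) • a = d * a := by rw [hdd, moveHom_apply, mul_assoc, hA, mul_one]
  have hpow : ∀ k : ℕ, (y * y) ^ k • a = d ^ k * a := by
    intro k
    induction k with
    | zero => simp
    | succ k ih =>
      rw [pow_succ', mul_smul, ih, smul_mul', smul_pow', hd, hya, ← mul_assoc, ← pow_succ]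
  have h1 : d = 1 := by
    have := hpow n
    rw [← pow_two, ← pow_mul, mul_comm, pow_mul, hy, one_pow, one_smul, right_eq_mul] at this
    obtain ⟨k, rfl⟩ := hn
    rwa [pow_succ, pow_mul, pow_two, hA, one_pow, one_mul] at this
  rw [h1, one_mul] at hya
  obtain ⟨k, rfl⟩ := hn
  have hk : ∀ j : ℕ, (y * y) ^ j • a = a := by
    intro j
    induction j with
    | zero => simp
    | succ j ih => rw [pow_succ', mul_smul, ih, hya]
  have h2 := hk (k + 1)
  rwa [← pow_two, ← pow_mul, show 2 * (k + 1) = (2 * k + 1) + 1 by ring, pow_succ, hy, one_mul] at h2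

variable [Finite A]

/-- The number of points moved by an element of prime order is divisible by it. -/
theorem dvd_card_sub_fix {p : ℕ} [hp : Fact p.Prime] {y : X} (hy : orderOf y = p) (H : Subgroup A)
    (hH : ∀ a ∈ H, y • a ∈ H) :
    Nat.card H ≡ Nat.card ↥(H ⊓ fixSub y) [MOD p] := by
  let Y : Subgroup X := zpowers y
  have hY : IsPGroup p Y := IsPGroup.of_card (n := 1) (by rw [Nat.card_zpowers, hy, pow_one])
  haveI : Finite Y := Nat.finite_of_card_ne_zero (by
    show Nat.card ↥(zpowers y) ≠ 0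
    rw [Nat.card_zpowers, hy]; exact hp.out.ne_zero)
  have hmem : ∀ g ∈ Y, ∀ a ∈ H, g • a ∈ H := by
    intro g hg a ha
    have hfo : IsOfFinOrder y := orderOf_pos_iff.1 (hy ▸ hp.out.pos)
    obtain ⟨k, rfl⟩ := Submonoid.mem_powers_iff _ _ |>.1 ((hfo.mem_powers_iff_mem_zpowers).2 hg)
    clear hg
    induction k with
    | zero => simpa using ha
    | succ k ih => rw [pow_succ', mul_smul]; exact hH _ ih
  letI : MulAction Y H :=
    { smul := fun g a => ⟨(g : X) • (a : A), hmem _ g.2 _ a.2⟩
      one_smul := fun a => Subtype.ext (one_smul X (a : A))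
      mul_smul := fun g g' a => Subtype.ext (mul_smul (g : X) g' (a : A)) }
  have h := hY.card_modEq_card_fixedPoints H
  suffices e : Nat.card (MulAction.fixedPoints Y H) = Nat.card ↥(H ⊓ fixSub y) by rwa [e] at h
  refine Nat.card_congr
    { toFun := fun a => ⟨(a.1 : A), a.1.2, congrArg Subtype.val (a.2 ⟨y, mem_zpowers y⟩)⟩
      invFun := fun a => ⟨⟨a.1, a.2.1⟩, fun g => Subtype.ext ?_⟩
      left_inv := fun a => rfl
      right_inv := fun a => rfl }
  show (g : X) • (a : A) = a
  exact zpowers_le.2 (show y ∈ MulAction.stabilizer X (a : A) from a.2.2) g.2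

variable {t y : X} {p : ℕ} [hp : Fact p.Prime] (hpo : p ≠ 2) (hp3 : p ≠ 3) (hy : orderOf y = p)
  (ht : t * t = 1) (hty : t * y * t⁻¹ = y⁻¹) (Z : Subgroup A) (hZ : Nat.card Z ≤ 4) (htZ : ∀ a, t • a * a ∈ Z)
  (hyA : ∃ a : A, y • a ≠ a)
include hA hpo hp3 hy ht hty hZ htZ hyA

/-- The inverted element has order five, fixes exactly a subgroup of index sixteen and no non-trivial commutator. -/
theorem inverted_fix : p = 5 ∧ (∀ a, t • a * a ∈ fixSub (A := A) y → t • a = a) ∧
    ∀ z ∈ Z, ∃ a, t • a * a = z := by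
  have hodd : Odd p := hp.out.odd_of_ne_two hpo
  have hyn : y ^ p = 1 := hy ▸ pow_orderOf_eq_one y
  set f : A →* A := moveHom hA t
  set K : Subgroup A := fixSub y
  set W : Subgroup A := K.comap f with hW
  -- the fixed points modulo `K` of `t` and of its conjugate meet in `K`
  have hconj : t * (y * t * y⁻¹) = y⁻¹ * y⁻¹ := by
    rw [show t * (y * t * y⁻¹) = t * y * t⁻¹ * (t * t) * y⁻¹ by group, ht, hty, mul_one]
  have hKinv : ∀ g : X, (g * y * g⁻¹ = y ∨ g * y * g⁻¹ = y⁻¹) → ∀ a ∈ K, g • a ∈ K := by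
    intro g hg a ha
    have h0 : (g * y * g⁻¹) • g • a = g • a := by
      rw [← mul_smul, inv_mul_cancel_right, mul_smul, mem_fixSub.1 ha]
    rcases hg with e | e <;> rw [e] at h0
    · exact h0
    · exact inv_smul_eq_iff.1 h0 |>.symm
  have hKy : ∀ a ∈ K, y • a ∈ K := fun a ha => by rw [mem_fixSub.1 ha]; exact ha
  let Y : A ≃* A := MulDistribMulAction.toMulEquiv A y
  have hmeet : W ⊓ W.map Y.toMonoidHom ≤ K := by
    rintro a ⟨ha, b, hb, rfl⟩
    have hYb : Y.toMonoidHom b = y • b := rfl
    rw [hYb] at ha ⊢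
    set a := y • b
    have h1 : moveHom hA t a ∈ K := ha
    have h2 : moveHom hA (y * t * y⁻¹) a ∈ K := by
      rw [moveHom_apply, mul_smul, mul_smul, inv_smul_smul, ← smul_mul']
      exact hKy _ hb
    have h4 : moveHom hA (y * y) a ∈ K := by
      have h5 : moveHom hA (t * (y * t * y⁻¹)) a ∈ K := by
        rw [moveHom_apply, mul_smul, show (y * t * y⁻¹) • a = moveHom hA (y * t * y⁻¹) a * a by
          rw [moveHom_apply, mul_assoc ((y * t * y⁻¹) • a), hA, mul_one], smul_mul', mul_assoc]
        exact mul_mem (hKinv t (Or.inr hty) _ h2) h1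
      rw [hconj, moveHom_apply] at h5
      have h8 := hKy _ (hKy _ h5)
      rwa [smul_mul', smul_mul', ← mul_smul, ← mul_smul, ← mul_smul y y, ← mul_assoc,
        show y * y * y⁻¹ * y⁻¹ = 1 by group, one_smul, mul_comm] at h8
    exact fixed_of_fixed_mod hA hodd hyn h4
  have hKW : K ≤ W := fun a ha => mul_mem (hKinv t (Or.inr hty) _ ha) ha
  have hWy : (W.map Y.toMonoidHom).index = W.index := Subgroup.index_map_equiv W Y
  have h1 : K.index ≤ W.index * W.index := by
    refine (Nat.le_of_dvd ?_ (Subgroup.index_dvd_of_le hmeet)).trans ?_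
    · exact Nat.pos_of_ne_zero Subgroup.index_ne_zero_of_finite
    · exact Subgroup.index_inf_le.trans (le_of_eq (by rw [hWy]))
  -- the commutators embed `A / W` in `W / K`
  have hrange : f.range ≤ Z := by rintro _ ⟨a, rfl⟩; exact htZ a
  have hWidx : W.index * Nat.card ↥(K ⊓ f.range) = Nat.card f.range := by
    rw [hW, Subgroup.index_comap, ← Subgroup.inf_relIndex_right, ← Subgroup.relIndex_bot_left,
      ← Subgroup.relIndex_bot_left, mul_comm]
    exact Subgroup.relIndex_mul_relIndex _ _ _ bot_le inf_le_right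
  have hW4 : W.index ≤ 4 := by
    have h0 : Nat.card f.range ≤ 4 := le_trans (Subgroup.card_le_of_le hrange) hZ
    have : 1 ≤ Nat.card ↥(K ⊓ f.range) := Nat.card_pos
    nlinarith
  have hK16 : K.index ≤ 16 := h1.trans (by nlinarith)
  -- the index of `K` is a power of two, `p` divides it less one
  have hAp : IsPGroup 2 A := fun a => ⟨1, by rw [pow_one, pow_two, hA]⟩
  haveI : Fact (Nat.Prime 2) := ⟨Nat.prime_two⟩
  obtain ⟨d, hd⟩ := hAp.index K
  have hmod : Nat.card ↥(⊤ : Subgroup A) ≡ Nat.card ↥((⊤ : Subgroup A) ⊓ fixSub y) [MOD p] :=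
    dvd_card_sub_fix (hp := hp) hy ⊤ fun a _ => mem_top _
  rw [top_inf_eq, card_top, ← K.index_mul_card] at hmod
  have hd1 : 2 ^ d ≡ 1 [MOD p] := by
    have hcop : Nat.Coprime p (Nat.card K) := by
      obtain ⟨k, hk⟩ := IsPGroup.iff_card.1 (hAp.to_subgroup K)
      rw [hk]
      exact (Nat.Coprime.pow_right k ((Nat.coprime_primes hp.out Nat.prime_two).2 hpo))
    rw [← hd]
    refine Nat.ModEq.cancel_right_of_coprime (c := Nat.card K) ?_ (by rw [one_mul]; exact hmod)
    exact hcop
  have hd0 : d ≠ 0 := by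
    rintro rfl
    obtain ⟨a, ha⟩ := hyA
    rw [pow_zero, Subgroup.index_eq_one] at hd
    exact ha (mem_fixSub.1 (show a ∈ K from hd ▸ mem_top a))
  have hd4 : d ≤ 4 := by
    by_contra hlt
    have : 2 ^ 5 ≤ 2 ^ d := Nat.pow_le_pow_right two_pos (by omega)
    rw [← hd] at this
    omega
  -- fixed points modulo `K` contain the commutators
  have hle : W.index * W.index ≤ K.index := by
    have hsub : f.range ≤ W := by
      rintro _ ⟨a, rfl⟩
      show moveHom hA t (moveHom hA t a) ∈ K
      rw [show moveHom hA t (moveHom hA t a) = 1 from ?_]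
      · exact one_mem _
      rw [moveHom_eq_one, moveHom_apply, smul_mul', ← mul_smul, ht, one_smul, mul_comm]
    have h11 : W.index ≤ K.relIndex W := by
      have h12 : Nat.card ↥(K ⊓ f.range) * K.relIndex f.range = Nat.card f.range := by
        rw [← Subgroup.inf_relIndex_right, ← Subgroup.relIndex_bot_left, ← Subgroup.relIndex_bot_left]
        exact Subgroup.relIndex_mul_relIndex _ _ _ bot_le inf_le_right
      have h13 : K.relIndex f.range = W.index := by
        refine Nat.eq_of_mul_eq_mul_left (Nat.card_pos (α := ↥(K ⊓ f.range))) ?_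
        rw [h12, ← hWidx, mul_comm]
      rw [← h13]
      exact Subgroup.relIndex_le_of_le_right hsub Subgroup.index_ne_zero_of_finite
    calc W.index * W.index ≤ K.relIndex W * W.index := Nat.mul_le_mul_right _ h11
      _ = K.index := Subgroup.relIndex_mul_index hKW
  have heq : K.index = W.index * W.index := le_antisymm h1 hle
  have hp1 : ∀ k, 2 ^ k ≡ 1 [MOD p] → k ≤ 4 → k ≠ 0 → (k = 2 ∧ p = 3) ∨ k = 3 ∨ (k = 4 ∧ p = 5) := by
    intro k hk hk4 hk0
    have hdvd : p ∣ 2 ^ k - 1 := (Nat.modEq_iff_dvd' Nat.one_le_two_pow).1 hk.symm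
    have hle' := Nat.le_of_dvd (Nat.sub_pos_of_lt (Nat.one_lt_two_pow hk0)) hdvd
    interval_cases k
    · exact absurd rfl hk0
    · exact absurd (Nat.dvd_one.1 hdvd) hp.out.ne_one
    · exact Or.inl ⟨rfl, ((Nat.prime_dvd_prime_iff_eq hp.out Nat.prime_three).1 hdvd)⟩
    · exact Or.inr (Or.inl rfl)
    · refine Or.inr (Or.inr ⟨rfl, ?_⟩)
      have h15 : p ∣ 3 * 5 := hdvd
      rcases (Nat.Prime.dvd_mul hp.out).1 h15 with h | h
      · exact absurd ((Nat.prime_dvd_prime_iff_eq hp.out Nat.prime_three).1 h) hp3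
      · exact (Nat.prime_dvd_prime_iff_eq hp.out (by norm_num)).1 h
  have hK2 : K.index = 2 ^ d := hd
  obtain ⟨-, rfl⟩ | rfl | ⟨rfl, h5⟩ := hp1 d hd1 hd4 hd0
  · exact absurd rfl hp3
  · exfalso
    have : W.index * W.index = 8 := by rw [← heq, hK2]; norm_num
    have h3 : W.index < 3 := by nlinarith
    interval_cases W.index <;> omega
  have hW' : W.index = 4 := by
    have : W.index * W.index = 16 := by rw [← heq, hK2]; norm_num
    exact Nat.mul_self_inj.1 (this.trans (by norm_num : 16 = 4 * 4))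
  have h0 : Nat.card f.range ≤ 4 := le_trans (Subgroup.card_le_of_le hrange) hZ
  have hbot : K ⊓ f.range = ⊥ := Subgroup.eq_bot_of_card_eq _ (by
    have h14 : 1 ≤ Nat.card ↥(K ⊓ f.range) := Nat.card_pos
    rw [hW'] at hWidx
    omega)
  refine ⟨h5, fun a ha => ?_, fun z hz => ?_⟩
  · refine (moveHom_eq_one hA).1 ?_
    rw [← Subgroup.mem_bot, ← hbot]
    exact ⟨ha, a, rfl⟩
  · have he : f.range = Z := Subgroup.eq_of_le_of_card_ge hrange (by
      rw [← hWidx, hbot, Subgroup.card_bot, mul_one, hW']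
      exact hZ)
    rw [← he] at hz
    exact hz

/-- Nothing moving everything inside `Z` centralises the inverted element, unless it acts trivially. -/
theorem eq_of_commute {s : X} (hsy : s * y = y * s) (hsZ : ∀ a, s • a * a ∈ Z) (a : A) : s • a = a := by
  obtain ⟨h5, hfix, hsurj⟩ := inverted_fix hA hpo hp3 hy ht hty Z hZ htZ hyA
  set g : A →* A := moveHom hA s
  have hgy : ∀ b ∈ g.range, y • b ∈ g.range := by
    rintro _ ⟨b, rfl⟩
    refine ⟨y • b, ?_⟩
    simp only [g, moveHom_apply, smul_mul', ← mul_smul, hsy]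
  have hmod := dvd_card_sub_fix (hp := hp) hy g.range hgy
  have hgle : g.range ≤ Z := by rintro _ ⟨b, rfl⟩; exact hsZ b
  have h4 : Nat.card g.range ≤ 4 := le_trans (Subgroup.card_le_of_le hgle) hZ
  have h5' : g.range ⊓ fixSub y = g.range := by
    refine Subgroup.eq_of_le_of_card_ge inf_le_left ?_
    have h6 : Nat.card ↥(g.range ⊓ fixSub y) ≤ Nat.card g.range := Subgroup.card_le_of_le inf_le_left
    have h7 : Nat.card g.range % p = Nat.card ↥(g.range ⊓ fixSub y) % p := hmod
    rw [h5, Nat.mod_eq_of_lt (by omega), Nat.mod_eq_of_lt (by omega)] at h7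
    omega
  have hga : g a ∈ g.range ⊓ fixSub y := h5'.symm ▸ ⟨a, rfl⟩
  obtain ⟨b, hb⟩ := hsurj (g a) (hgle ⟨a, rfl⟩)
  have hb1 : t • b = b := hfix b (hb ▸ hga.2)
  refine (moveHom_eq_one hA).1 ?_
  show g a = 1
  rw [← hb, hb1, hA]

end Cfsg.Agent.Invol.ThreeFree
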