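import Cfsg.Agent.Lib.Invol.ThreeFree.SzFrame
import Cfsg.Agent.Lib.Grp.Components
import Cfsg.Prelude.Def_Balance
import Cfsg.Agent.Lib.Grp.Cores

/-!
# Suzuki sections and local balance
-/

set_option autoImplicit false
set_option linter.style.haveILetI false

open Subgroup
open scoped commutatorElement

namespace Cfsg.Agent.Invol.ThreeFree

universe u

/-- The non-abelian simple sections of smaller order are Suzuki groups. -/
def SubSz (G : Type u) [Group G] : Prop :=
  ∀ (H : Subgroup G) (N : Subgroup ↥H) [N.Normal], IsSimpleGroup (↥H ⧸ N) → ¬ IsMulCommutative (↥H ⧸ N) →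
    Nat.card (↥H ⧸ N) < Nat.card G → Cfsg.Lie.IsoSuzuki (↥H ⧸ N)

theorem isoSuzuki_congr' {L : Type*} [Group L] {M : Type*} [Group M] (h : Cfsg.Lie.IsoSuzuki M)
    (e : L ≃* M) : Cfsg.Lie.IsoSuzuki L := by
  obtain ⟨F, i1, i2, m, hm, hF, ⟨e'⟩⟩ := h
  exact ⟨F, i1, i2, m, hm, hF, ⟨e.trans e'⟩⟩

theorem quotient_center_not_comm {K : Type*} [Group K] (hK : Cfsg.IsQuasisimple K) :
    ¬ IsMulCommutative (K ⧸ center K) := by
  intro hc
  refine Grp.IsQuasisimple.center_ne_top hK (top_le_iff.1 ?_)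
  calc (⊤ : Subgroup K) = commutator K := hK.1.commutator_eq_top.symm
    _ ≤ center K := by
      rw [_root_.commutator_def, Subgroup.commutator_le]
      intro a _ b _
      rw [← QuotientGroup.eq_one_iff]
      show ((⁅a, b⁆ : K) : K ⧸ center K) = 1
      rw [← QuotientGroup.mk'_apply, map_commutatorElement, commutatorElement_eq_one_iff_mul_comm]
      exact hc.is_comm.comm _ _

theorem map_center_eq {K M : Type*} [Group K] [Group M] (e : K ≃* M) :
    (center K).map e.toMonoidHom = center M := by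
  ext x
  obtain ⟨x, rfl⟩ := e.surjective x
  refine (Subgroup.mem_map_iff_mem (f := e.toMonoidHom) e.injective).trans ?_
  simp only [mem_center_iff]
  exact ⟨fun h g => e.symm.injective (by simpa using h (e.symm g)), fun h g => e.injective (by simpa using h (e g))⟩

variable {G : Type u} [Group G] [Finite G] (hsub : SubSz G)
include hsub

/-- Components of quotients of proper subgroups are covers of Suzuki groups. -/
theorem component_sz {H : Subgroup G} (hH : H ≠ ⊤) {Q : Type u} [Group Q] (f : ↥H →* Q)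
    (hf : Function.Surjective f) {K : Subgroup Q} (hK : Cfsg.IsQuasisimple ↥K) :
    Cfsg.Lie.IsoSuzuki (↥K ⧸ center ↥K) := by
  set H' : Subgroup G := (K.comap f).map H.subtype with hH'
  let e : ↥(K.comap f) ≃* ↥H' := (K.comap f).equivMapOfInjective H.subtype H.subtype_injective
  let g : ↥H' →* (↥K ⧸ center ↥K) :=
    ((QuotientGroup.mk' (center ↥K)).comp (f.subgroupComap K)).comp e.symm.toMonoidHom
  have hgs : Function.Surjective g := by
    refine ((QuotientGroup.mk'_surjective _).comp ?_).comp e.symm.surjective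
    exact MonoidHom.subgroupComap_surjective_of_surjective f K hf
  let e' : ↥H' ⧸ g.ker ≃* (↥K ⧸ center ↥K) := QuotientGroup.quotientKerEquivOfSurjective g hgs
  haveI : IsSimpleGroup (↥K ⧸ center ↥K) := hK.2
  haveI : Nontrivial (↥H' ⧸ g.ker) := e'.toEquiv.nontrivial
  haveI : IsSimpleGroup (↥H' ⧸ g.ker) := IsSimpleGroup.isSimpleGroup_of_surjective e'.symm.toMonoidHom e'.symm.surjective
  refine isoSuzuki_congr' (hsub H' g.ker inferInstance (fun hc => quotient_center_not_comm hK ?_) ?_) e'.symm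
  · exact ⟨⟨fun a b => e'.symm.injective (by rw [map_mul, map_mul]; exact hc.is_comm.comm _ _)⟩⟩
  · calc Nat.card (↥H' ⧸ g.ker) ≤ Nat.card ↥H' := Nat.card_le_card_of_surjective _ (QuotientGroup.mk'_surjective g.ker)
      _ ≤ Nat.card ↥H := Subgroup.card_le_of_le (Subgroup.map_subtype_le _)
      _ < Nat.card G := by
        rw [← Subgroup.card_top (G := G)]
        exact lt_of_le_of_ne (Subgroup.card_le_of_le le_top) fun e => hH (Subgroup.eq_top_of_card_eq H (by
          rw [e, Subgroup.card_top]))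

/-- The components of a proper subgroup. -/
theorem componentOf_sz {H : Subgroup G} (hH : H ≠ ⊤) {L : Subgroup G} (hLH : L ≤ H)
    (hL : Cfsg.IsQuasisimple ↥L) : Cfsg.Lie.IsoSuzuki (↥L ⧸ center ↥L) := by
  have hQ : Cfsg.IsQuasisimple ↥(L.subgroupOf H) := (Grp.isQuasisimple_congr (subgroupOfEquivOfLe hLH)).2 hL
  refine isoSuzuki_congr' (component_sz hsub hH (MonoidHom.id ↥H) Function.surjective_id hQ) ?_
  exact QuotientGroup.congr _ _ (subgroupOfEquivOfLe hLH).symm
    (map_center_eq (subgroupOfEquivOfLe hLH).symm)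

omit hsub

/-- A Suzuki group is locally balanced. -/
theorem sz_locally_balanced {B : Type u} [Group B] [Finite B] (hB : Cfsg.Lie.IsoSuzuki B) :
    Cfsg.IsLocallyKBalanced 2 1 B := by
  classical
  intro H hH A hA hcard
  haveI : Fact (Nat.Prime 2) := ⟨Nat.prime_two⟩
  obtain ⟨⟨a, haA⟩, ha⟩ := exists_prime_orderOf_dvd_card' (G := ↥A) 2 (by rw [hcard, pow_one])
  obtain ⟨hasq, hne⟩ := orderOf_eq_prime_iff.1 ha
  have ha1 : a ≠ 1 := fun e => hne (Subtype.ext e)
  have ha2 : (a : ↥H) * a = 1 := by rw [← pow_two]; exact congrArg Subtype.val hasq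
  refine (eq_bot_iff_forall _).2 fun y hy => ?_
  obtain ⟨w, hw, rfl⟩ := (mem_iInf.1 hy ⟨a, haA, ha1⟩ : y ∈ Cfsg.centralizerPPrimeCore 2 a)
  obtain ⟨b, hb⟩ := sz_inner hB (a : MulAut B) (k := 1) (by
    rw [pow_one, pow_two]; exact congrArg Subtype.val ha2)
  have hcen : center B = ⊥ := by
    haveI hs : IsSimpleGroup B := by
      obtain ⟨F, i1, i2, m, hm, hF, ⟨e⟩⟩ := hB
      have hS : Suz.SzField F m := ⟨hm, hF⟩
      haveI := Suz.isSimple hS
      let e' : ↥(Cfsg.Sz F m) ≃* B := (Suz.szEquiv hS).trans e.symm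
      haveI : Nontrivial B := e'.symm.toEquiv.nontrivial
      exact IsSimpleGroup.isSimpleGroup_of_surjective e'.toMonoidHom e'.surjective
    refine (inferInstance : (center B).Normal).eq_bot_or_eq_top.resolve_right fun h => ?_
    obtain ⟨x, hx, hx2⟩ := sz_exists_sq_ne hB (default : Sylow 2 B)
    obtain ⟨z, hz, hz2⟩ := sz_exists_omega hB (default : Sylow 2 B)
    obtain ⟨p, v, hp, h7, hv, -⟩ := sz_inverts hB hz2.1 hz2.2
    obtain ⟨k, hk⟩ := (default : Sylow 2 B).isPGroup' ⟨v, sz_centralizer hB _ hz hz2.2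
      (mem_center_iff.1 (h ▸ mem_top z) v)⟩
    have h2k : p ∣ 2 ^ k := hv ▸ orderOf_dvd_of_pow_eq_one (by simpa using congrArg Subtype.val hk)
    have := (Nat.prime_dvd_prime_iff_eq hp Nat.prime_two).1 (hp.dvd_of_dvd_pow h2k)
    omega
  have hconj : Function.Injective (MulAut.conj : B →* MulAut B) := (injective_iff_map_eq_one _).2 fun g hg => by
    rw [← mem_bot, ← hcen, mem_center_iff]
    intro x
    have := DFunLike.congr_fun hg x
    rw [MulAut.conj_apply, MulAut.one_apply, mul_inv_eq_iff_eq_mul] at this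
    exact this.symm
  have hb2 : b * b = 1 := hconj (by rw [map_mul, ← hb, map_one]; exact congrArg Subtype.val ha2)
  have hb1 : b ≠ 1 := fun e => ha1 (Subtype.ext (hb.trans (by rw [e, map_one]; rfl)))
  obtain ⟨P, hbP⟩ : ∃ P : Sylow 2 B, b ∈ (P : Subgroup B) := by
    obtain ⟨P, hle⟩ := (IsPGroup.of_card (n := 1) (by
      rw [Nat.card_zpowers, pow_one]; exact orderOf_eq_prime (by rw [pow_two, hb2]) hb1) :
      IsPGroup 2 (zpowers b)).exists_le_sylow
    exact ⟨P, hle (mem_zpowers b)⟩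
  have hyb : (w : ↥H) * a = a * w := mem_centralizer_singleton_iff.1 w.2
  set y : MulAut B := ((w : ↥H) : MulAut B) with hy'
  have hodd : Odd (orderOf y) := by
    have h1 : orderOf w ∣ Nat.card ↥(Cfsg.pPrimeCore 2 ↥(centralizer ({a} : Set ↥H))) :=
      Subgroup.orderOf_dvd_natCard _ hw
    have h2 : (orderOf w).Coprime 2 := (Grp.pPrimeCore_coprime).coprime_dvd_left h1
    rw [hy', Subgroup.orderOf_coe, Subgroup.orderOf_coe]
    exact Nat.coprime_two_right.1 h2
  have hyfix : y b = b := by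
    refine hconj (MulEquiv.ext fun x => ?_)
    have h1 := DFunLike.congr_fun (congrArg Subtype.val hyb) (y⁻¹ x)
    simp only [Subgroup.coe_mul, MulAut.mul_apply, ← hy', hb, MulAut.apply_inv_self, MulAut.conj_apply,
      map_mul, map_inv] at h1 ⊢
    exact h1
  suffices hfix : ∀ s ∈ (P : Subgroup B), y s = s by
    have h1 := sz_aut_fix hB P y hfix hodd
    exact Subtype.ext h1
  intro s hs
  let σ : ↥(centralizer ({a} : Set ↥H)) := ⟨⟨MulAut.conj s, hH ⟨s, rfl⟩⟩, mem_centralizer_singleton_iff.2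
    (Subtype.ext (by
      show MulAut.conj s * (a : MulAut B) = (a : MulAut B) * MulAut.conj s
      rw [hb, ← map_mul, ← map_mul, sz_omega_central hB P hbP hb2 hs]))⟩
  haveI : (Cfsg.pPrimeCore 2 ↥(centralizer ({a} : Set ↥H))).Normal := Grp.pPrimeCore_isNormal
  set v := w * σ * w⁻¹ * σ⁻¹ with hv
  have hvO : v ∈ Cfsg.pPrimeCore 2 ↥(centralizer ({a} : Set ↥H)) := by
    rw [hv, show w * σ * w⁻¹ * σ⁻¹ = w * (σ * w⁻¹ * σ⁻¹) by group]
    exact mul_mem hw (Subgroup.Normal.conj_mem inferInstance _ (inv_mem hw) σ)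
  have hvi : ((v : ↥H) : MulAut B) = MulAut.conj (y s * s⁻¹) := by
    refine MulEquiv.ext fun x => ?_
    simp only [hv, Subgroup.coe_mul, Subgroup.coe_inv, MulAut.mul_apply, ← hy', σ, MulAut.conj_apply,
      map_mul, map_inv, MulAut.inv_def]
    rw [MulAut.conj_symm_apply]
    simp only [map_mul, map_inv, MulEquiv.apply_symm_apply]
  have hmem : y s * s⁻¹ ∈ (P : Subgroup B) := by
    refine sz_centralizer hB P hbP hb1 ?_
    have h1 : y s * b = b * y s := by
      rw [← hyfix, ← map_mul, ← map_mul, sz_omega_central hB P hbP hb2 hs]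
    have h2 : s⁻¹ * b = b * s⁻¹ := sz_omega_central hB P hbP hb2 (inv_mem hs)
    rw [mul_assoc, h2, ← mul_assoc, h1, mul_assoc]
  obtain ⟨k, hk⟩ := P.isPGroup' ⟨_, hmem⟩
  have hk' : (y s * s⁻¹) ^ 2 ^ k = 1 := congrArg Subtype.val hk
  have hv1 : v = 1 := by
    refine orderOf_eq_one_iff.1 (Nat.eq_one_of_dvd_coprimes ((Grp.pPrimeCore_coprime (p := 2)).pow_right k)
      (Subgroup.orderOf_dvd_natCard _ hvO) (orderOf_dvd_of_pow_eq_one ?_))
    refine Subtype.ext (Subtype.ext ?_)
    show ((v : ↥H) : MulAut B) ^ 2 ^ k = 1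
    rw [hvi, ← map_pow, hk', map_one]
  have h1 : y s * s⁻¹ = 1 := hconj (by rw [← hvi, hv1, map_one]; rfl)
  exact mul_inv_eq_one.1 h1

end Cfsg.Agent.Invol.ThreeFree
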