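import Mathlib
import Cfsg.Agent.Lib.Lie.Sz.Out
import Cfsg.Agent.Lib.Lie.Sz.LieEquiv
import Cfsg.Agent.Lib.Lie.Sz.Sylow
import Cfsg.Agent.Lib.Lie.Sz.Classes

/-!
# The Suzuki groups around a Sylow 2-subgroup

What the proof that simple groups of order prime to three are Suzuki groups uses about the model.
-/

set_option autoImplicit false
set_option linter.style.haveILetI false

open Subgroup

namespace Cfsg.Agent.Invol.ThreeFree

open Cfsg.Agent.Suz

universe u v

variable {F : Type u} [Field F] [Fintype F] {m : ℕ} (hS : SzField F m)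

set_option quotPrecheck false in
local notation "SZ" => ↥(Cfsg.Sz F m)

theorem uS_sq_eq_one {a b : F} (h : uS hS a b * uS hS a b = 1) : a = 0 := by
  rw [← pow_two, uS_sq, ← uS_zero hS] at h
  have h' := (uS_injective hS h).2
  rcases mul_eq_zero.1 h' with h | h
  · exact (th_eq_zero (m := m)).1 h
  · exact h

theorem uS_central (b : F) {g : SZ} (hg : g ∈ unip hS) : g * uS hS 0 b = uS hS 0 b * g := by
  obtain ⟨c, d, rfl⟩ := (mem_unip hS).1 hg
  rw [uS_mul, uS_mul, mul_zero, th_zero, zero_mul, add_zero, add_zero, add_zero, zero_add, add_comm]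

theorem mem_omega_iff {x : SZ} (hx : x ∈ unip hS) : x * x = 1 ↔ ∃ b, x = uS hS 0 b := by
  constructor
  · intro h
    obtain ⟨a, b, rfl⟩ := (mem_unip hS).1 hx
    exact ⟨b, by rw [uS_sq_eq_one hS h]⟩
  · rintro ⟨b, rfl⟩
    rw [← pow_two, uS_sq, th_zero, zero_mul, uS_zero]

theorem commutator_unip (x : SZ) : x ∈ ⁅unip hS, unip hS⁆ ↔ x ∈ unip hS ∧ x * x = 1 := by
  constructor
  · intro h
    have hx : x ∈ unip hS := commutator_le_self _ h
    refine ⟨hx, (mem_omega_iff hS hx).2 ?_⟩
    have hmem : (⟨x, hx⟩ : unip hS) ∈ Subgroup.center (unip hS) := by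
      rw [center_unip_eq_commutator]
      rw [← Subgroup.map_subtype_commutator] at h
      obtain ⟨y, hy, hyx⟩ := h
      rwa [show (⟨x, hx⟩ : unip hS) = y from Subtype.ext hyx.symm]
    exact (center_unip_iff hS _).1 hmem
  · rintro ⟨hx, h⟩
    have hmem : (⟨x, hx⟩ : unip hS) ∈ commutator (unip hS) := by
      rw [← center_unip_eq_commutator]
      exact (center_unip_iff hS _).2 ((mem_omega_iff hS hx).1 h)
    rw [← Subgroup.map_subtype_commutator]
    exact ⟨_, hmem, rfl⟩

theorem ncard_omega : ({x | x ∈ unip hS ∧ x * x = 1} : Set SZ).ncard = Fintype.card F := by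
  rw [show ({x | x ∈ unip hS ∧ x * x = 1} : Set SZ) = Set.range fun b => uS hS 0 b from ?_,
    Set.ncard_range_of_injective fun b b' h => (uS_injective hS h).2, Nat.card_eq_fintype_card]
  ext x
  exact ⟨fun h => ((mem_omega_iff hS h.1).1 h.2).imp fun _ e => e.symm,
    fun ⟨b, hb⟩ => hb ▸ ⟨uS_mem hS 0 b, (mem_omega_iff hS (uS_mem hS 0 b)).2 ⟨b, rfl⟩⟩⟩

/-- The classes of the elements of order four in the radical have `q / 2` elements. -/
theorem class_unip {a b : F} (ha : a ≠ 0) :
    2 * ((fun s => s * uS hS a b * s⁻¹) '' (unip hS : Set SZ)).ncard = Fintype.card F := by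
  haveI : CharP F 2 := charP hS
  let f : F →+ F := AddMonoidHom.mk' (fun c => th m c * a + th m a * c) fun c c' => by
    rw [th_add hS]; ring
  have hf : ∀ c, f c = th m c * a + th m a * c := fun c => rfl
  have hker : Nat.card f.ker = 2 := by
    show Nat.card ↥(f.ker : Set F) = 2
    rw [← Nat.card_congr (Equiv.setCongr (s := ({0, a} : Set F)) (t := (f.ker : Set F)) ?_)]
    · rw [Nat.card_coe_set_eq, Set.ncard_pair (Ne.symm ha)]
    ext c
    simp only [Set.mem_insert_iff, Set.mem_singleton_iff, SetLike.mem_coe, AddMonoidHom.mem_ker, hf]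
    constructor
    · rintro (rfl | rfl)
      · rw [th_zero]; ring
      · linear_combination (th m c * c) * two hS
    · intro h
      have h1 : th m (c / a) = c / a := by
        rw [th_div, div_eq_div_iff (th_ne_zero ha) ha]
        linear_combination h - (th m a * c) * two hS
      rcases th_fixed hS h1 with e | e
      · exact Or.inl ((div_eq_zero_iff.1 e).resolve_right ha)
      · exact Or.inr ((div_eq_one_iff_eq ha).1 e)
  have himg : (fun s => s * uS hS a b * s⁻¹) '' (unip hS : Set SZ) =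
      (fun w => uS hS a (b + w)) '' (f.range : Set F) := by
    have key : ∀ c d, uS hS c d * uS hS a b * (uS hS c d)⁻¹ = uS hS a (b + f c) := by
      intro c d
      rw [uS_inv, uS_mul, uS_mul, hf]
      congr 1
      · linear_combination c * two hS
      · rw [th_add hS]
        linear_combination (d + th m c * c) * two hS
    ext x
    constructor
    · rintro ⟨s, hs, rfl⟩
      obtain ⟨c, d, rfl⟩ := (mem_unip hS).1 hs
      exact ⟨f c, ⟨c, rfl⟩, (key c d).symm⟩
    · rintro ⟨_, ⟨c, rfl⟩, rfl⟩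
      exact ⟨uS hS c 0, uS_mem hS c 0, key c 0⟩
  rw [himg, Set.ncard_image_of_injective _ fun w w' h => add_left_cancel (uS_injective hS h).2,
    ← Nat.card_coe_set_eq, ← Nat.card_eq_fintype_card,
    show Nat.card (f.range : Set F) = f.ker.index from (AddSubgroup.index_ker f).symm,
    ← AddSubgroup.card_mul_index f.ker, hker]

/-- The torus is transitive on the involutions of the radical. -/
theorem torus_omega {b b' : F} (hb : b ≠ 0) (hb' : b' ≠ 0) :
    ∃ z : Fˣ, hTor hS z * uS hS 0 b * (hTor hS z)⁻¹ = uS hS 0 b' := by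
  obtain ⟨z, hz⟩ := exists_th_unit hS (b' / b) (div_ne_zero hb' hb)
  exact ⟨z, by rw [hTor_conj, mul_zero, hz, div_mul_cancel₀ _ hb]⟩

/-- The torus is transitive on the radical modulo its involutions. -/
theorem torus_quot {a b a' b' : F} (ha : a ≠ 0) (ha' : a' ≠ 0) :
    ∃ z : Fˣ, hTor hS z * uS hS a b * (hTor hS z)⁻¹ * (uS hS a' b')⁻¹ *
      (hTor hS z * uS hS a b * (hTor hS z)⁻¹ * (uS hS a' b')⁻¹) = 1 := by
  obtain ⟨z, hz⟩ := exists_par hS (Units.mk0 (a' / a) (div_ne_zero ha' ha))
  refine ⟨z, ?_⟩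
  rw [hTor_conj, uS_inv, uS_mul, show par m (z : F) * a + a' = 0 from ?_, ← pow_two, uS_sq, th_zero, zero_mul,
    uS_zero]
  rw [hz, Units.val_mk0, div_mul_cancel₀ _ ha]
  linear_combination a' * two hS

theorem torus_mem_normalizer (z : Fˣ) : hTor hS z ∈ normalizer (unip hS : Set SZ) :=
  borel_le_normalizer hS (hTor_mem_borel hS z)

/-- An automorphism of odd order centralising the radical is trivial. -/
theorem aut_fix_unip {φ : MulAut SZ} (hfix : ∀ u ∈ unip hS, φ u = u) (hodd : Odd (orderOf φ)) : φ = 1 := by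
  haveI : CharP F 2 := charP hS
  obtain ⟨g, σ, hφ⟩ := exists_decomp hS φ
  have key : ∀ a b, g * uS hS (σ a) (σ b) * g⁻¹ = uS hS a b := by
    intro a b
    have h := hfix _ (uS_mem hS a b)
    rw [hφ, MulAut.mul_apply, fieldAut_uS] at h
    exact h
  have hg : g ∈ borel m F := mem_borel_of_conj_mem hS (uS_mem hS (σ 1) (σ 0))
    (uS_ne_one hS (by simp)) (by rw [key]; exact uS_mem hS 1 0)
  obtain ⟨c, d, z, rfl⟩ := borel_eq hS hg
  have hcoord : ∀ a, par m (z : F) * σ a = a := by
    intro a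
    have h := key a 0
    rw [show uS hS c d * hTor hS z * uS hS (σ a) (σ 0) * (uS hS c d * hTor hS z)⁻¹ =
      uS hS c d * (hTor hS z * uS hS (σ a) (σ 0) * (hTor hS z)⁻¹) * (uS hS c d)⁻¹ by group, hTor_conj,
      uS_inv, uS_mul, uS_mul] at h
    have h' := (uS_injective hS h).1
    linear_combination h' - c * two hS
  have hz : z = 1 := par_eq_one hS (by simpa using hcoord 1)
  subst hz
  have hσ : σ = 1 := RingEquiv.ext fun a => by
    have := hcoord a
    rwa [show par m ((1 : Fˣ) : F) = 1 by simp [par, th_one], one_mul] at this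
  subst hσ
  have hfe : fieldAut hS (1 : F ≃+* F) = 1 := by
    refine MulEquiv.toMonoidHom_injective (aut_ext hS (fun a b => ?_) (fun z => ?_) ?_)
    · exact fieldAut_uS hS 1 a b
    · exact (fieldAut_hTor hS 1 z).trans (by
        congr 1)
    · exact fieldHom_wS hS hS (RingEquiv.refl F).toRingHom fun _ => rfl
  rw [hfe, mul_one, hTor_one, mul_one] at hφ
  have h4 : φ ^ 4 = 1 := by
    rw [hφ, ← map_pow, pow_four_unip hS (uS_mem hS c d), map_one]
  have h1 : orderOf φ = 1 := Nat.eq_one_of_dvd_coprimes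
    (show Nat.Coprime (orderOf φ) (2 ^ 2) from (Nat.coprime_two_right.2 hodd).pow_right 2)
    dvd_rfl (orderOf_dvd_of_pow_eq_one h4)
  exact orderOf_eq_one_iff.1 h1

/-- The involution `wS` inverts an element of prime order at least seven. -/
theorem wS_inverts : ∃ (p : ℕ) (y : SZ), p.Prime ∧ 7 ≤ p ∧ orderOf y = p ∧ wS hS * y * (wS hS)⁻¹ = y⁻¹ := by
  classical
  have h1 : 1 < 2 ^ (2 * m + 1) - 1 := by
    have := eight_le hS; rw [hS.card] at this; omega
  have hp : (2 ^ (2 * m + 1) - 1).minFac.Prime := Nat.minFac_prime (by omega)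
  obtain ⟨p, hpd, hpp⟩ : ∃ p, p ∣ 2 ^ (2 * m + 1) - 1 ∧ p.Prime := ⟨_, Nat.minFac_dvd _, hp⟩
  have hp7 : 7 ≤ p := by
    have hge : 1 ≤ 2 ^ (2 * m + 1) := Nat.one_le_two_pow
    have h2 : p ≠ 2 := by
      rintro rfl
      obtain ⟨k, hk⟩ := hpd
      rw [pow_succ] at hge hk
      omega
    have h3 : p ≠ 3 := by
      rintro rfl
      obtain ⟨k, hk⟩ := hpd
      have h : 2 ^ (2 * m + 1) % 3 = 2 := by rw [pow_succ, pow_mul, Nat.mul_mod, Nat.pow_mod]; norm_num
      omega
    have h5 : p ≠ 5 := by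
      rintro rfl
      obtain ⟨k, hk⟩ := hpd
      have h : 2 ^ (2 * m + 1) % 5 = 2 ∨ 2 ^ (2 * m + 1) % 5 = 3 := by
        rcases Nat.even_or_odd m with ⟨j, hj⟩ | ⟨j, hj⟩
        · left
          rw [hj, show 2 * (j + j) + 1 = 4 * j + 1 by ring, pow_succ, pow_mul, Nat.mul_mod, Nat.pow_mod]
          norm_num
        · right
          rw [hj, show 2 * (2 * j + 1) + 1 = 4 * j + 3 by ring, pow_add, pow_mul, Nat.mul_mod, Nat.pow_mod]
          norm_num
      omega
    have h4 : p ≠ 4 := fun e => by rw [e] at hpp; norm_num at hpp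
    have h6 : p ≠ 6 := fun e => by rw [e] at hpp; norm_num at hpp
    have := hpp.two_le
    omega
  haveI := Fact.mk hpp
  obtain ⟨z, hz⟩ := exists_prime_orderOf_dvd_card' (G := Fˣ) p (by
    rw [Nat.card_eq_fintype_card, Fintype.card_units, hS.card]; exact hpd)
  refine ⟨p, hTor hS z, hpp, hp7, ?_, ?_⟩
  · rw [← hz]
    exact orderOf_injective (torHom hS) (hTor_injective hS) z
  · rw [hTor_inv, wS_hTor, mul_inv_cancel_right]

theorem wS_involution : wS hS * wS hS = 1 ∧ wS hS ≠ 1 := by
  refine ⟨wS_sq hS, fun e => ?_⟩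
  have h := wS_inf hS
  rw [e, one_smul] at h
  exact pt_ne hS (Option.some_ne_none ((0 : F), (0 : F))).symm h

end Cfsg.Agent.Invol.ThreeFree
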